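import Cfsg.Agent.Lib.TwoPointStab.Count
import Cfsg.Agent.Lib.OddOrder.Solvable
import Mathlib.GroupTheory.Solvable

/-!
# A normal subgroup of odd order yields a regular normal subgroup
-/

set_option autoImplicit false

namespace CfsgLib.TwoPointStab

open MulAction

theorem regular_of_odd_normal {G : Type*} [Group G] [Finite G] {Ω : Type*} [MulAction G Ω]
    (hP : Pairs G Ω) (hf : ∀ g : G, (∀ p : Ω, g • p = p) → g = 1) (O : Subgroup G) [O.Normal]
    (hodd : Odd (Nat.card ↥O)) (hne : O ≠ ⊥) :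
    ∃ N : Subgroup G, N.Normal ∧ IsPretransitive ↥N Ω ∧ ∀ x : Ω, stabilizer ↥N x = ⊥ := by
  classical
  haveI hsol : Group.IsSolvable ↥O := CfsgLib.OddOrder.odd_order_solvable hodd
  let D : ℕ → Subgroup G := fun i => (derivedSeries ↥O i).map O.subtype
  have hD0 : D 0 = O := by
    show (derivedSeries ↥O 0).map O.subtype = O
    rw [derivedSeries_zero, ← MonoidHom.range_eq_map, Subgroup.range_subtype]
  have hDs : ∀ i, D (i + 1) = ⁅D i, D i⁆ := fun i => by
    show (derivedSeries ↥O (i + 1)).map O.subtype = _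
    rw [derivedSeries_succ, Subgroup.map_commutator]
  have hDn : ∀ i, (D i).Normal := by
    intro i
    induction i with
    | zero => rw [hD0]; infer_instance
    | succ i ih => rw [hDs]; haveI := ih; exact Subgroup.commutator_normal _ _
  have hex : ∃ i, D i = ⊥ := by
    obtain ⟨i, hi⟩ := hsol.solvable
    exact ⟨i, by show (derivedSeries ↥O i).map O.subtype = ⊥; rw [hi, Subgroup.map_bot]⟩
  obtain ⟨j, hj⟩ : ∃ j, Nat.find hex = j + 1 := by
    refine ⟨Nat.find hex - 1, ?_⟩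
    have : Nat.find hex ≠ 0 := fun e => hne (hD0 ▸ e ▸ Nat.find_spec hex)
    omega
  set N := D j with hNdef
  haveI hNn : N.Normal := hDn j
  have hNne : N ≠ ⊥ := Nat.find_min hex (by omega)
  have hab : ∀ x ∈ N, ∀ y ∈ N, x * y = y * x := by
    have h := Nat.find_spec hex
    rw [hj, hDs, ← hNdef, Subgroup.commutator_eq_bot_iff_le_centralizer] at h
    exact fun x hx y hy => (Subgroup.mem_centralizer_iff.mp (h hy) x hx)
  obtain ⟨m, hm, hm1⟩ : ∃ m ∈ N, m ≠ 1 := by
    obtain ⟨⟨m, hm⟩, hm1⟩ := Subgroup.ne_bot_iff_exists_ne_one.mp hNne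
    exact ⟨m, hm, fun e => hm1 (Subtype.ext e)⟩
  obtain ⟨p, hp⟩ : ∃ p : Ω, m • p ≠ p := by
    by_contra hc
    push Not at hc
    exact hm1 (hf m hc)
  haveI htr : IsPretransitive ↥N Ω := ⟨fun c d => by
    by_cases hcd : c = d
    · exact ⟨1, by rw [one_smul, hcd]⟩
    · obtain ⟨g, hg1, hg2⟩ := hP p (m • p) c d (Ne.symm hp) hcd
      exact ⟨⟨g * m * g⁻¹, hNn.conj_mem m hm g⟩, by
        show (g * m * g⁻¹) • c = d
        rw [← hg1, smul_conj_smul, hg2]⟩⟩
  refine ⟨N, hNn, htr, fun x => (Subgroup.eq_bot_iff_forall _).mpr fun g hg => ?_⟩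
  refine Subtype.ext (hf g fun q => ?_)
  obtain ⟨n, rfl⟩ := exists_smul_eq ↥N x q
  show (g : G) • ((n : G) • x) = (n : G) • x
  rw [← mul_smul, hab g g.2 n n.2, mul_smul]
  exact congrArg ((n : G) • ·) (mem_stabilizer_iff.mp hg)

end CfsgLib.TwoPointStab
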