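import Cfsg.Agent.Lib.SmallCent.Klein
import Cfsg.Agent.S4480
import Cfsg.Agent.S4482
import Cfsg.Agent.S0203

/-!
# The order formulas in integral form
-/

set_option autoImplicit false
set_option linter.unusedSectionVars false

namespace CfsgLib.TwoPointStab

open Cfsg CfsgLib
open scoped CfsgLib.Char

universe u

variable {H : Type u} [Group H] [Finite H]

/-- Klein four Sylow subgroups and one class of involutions: the two possible shapes of the order. -/
theorem klein_shape (P : Sylow 2 H) (hP : IsKleinFour (P : Subgroup H))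
    (hone : ∀ s t : H, orderOf s = 2 → orderOf t = 2 → IsConj s t) {J : H} (hJ : J ∈ (P : Subgroup H))
    (hJo : orderOf J = 2) {n k : ℕ}
    (hn : Nat.card (Subgroup.centralizer ({J} : Set H)) =
      Nat.card (Subgroup.centralizer ((P : Subgroup H) : Set H)) * n)
    (hk : Nat.card H = Nat.card (Subgroup.centralizer ({J} : Set H)) * k) :
    (∃ m : ℕ, m ∣ n ∧ k + 6 * m * n = 8 * n ^ 2 + m ^ 2) ∨
    ∃ d₁ d₂ : ℕ, d₁ % 4 = 3 ∧ d₂ % 4 = 3 ∧ d₁ ≤ d₂ ∧
      k * ((d₁ - 1) * (d₂ - 1) * (d₁ + d₂)) = 8 * n ^ 2 * (d₁ * d₂ * (d₁ + d₂ - 1)) := by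
  classical
  letI := Fintype.ofFinite H
  haveI := Fact.mk Nat.prime_two
  haveI := hP
  obtain ⟨M, hM⟩ := Blocks.exists_isPModular Nat.prime_two
  obtain ⟨Z, a, hcard, hmem, hT, hT1, hpm, hcong, hval, hrel⟩ := Invol.klein_block hM P hP hone
  set t := Blocks.trivIrr H with ht
  set C := Nat.card (Subgroup.centralizer ({J} : Set H)) with hCdef
  set c := Nat.card (Subgroup.centralizer ((P : Subgroup H) : Set H)) with hcdef
  have hC0 : 0 < C := Nat.card_pos
  have hc0 : 0 < c := Nat.card_pos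
  obtain ⟨p, q, r, hpq, hpr, hqr, hpqr⟩ := Finset.card_eq_three.mp
    (show (Z.erase t).card = 3 by rw [Finset.card_erase_of_mem hT, hcard])
  have hin : ∀ χ ∈ ({p, q, r} : Finset (IrrCharacter H)), χ ∈ Z ∧ χ ≠ t := fun χ hχ => by
    rw [← hpqr, Finset.mem_erase] at hχ; exact ⟨hχ.2, hχ.1⟩
  obtain ⟨hpZ, hpt⟩ := hin p (by simp)
  obtain ⟨hqZ, hqt⟩ := hin q (by simp)
  obtain ⟨hrZ, hrt⟩ := hin r (by simp)
  have hd : ∀ χ : IrrCharacter H, (χ : H → ℂ) 1 = (charDegree (χ : H → ℂ) : ℂ) ∧ 0 < charDegree (χ : H → ℂ) :=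
    fun χ => Blocks.irr_degree_eq χ
  have hsum : (1 : ℤ) + (a p * charDegree (p : H → ℂ) + (a q * charDegree (q : H → ℂ) +
      a r * charDegree (r : H → ℂ))) = 0 := by
    have h := hrel 1 (by simp)
    rw [← Finset.add_sum_erase Z _ hT, hpqr, hT1, show (t : H → ℂ) 1 = 1 from rfl,
      Finset.sum_insert (by simp [hpq, hpr]), Finset.sum_pair hqr, (hd p).1, (hd q).1, (hd r).1] at h
    have h' : (((1 : ℤ) + (a p * charDegree (p : H → ℂ) + (a q * charDegree (q : H → ℂ) +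
        a r * charDegree (r : H → ℂ))) : ℤ) : ℂ) = ((0 : ℤ) : ℂ) := by push_cast; linear_combination h
    exact_mod_cast h'
  have hform : (Nat.card H : ℂ) * (1 + ((a p : ℂ) / (charDegree (p : H → ℂ) : ℂ) +
      ((a q : ℂ) / (charDegree (q : H → ℂ) : ℂ) + (a r : ℂ) / (charDegree (r : H → ℂ) : ℂ)))) =
      8 * (C : ℂ) ^ 3 / (c : ℂ) ^ 2 := by
    have h := Invol.klein_order_formula hM P hP hone hJ hJo
    have hfil : (Finset.univ.filter fun χ : IrrCharacter H => χ ∈ principalBlock M H) = Z :=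
      Finset.ext fun χ => by simp [hmem]
    have h2 : 2 ∣ orderOf J := by rw [hJo]
    rw [hfil, ← Finset.add_sum_erase Z _ hT, hpqr, show (t : H → ℂ) J = 1 from rfl,
      show (t : H → ℂ) 1 = 1 from rfl, div_one, Finset.sum_insert (by simp [hpq, hpr]), Finset.sum_pair hqr,
      hval p hpZ J h2, hval q hqZ J h2, hval r hrZ J h2, (hd p).1, (hd q).1, (hd r).1] at h
    exact h
  -- the positive-product shape, via the stated theorem
  have caseA : ∀ x y z : IrrCharacter H, x ≠ y → x ≠ z → y ≠ z → ({x, y, z} : Finset (IrrCharacter H)) = {p, q, r} →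
      a x = 1 → a y = 1 → a z = -1 → ∃ m : ℕ, m ∣ n ∧ k + 6 * m * n = 8 * n ^ 2 + m ^ 2 := by
    intro x y z hxy hxz hyz he hax hay haz
    have hin' : ∀ χ ∈ ({x, y, z} : Finset (IrrCharacter H)), χ ∈ Z ∧ χ ≠ t := fun χ hχ => hin χ (he ▸ hχ)
    have hne : ∀ χ : IrrCharacter H, χ ≠ t → (χ : H → ℂ) ≠ fun _ => 1 := fun χ hχ e => hχ (Subtype.ext e)
    have hidx : (P : Subgroup H).index * 4 = Nat.card H := by
      rw [← (P : Subgroup H).index_mul_card, IsKleinFour.card_four]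
    have hg : Odd (P : Subgroup H).index := Nat.odd_iff.mpr (by have := P.not_dvd_index; omega)
    have hB : principalBlock M H = {χ : IrrCharacter H | (χ : H → ℂ) = (fun _ => 1) ∨ χ = x ∨ χ = y ∨ χ = z} := by
      ext χ
      rw [← hmem, ← Finset.insert_erase hT, hpqr, ← he, Set.mem_setOf_eq]
      simp only [Finset.mem_insert, Finset.mem_singleton]
      exact or_congr ⟨fun e => by rw [e]; rfl, fun e => Subtype.ext e⟩ Iff.rfl
    have h2 : 2 ∣ orderOf J := by rw [hJo]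
    obtain ⟨m, h1, h8⟩ := Cfsg.Agent.S4480.result M hM (P : Subgroup H).index hg (by rw [← hidx, mul_comm])
      (fun ⟨N, hN, hNc⟩ => by
        have hco : Subgroup.IsComplement' N (P : Subgroup H) := Subgroup.isComplement'_of_coprime
          (by rw [hNc, IsKleinFour.card_four, hidx])
          (by rw [hNc, IsKleinFour.card_four, show (4 : ℕ) = 2 ^ 2 by norm_num]
              exact ((Nat.prime_two.coprime_iff_not_dvd).mpr P.not_dvd_index).symm.pow_right 2)
        have h3 := (Cfsg.Agent.S0203.result P hP).mpr ⟨N, hN, hco⟩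
        haveI : Subsingleton {C : ConjClasses H // ∃ s : H, orderOf s = 2 ∧ ConjClasses.mk s = C} :=
          ⟨fun ⟨_, s, hs, hse⟩ ⟨_, s', hs', hse'⟩ => Subtype.ext
            ((hse.symm.trans (ConjClasses.mk_eq_mk_iff_isConj.mpr (hone s s' hs hs'))).trans hse')⟩
        have := Finite.card_le_one_iff_subsingleton.mpr this
        omega)
      P J hJ hJo x y z 1 1 (-1) hB
      ⟨hne x (hin' x (by simp)).2, hne y (hin' y (by simp)).2, hne z (hin' z (by simp)).2, hxy, hxz, hyz⟩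
      ⟨Or.inl rfl, Or.inl rfl, Or.inr rfl⟩
      ⟨by rw [hval x (hin' x (by simp)).1 J h2, hax], by rw [hval y (hin' y (by simp)).1 J h2, hay],
        by rw [hval z (hin' z (by simp)).1 J h2, haz]⟩ (by norm_num) rfl
    set d := charDegree (z : H → ℂ) with hddef
    have hd4 : (4 : ℤ) ∣ (d : ℤ) + 1 := by
      have h := hcong z (hin' z (by simp)).1
      rw [haz] at h
      simpa using h
    obtain ⟨e, he4⟩ : ∃ e, d + 1 = 4 * e := Int.natCast_dvd_natCast.mp (by exact_mod_cast hd4)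
    have he0 : 0 < e := by omega
    obtain ⟨e', rfl⟩ : ∃ e', e = e' + 1 := ⟨e - 1, by omega⟩
    have hd' : d = 4 * e' + 3 := by omega
    rw [← hCdef, ← hcdef, hn, hd'] at h1
    have hn' : n = m * (e' + 1) :=
      Nat.eq_of_mul_eq_mul_left (show 0 < 4 * c by omega) (by linarith)
    refine ⟨m, Dvd.intro _ hn'.symm, ?_⟩
    rw [← hcdef, hk, hn, hd', show (4 * e' + 3) ^ 3 - (4 * e' + 3) =
      (4 * e' + 3) * (4 * e' + 2) * (4 * e' + 4) from Nat.sub_eq_of_eq_add (by ring)] at h8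
    subst hn'
    have hm0 : 0 < m := by
      rcases Nat.eq_zero_or_pos m with rfl | h
      · simp at hn; omega
      · exact h
    have : k = m ^ 2 * ((4 * e' + 3) * (2 * e' + 1)) :=
      Nat.eq_of_mul_eq_mul_left (show 0 < 8 * (c * (m * (e' + 1))) by positivity) (by linarith)
    rw [this]
    ring
  -- the other shape
  have caseB : ∀ x y z : IrrCharacter H, x ∈ Z → y ∈ Z → a x = -1 → a y = -1 →
      (1 : ℤ) + charDegree (z : H → ℂ) = charDegree (x : H → ℂ) + charDegree (y : H → ℂ) →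
      (Nat.card H : ℂ) * (1 - 1 / (charDegree (x : H → ℂ) : ℂ) - 1 / (charDegree (y : H → ℂ) : ℂ) +
        1 / (charDegree (z : H → ℂ) : ℂ)) = 8 * (C : ℂ) ^ 3 / (c : ℂ) ^ 2 →
      ∃ d₁ d₂ : ℕ, d₁ % 4 = 3 ∧ d₂ % 4 = 3 ∧ d₁ ≤ d₂ ∧
        k * ((d₁ - 1) * (d₂ - 1) * (d₁ + d₂)) = 8 * n ^ 2 * (d₁ * d₂ * (d₁ + d₂ - 1)) := by
    intro x y z hxZ hyZ hax hay hz hf
    have hx4 := hcong x hxZ
    have hy4 := hcong y hyZ
    rw [hax] at hx4
    rw [hay] at hy4
    set d₁ := charDegree (x : H → ℂ) with hd₁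
    set d₂ := charDegree (y : H → ℂ) with hd₂
    set d₃ := charDegree (z : H → ℂ) with hd₃
    have h1 : d₁ % 4 = 3 := by have := (hd x).2; omega
    have h2 : d₂ % 4 = 3 := by have := (hd y).2; omega
    obtain ⟨e₁, he₁⟩ : ∃ e, d₁ = e + 1 := ⟨d₁ - 1, by omega⟩
    obtain ⟨e₂, he₂⟩ : ∃ e, d₂ = e + 1 := ⟨d₂ - 1, by omega⟩
    have he₃ : d₃ = e₁ + e₂ + 1 := by omega
    have key : k * (e₁ * e₂ * (d₁ + d₂)) = 8 * n ^ 2 * (d₁ * d₂ * d₃) := by
      refine Nat.cast_injective (R := ℂ) ?_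
      rw [he₁, he₂, he₃] at hf ⊢
      rw [hk, hn] at hf
      have hn0 : n ≠ 0 := by rintro rfl; simp at hn; omega
      have hcC : (c : ℂ) ≠ 0 := Nat.cast_ne_zero.mpr hc0.ne'
      have hnC : (n : ℂ) ≠ 0 := Nat.cast_ne_zero.mpr hn0
      have n1 : ((e₁ : ℂ) + 1) ≠ 0 := Nat.cast_add_one_ne_zero e₁
      have n2 : ((e₂ : ℂ) + 1) ≠ 0 := Nat.cast_add_one_ne_zero e₂
      have n3 : ((e₁ : ℂ) + e₂ + 1) ≠ 0 := by exact_mod_cast Nat.succ_ne_zero (e₁ + e₂)
      push_cast at hf ⊢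
      field_simp at hf
      linear_combination hf
    rcases le_total d₁ d₂ with hle | hle
    · refine ⟨d₁, d₂, h1, h2, hle, ?_⟩
      rw [show d₁ - 1 = e₁ by omega, show d₂ - 1 = e₂ by omega, show d₁ + d₂ - 1 = d₃ by omega]
      exact key
    · refine ⟨d₂, d₁, h2, h1, hle, ?_⟩
      rw [show d₁ - 1 = e₁ by omega, show d₂ - 1 = e₂ by omega, show d₂ + d₁ - 1 = d₃ by omega]
      linarith
  have hp0 := (hd p).2
  have hq0 := (hd q).2
  have hr0 := (hd r).2
  rcases hpm p hpZ with hp | hp <;> rcases hpm q hqZ with hq | hq <;> rcases hpm r hrZ with hr | hr <;>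
    rw [hp, hq, hr] at hsum hform
  · exfalso; omega
  · exact Or.inl (caseA p q r hpq hpr hqr rfl hp hq hr)
  · exact Or.inl (caseA p r q hpr hpq hqr.symm (by ext; simp; tauto) hp hr hq)
  · refine Or.inr (caseB q r p hqZ hrZ hq hr (by linarith) ?_)
    rw [← hform]; push_cast; ring
  · exact Or.inl (caseA q r p hqr hpq.symm hpr.symm (by ext; simp; tauto) hq hr hp)
  · refine Or.inr (caseB p r q hpZ hrZ hp hr (by linarith) ?_)
    rw [← hform]; push_cast; ring
  · refine Or.inr (caseB p q r hpZ hqZ hp hq (by linarith) ?_)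
    rw [← hform]; push_cast; ring
  · exfalso; omega

/-- Dihedral Sylow subgroups and one class of involutions: the order in integral form. -/
theorem dihedral_shape {m : ℕ} (P : Sylow 2 H) {σ τ : H} (D : DihBlock.Data P σ τ m)
    (hone : ∀ s t : H, orderOf s = 2 → orderOf t = 2 → IsConj s t) {c N : ℕ}
    (hc1 : Nat.card (Subgroup.centralizer ({σ ^ m, τ} : Set H)) = c)
    (hc2 : Nat.card (Subgroup.centralizer ({σ ^ m, σ * τ} : Set H)) = c)
    (hN : Nat.card H = Nat.card (Subgroup.centralizer ({σ ^ m} : Set H)) * N) :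
    ∃ (d : ℕ) (δ : ℤ), 0 < d ∧ (δ = 1 ∨ δ = -1) ∧ (d : ℤ) ≠ δ ∧
      (N : ℤ) * c ^ 2 * ((d : ℤ) - δ) ^ 2 =
        8 * d * ((d : ℤ) + δ) * (Nat.card (Subgroup.centralizer ({σ ^ m} : Set H)) : ℤ) ^ 2 := by
  classical
  letI := Fintype.ofFinite H
  haveI := Fact.mk Nat.prime_two
  obtain ⟨M, hM⟩ := Blocks.exists_isPModular Nat.prime_two
  haveI := Blocks.isPrime_of_isPModular hM
  obtain ⟨k, hk0, hmk⟩ := D.pow_two
  obtain ⟨R⟩ := DihBlock.exists_rotations D hM (Complex.isPrimitiveRoot_exp (2 * m)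
    (by have := DihBlock.two_le D; omega))
  have hτ1 : τ ≠ 1 := fun e => by
    have h := D.rel
    rw [e, one_mul, inv_one, mul_one, eq_inv_iff_mul_eq_one] at h
    have : orderOf σ ∣ 2 := orderOf_dvd_of_pow_eq_one (by rw [pow_two, h])
    rw [D.ordσ] at this
    have := Nat.le_of_dvd (by norm_num) this
    have := DihBlock.two_le D
    omega
  have hτo : orderOf τ = 2 := orderOf_eq_prime (by rw [pow_two, D.sqτ]) hτ1
  have hgen : Subgroup.closure ({σ, τ} : Set H) = (P : Subgroup H) := by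
    refine le_antisymm ((Subgroup.closure_le _).mpr ?_) fun x hx => ?_
    · rintro x (rfl | rfl)
      · exact D.memσ
      · exact D.memτ
    · obtain ⟨i, rfl | rfl⟩ := D.cases x hx
      · exact pow_mem (Subgroup.subset_closure (by simp)) i
      · exact mul_mem (pow_mem (Subgroup.subset_closure (by simp)) i) (Subgroup.subset_closure (by simp))
  have hzo : orderOf (σ ^ m) = 2 := by
    rw [orderOf_pow' σ (by have := DihBlock.two_le D; omega), D.ordσ, Nat.gcd_mul_left_left,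
      Nat.mul_div_cancel _ (by have := DihBlock.two_le D; omega)]
  have hστo : orderOf (σ * τ) = 2 := by
    refine orderOf_eq_prime ?_ ?_
    · rw [pow_two, show σ * τ * (σ * τ) = σ * (τ * σ * τ⁻¹) * (τ * τ) by group, D.rel, D.sqτ, mul_inv_cancel,
        one_mul]
    · intro e
      have h : σ = τ⁻¹ := eq_inv_of_mul_eq_one_left e
      have h2 := D.ordσ
      rw [h, orderOf_inv, hτo] at h2
      have := DihBlock.two_le D
      omega
  have h2m : 2 ^ (k + 1) = 2 * m := by rw [pow_succ, hmk, mul_comm]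
  obtain ⟨hne, h⟩ := Cfsg.Agent.S4482.result M hM (k + 2) (by omega) P σ τ D.memσ D.memτ
    (by rw [show k + 2 - 1 = k + 1 by omega, h2m]; exact D.ordσ) hτo D.rel hgen
    (by rw [show k + 2 - 2 = k by omega, ← hmk]; exact ⟨hone _ _ hzo hτo, hone _ _ hzo hστo⟩)
    R.a R.mem_a (fun e => R.ne_a (Subtype.ext e)) R.δ R.signδ
    (fun l h0 hl => R.val_a l h0 (by rwa [show k + 2 - 1 = k + 1 by omega, h2m] at hl))
  rw [show k + 2 - 2 = k by omega, ← hmk, hc1, hc2, hN] at h
  refine ⟨charDegree (R.a : H → ℂ), R.δ, (Blocks.irr_degree_eq _).2, R.signδ, hne, ?_⟩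
  set C := Nat.card (Subgroup.centralizer ({σ ^ m} : Set H))
  have hC0 : (C : ℚ) ≠ 0 := Nat.cast_ne_zero.mpr Nat.card_pos.ne'
  have hc0 : (c : ℚ) ≠ 0 := Nat.cast_ne_zero.mpr (hc1 ▸ Nat.card_pos.ne')
  refine Int.cast_injective (α := ℚ) ?_
  push_cast at h ⊢
  field_simp at h
  linear_combination h

end CfsgLib.TwoPointStab
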