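import Mathlib.Data.Nat.Log
import Mathlib.Tactic.IntervalCases
import Mathlib.Tactic.Linarith
import Mathlib.Tactic.LinearCombination
import Mathlib.Tactic.Ring
import Mathlib.Algebra.Order.Ring.Int
import Mathlib.Tactic.NormNum

/-!
# Arithmetic for even degree
-/

set_option autoImplicit false
set_option synthInstance.maxSize 2000
set_option synthInstance.maxHeartbeats 400000
set_option maxHeartbeats 1000000

namespace CfsgLib.TwoPointStab

/-- The two shapes of the order of a group with a Klein four Sylow subgroup. -/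
def BlockEq (N P : ℕ) : Prop :=
  (∃ m : ℕ, m ∣ P ∧ N + 6 * m * P = 8 * P ^ 2 + m ^ 2) ∨
    ∃ d₁ d₂ : ℕ, d₁ % 4 = 3 ∧ d₂ % 4 = 3 ∧ d₁ ≤ d₂ ∧
      N * ((d₁ - 1) * (d₂ - 1) * (d₁ + d₂)) = 8 * P ^ 2 * (d₁ * d₂ * (d₁ + d₂ - 1))

/-- The possible numbers of conjugates of the involution swapping two given points. -/
def SwapVals (u a : ℕ) : Prop :=
  (u = 3 ∧ (a = 1 ∨ a = 3 ∨ a = 4 ∨ a = 6)) ∨ (u = 15 ∧ (a = 1 ∨ a = 10 ∨ a = 15 ∨ a = 16))

theorem caseB_bound {N P d₁ d₂ : ℕ} (h1 : d₁ % 4 = 3) (h2 : d₂ % 4 = 3) (hle : d₁ ≤ d₂) (hN : 0 < N)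
    (h : N * ((d₁ - 1) * (d₂ - 1) * (d₁ + d₂)) = 8 * P ^ 2 * (d₁ * d₂ * (d₁ + d₂ - 1))) :
    ((d₂ : ℤ) * (d₂ + d₁ - 1) * ((N : ℤ) * (d₁ - 1) - 8 * P ^ 2 * d₁) = N * d₁ * (d₁ - 1)) ∧
      8 * (P : ℤ) ^ 2 * d₁ < N * (d₁ - 1) ∧
      (2 * (d₁ : ℤ) - 1) * ((N : ℤ) * (d₁ - 1) - 8 * P ^ 2 * d₁) ≤ N * (d₁ - 1) ∧
      (2 * (d₁ : ℤ) - 1) * ((N : ℤ) - 8 * P ^ 2) < 3 * N ∧ (d₂ : ℤ) * d₂ ≤ N * d₁ * (d₁ - 1) := by
  have hd1 : (3 : ℤ) ≤ d₁ := by omega
  have hd2 : (d₁ : ℤ) ≤ d₂ := by omega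
  have h' : ((N * ((d₁ - 1) * (d₂ - 1) * (d₁ + d₂)) : ℕ) : ℤ) =
      ((8 * P ^ 2 * (d₁ * d₂ * (d₁ + d₂ - 1)) : ℕ) : ℤ) := by exact_mod_cast h
  push_cast [Nat.cast_sub (show 1 ≤ d₁ by omega), Nat.cast_sub (show 1 ≤ d₂ by omega),
    Nat.cast_sub (show 1 ≤ d₁ + d₂ by omega)] at h'
  set A : ℤ := (N : ℤ) * (d₁ - 1) - 8 * P ^ 2 * d₁ with hA
  have key : (d₂ : ℤ) * (d₂ + d₁ - 1) * A = N * d₁ * (d₁ - 1) := by rw [hA]; linear_combination h'
  have hX : (d₁ : ℤ) * (2 * d₁ - 1) ≤ d₂ * (d₂ + d₁ - 1) :=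
    mul_le_mul hd2 (by linarith) (by linarith) (by linarith)
  have hXpos : (0 : ℤ) < d₂ * (d₂ + d₁ - 1) := lt_of_lt_of_le (by nlinarith) hX
  have hNz : (0 : ℤ) < N := by exact_mod_cast hN
  have hrhs : (0 : ℤ) < N * d₁ * (d₁ - 1) := mul_pos (mul_pos hNz (by linarith)) (by linarith)
  have hApos : 0 < A := (mul_pos_iff_of_pos_left hXpos).mp (key ▸ hrhs)
  have hb : (2 * (d₁ : ℤ) - 1) * A ≤ N * (d₁ - 1) := by
    refine le_of_mul_le_mul_left ?_ (show (0 : ℤ) < d₁ by linarith)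
    calc (d₁ : ℤ) * ((2 * d₁ - 1) * A) = d₁ * (2 * d₁ - 1) * A := by ring
      _ ≤ d₂ * (d₂ + d₁ - 1) * A := mul_le_mul_of_nonneg_right hX hApos.le
      _ = d₁ * (N * (d₁ - 1)) := by rw [key]; ring
  refine ⟨key, by linarith, hb, ?_, ?_⟩
  · refine lt_of_mul_lt_mul_left ?_ (show (0 : ℤ) ≤ d₁ by linarith)
    calc (d₁ : ℤ) * ((2 * d₁ - 1) * ((N : ℤ) - 8 * P ^ 2)) = (2 * d₁ - 1) * A + (2 * d₁ - 1) * N := by
          rw [hA]; ring
      _ ≤ N * (d₁ - 1) + (2 * d₁ - 1) * N := by linarith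
      _ < d₁ * (3 * N) := by linarith
  · calc (d₂ : ℤ) * d₂ ≤ d₂ * (d₂ + d₁ - 1) * 1 := by nlinarith
      _ ≤ d₂ * (d₂ + d₁ - 1) * A := mul_le_mul_of_nonneg_left hApos hXpos.le
      _ = N * d₁ * (d₁ - 1) := key

/-- A finite search for the second shape. -/
def NoHit (N P B D : ℕ) : Prop :=
  ∀ d₁ < B, d₁ % 4 = 3 → 8 * P ^ 2 * d₁ < N * (d₁ - 1) →
    (N * (d₁ - 1) - 8 * P ^ 2 * d₁) ∣ N * d₁ * (d₁ - 1) →
      ∀ q < D, ∀ r < 64, (64 * q + r) * (64 * q + r + d₁ - 1) * (N * (d₁ - 1) - 8 * P ^ 2 * d₁) ≠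
        N * d₁ * (d₁ - 1)

instance (N P B D : ℕ) : Decidable (NoHit N P B D) := by unfold NoHit; infer_instance

theorem no_hit {N P B D : ℕ} (h : NoHit N P B D) (hN : 0 < N) (hE : 8 * P ^ 2 < N)
    (hB : 3 * (N : ℤ) ≤ (2 * (B : ℤ) - 1) * ((N : ℤ) - 8 * P ^ 2)) (hD : N * (B * B) ≤ (64 * D) * (64 * D))
    {d₁ d₂ : ℕ} (h1 : d₁ % 4 = 3) (h2 : d₂ % 4 = 3) (hle : d₁ ≤ d₂)
    (he : N * ((d₁ - 1) * (d₂ - 1) * (d₁ + d₂)) = 8 * P ^ 2 * (d₁ * d₂ * (d₁ + d₂ - 1))) : False := by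
  obtain ⟨key, hpos, -, hb, hd⟩ := caseB_bound h1 h2 hle hN he
  have hlt : d₁ < B := by
    by_contra hc
    push Not at hc
    have hz : (B : ℤ) ≤ d₁ := by exact_mod_cast hc
    have hEz : (0 : ℤ) ≤ (N : ℤ) - 8 * P ^ 2 := by
      have : ((8 * P ^ 2 : ℕ) : ℤ) ≤ N := by exact_mod_cast hE.le
      push_cast at this
      linarith
    nlinarith [mul_le_mul_of_nonneg_right (show 2 * (B : ℤ) - 1 ≤ 2 * d₁ - 1 by linarith) hEz]
  have hpos' : 8 * P ^ 2 * d₁ < N * (d₁ - 1) := by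
    have : ((8 * P ^ 2 * d₁ : ℕ) : ℤ) < ((N * (d₁ - 1) : ℕ) : ℤ) := by
      push_cast [Nat.cast_sub (show 1 ≤ d₁ by omega)]
      linarith
    exact_mod_cast this
  have key' : d₂ * (d₂ + d₁ - 1) * (N * (d₁ - 1) - 8 * P ^ 2 * d₁) = N * d₁ * (d₁ - 1) := by
    refine Nat.cast_injective (R := ℤ) ?_
    push_cast [Nat.cast_sub (show 1 ≤ d₂ + d₁ by omega), Nat.cast_sub hpos'.le,
      Nat.cast_sub (show 1 ≤ d₁ by omega)]
    linarith
  have hd' : d₂ * d₂ < (64 * D) * (64 * D) := by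
    have hz : (d₁ : ℤ) + 1 ≤ B := by exact_mod_cast hlt
    have h0 : (d₁ : ℤ) * ((d₁ : ℤ) - 1) < (B : ℤ) * B := by nlinarith
    have : ((d₂ * d₂ : ℕ) : ℤ) < ((N * (B * B) : ℕ) : ℤ) := by
      push_cast
      calc (d₂ : ℤ) * d₂ ≤ N * d₁ * (d₁ - 1) := hd
        _ < N * ((B : ℤ) * B) := by
          rw [mul_assoc]; exact mul_lt_mul_of_pos_left h0 (by exact_mod_cast hN)
    have := lt_of_lt_of_le (Int.ofNat_lt.mp this) hD
    exact this
  have hd'' := Nat.mul_self_lt_mul_self_iff.mp hd'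
  exact h d₁ hlt h1 hpos' (Dvd.intro_left _ key') (d₂ / 64) (by omega) (d₂ % 64) (by omega)
    (by rw [Nat.div_add_mod]; exact key')

/-- The fixed points of `V` are all fixed points of the involution. -/
theorem arith_full {u a j N : ℕ} (hv : SwapVals u a) (hj : 1 ≤ j) (hdvd : u ∣ a * 2 ^ j * (2 ^ j - 1))
    (hN : N = u + a * 2 ^ j) (h : BlockEq N 1) :
    u = 3 ∧ ((a = 6 ∧ 2 ^ j = 2) ∨ (a = 3 ∧ 2 ^ j = 4)) := by
  have hf : 2 ≤ 2 ^ j := Nat.le_self_pow (by omega) 2
  have ha : 1 ≤ a ∧ 3 ≤ u := by unfold SwapVals at hv; omega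
  have hN3 : 3 < N := by
    have : 1 * 2 ≤ a * 2 ^ j := Nat.mul_le_mul ha.1 hf
    omega
  rcases h with ⟨m, hm, he⟩ | ⟨d₁, d₂, h1, h2, hle, he⟩
  · rw [Nat.dvd_one.mp hm] at he
    omega
  · obtain ⟨-, hpos, hb, hb', -⟩ := caseB_bound h1 h2 hle (by omega) he
    norm_num at hpos hb hb'
    have hd3 : (3 : ℤ) ≤ d₁ := by exact_mod_cast (show 3 ≤ d₁ by omega)
    have hN15 : N ≤ 15 := by
      rcases (show d₁ = 3 ∨ 7 ≤ d₁ by omega) with rfl | h7
      · norm_num at hb
        omega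
      · have h7' : (7 : ℤ) ≤ d₁ := by exact_mod_cast h7
        by_contra hc
        push Not at hc
        have hc' : (16 : ℤ) ≤ N := by exact_mod_cast hc
        have := mul_le_mul_of_nonneg_right (show (13 : ℤ) ≤ 2 * d₁ - 1 by linarith)
          (show (0 : ℤ) ≤ (N : ℤ) - 8 by linarith)
        linarith
    rcases hv with ⟨rfl, hv⟩ | ⟨rfl, hv⟩
    · have hj3 : j ≤ 3 := by
        by_contra hc
        have : 2 ^ 4 ≤ 2 ^ j := Nat.pow_le_pow_right (by norm_num) (by omega)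
        have : 1 * 2 ^ j ≤ a * 2 ^ j := Nat.mul_le_mul_right _ ha.1
        omega
      have h9 : ¬ N = 9 := fun e => by
        subst e
        exact no_hit (show NoHit 9 1 14 1 by decide +kernel) (by norm_num) (by norm_num) (by norm_num)
          (by norm_num) h1 h2 hle he
      have h7 : ¬ N ≤ 8 := fun e => by
        have he8 : (N : ℤ) ≤ 8 := by exact_mod_cast e
        have := mul_le_mul_of_nonneg_right he8 (show (0 : ℤ) ≤ (d₁ : ℤ) - 1 by linarith)
        linarith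
      interval_cases j <;> rcases hv with rfl | rfl | rfl | rfl <;>
        (try norm_num at hN hdvd ⊢) <;> omega
    · have : 1 * 2 ≤ a * 2 ^ j := Nat.mul_le_mul ha.1 hf
      omega

theorem tableA_square : ∀ p ∈ ([(3, 1), (3, 3), (3, 4), (3, 6), (15, 1), (15, 10), (15, 15), (15, 16)] : List (ℕ × ℕ)),
    ∀ j < 8, 1 ≤ j → ∀ m < 32, m ∣ 2 ^ j + 1 →
      p.1 + p.2 * (2 ^ j * 2 ^ j) + 6 * m * (2 ^ j + 1) = 8 * (2 ^ j + 1) ^ 2 + m ^ 2 →
      (p.1 = 3 ∧ p.2 = 6 ∧ j = 1) ∨ (p.1 = 15 ∧ p.2 = 10 ∧ j = 1) := by decide +kernel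

theorem mem_vals {u a : ℕ} (hv : SwapVals u a) :
    (u, a) ∈ ([(3, 1), (3, 3), (3, 4), (3, 6), (15, 1), (15, 10), (15, 15), (15, 16)] : List (ℕ × ℕ)) := by
  rcases hv with ⟨rfl, rfl | rfl | rfl | rfl⟩ | ⟨rfl, rfl | rfl | rfl | rfl⟩ <;> simp

/-- One orbit of swappers with two fixed points in the induced group. -/
theorem arith_square {u a j N : ℕ} (hv : SwapVals u a) (hj : 1 ≤ j) (hN : N = u + a * (2 ^ j * 2 ^ j))
    (h : BlockEq N (2 ^ j + 1)) : 2 ^ j = 2 ∧ ((u = 3 ∧ a = 6) ∨ (u = 15 ∧ a = 10)) := by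
  set f := 2 ^ j with hf
  have hf2 : 2 ≤ f := Nat.le_self_pow (by omega) 2
  have hu : u ≤ 15 ∧ a ≤ 16 ∧ a ≠ 8 ∧ 3 ≤ u ∧ 1 ≤ a := by unfold SwapVals at hv; omega
  have hfodd : f % 2 = 0 := by
    rw [hf, show j = j - 1 + 1 by omega, pow_succ]; omega
  rcases h with ⟨m, hm, he⟩ | ⟨d₁, d₂, h1, h2, hle, he⟩
  · have hm' : m ∣ u + a := by
      obtain ⟨e, he'⟩ := hm
      have h0 : (u : ℤ) + a = m * (8 * m * e ^ 2 + m - 6 * m * e - a * m * e ^ 2 + 2 * a * e) := by
        have hz : (f : ℤ) = m * e - 1 := by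
          have : ((f + 1 : ℕ) : ℤ) = ((m * e : ℕ) : ℤ) := by rw [he']
          push_cast at this; linarith
        have : ((N + 6 * m * (f + 1) : ℕ) : ℤ) = ((8 * (f + 1) ^ 2 + m ^ 2 : ℕ) : ℤ) := by rw [he]
        rw [hN] at this
        push_cast at this
        rw [hz] at this
        linear_combination this
      exact Int.natCast_dvd_natCast.mp ⟨_, by push_cast; exact h0⟩
    have hm31 : m ≤ 31 := (Nat.le_of_dvd (by omega) hm').trans (by omega)
    have hj8 : j < 8 := by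
      by_contra hc
      have h256 : 256 ≤ f := by
        rw [hf, show (256 : ℕ) = 2 ^ 8 by norm_num]
        exact Nat.pow_le_pow_right (by norm_num) (by omega)
      have hz : (256 : ℤ) ≤ f := by exact_mod_cast h256
      have hm0 : (0 : ℤ) ≤ m := Int.natCast_nonneg m
      have hmz : (m : ℤ) ≤ 31 := by exact_mod_cast hm31
      have huz : (u : ℤ) ≤ 15 := by exact_mod_cast hu.1
      have hee : ((N + 6 * m * (f + 1) : ℕ) : ℤ) = ((8 * (f + 1) ^ 2 + m ^ 2 : ℕ) : ℤ) := by rw [he]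
      rw [hN] at hee
      push_cast at hee
      have hff : (0 : ℤ) ≤ (f : ℤ) * f := mul_self_nonneg _
      have h256f := mul_le_mul_of_nonneg_right hz (show (0 : ℤ) ≤ f by linarith)
      have hmf := mul_le_mul_of_nonneg_right hmz (show (0 : ℤ) ≤ (f : ℤ) + 1 by linarith)
      have hmm := mul_le_mul hmz hmz hm0 (by norm_num : (0 : ℤ) ≤ 31)
      have hmf0 : (0 : ℤ) ≤ m * ((f : ℤ) + 1) := mul_nonneg hm0 (by linarith)
      have hu0 : (0 : ℤ) ≤ u := Int.natCast_nonneg u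
      rcases (show a ≤ 7 ∨ 9 ≤ a by omega) with ha | ha
      · have := mul_le_mul_of_nonneg_right (show (a : ℤ) ≤ 7 by exact_mod_cast ha) hff
        have := mul_self_nonneg (m : ℤ)
        linarith
      · have := mul_le_mul_of_nonneg_right (show (9 : ℤ) ≤ a by exact_mod_cast ha) hff
        linarith
    rcases tableA_square (u, a) (mem_vals hv) j hj8 hj m (by omega) (hf ▸ hm)
      (by dsimp only; rw [← hf, ← hN]; exact he) with ⟨e1, e2, rfl⟩ | ⟨e1, e2, rfl⟩
    · exact ⟨rfl, Or.inl ⟨e1, e2⟩⟩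
    · exact ⟨rfl, Or.inr ⟨e1, e2⟩⟩
  · exfalso
    obtain ⟨key, hpos, hb, hb', -⟩ := caseB_bound h1 h2 hle (by rw [hN]; omega) he
    have hz : (2 : ℤ) ≤ f := by exact_mod_cast hf2
    have hd : (3 : ℤ) ≤ d₁ := by exact_mod_cast (show 3 ≤ d₁ by omega)
    have hNz : (N : ℤ) = u + a * (f * f) := by rw [hN]; push_cast; ring
    push_cast at key hpos hb hb'
    have hE : 8 * ((f : ℤ) + 1) ^ 2 < N := by
      by_contra hc
      push Not at hc
      have := mul_le_mul_of_nonneg_right hc (show (0 : ℤ) ≤ (d₁ : ℤ) - 1 by linarith)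
      have : (0 : ℤ) ≤ 8 * ((f : ℤ) + 1) ^ 2 := by positivity
      linarith
    have hE0 : (0 : ℤ) ≤ (N : ℤ) - 8 * ((f : ℤ) + 1) ^ 2 := by linarith
    have hff : (0 : ℤ) ≤ (f : ℤ) * f := mul_self_nonneg _
    rcases hv with ⟨rfl, hv⟩ | ⟨rfl, hv⟩
    · have : (a : ℤ) ≤ 6 := by exact_mod_cast (show a ≤ 6 by omega)
      have := mul_le_mul_of_nonneg_right this hff
      push_cast at hNz
      linarith
    · rcases hv with rfl | rfl | rfl | rfl <;> push_cast at hNz
      · linarith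
      · -- ten
        rcases (show j ≤ 5 ∨ 6 ≤ j by omega) with hj5 | hj6
        · rw [hN, hf] at he
          interval_cases j
          · norm_num [hf] at hNz hE; linarith
          · norm_num [hf] at hNz hE; linarith
          · exact no_hit (show NoHit 655 9 143 58 by decide +kernel) (by norm_num) (by norm_num)
              (by norm_num) (by norm_num) h1 h2 hle he
          · exact no_hit (show NoHit 2575 17 16 13 by decide +kernel) (by norm_num) (by norm_num)
              (by norm_num) (by norm_num) h1 h2 hle he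
          · exact no_hit (show NoHit 10255 33 11 18 by decide +kernel) (by norm_num) (by norm_num)
              (by norm_num) (by norm_num) h1 h2 hle he
        · have hz64 : (64 : ℤ) ≤ f := by
            have : 2 ^ 6 ≤ f := by rw [hf]; exact Nat.pow_le_pow_right (by norm_num) hj6
            exact_mod_cast this
          have h64f := mul_le_mul_of_nonneg_right hz64 (show (0 : ℤ) ≤ f by linarith)
          have hd7 : d₁ = 7 := by
            rcases (show d₁ = 3 ∨ d₁ = 7 ∨ 11 ≤ d₁ by omega) with rfl | h | h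
            · norm_num at hpos; linarith
            · exact h
            · have : (11 : ℤ) ≤ d₁ := by exact_mod_cast h
              have := mul_le_mul_of_nonneg_right (show (21 : ℤ) ≤ 2 * d₁ - 1 by linarith) hE0
              linarith
          subst hd7
          rcases (show d₂ = 7 ∨ 11 ≤ d₂ by omega) with rfl | h
          · norm_num at key; linarith
          · have h11 : (11 : ℤ) ≤ d₂ := by exact_mod_cast h
            norm_num at key hpos
            have := mul_le_mul_of_nonneg_right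
              (mul_le_mul h11 (show (17 : ℤ) ≤ d₂ + 6 by linarith) (by norm_num) (by linarith))
              (show (0 : ℤ) ≤ (N : ℤ) * 6 - 8 * ((f : ℤ) + 1) ^ 2 * 7 by linarith)
            linarith
      · -- fifteen
        rcases (show j ≤ 3 ∨ 4 ≤ j by omega) with hj3 | hj4
        · rw [hN, hf] at he
          interval_cases j
          · exact no_hit (show NoHit 75 3 39 6 by decide +kernel) (by norm_num) (by norm_num)
              (by norm_num) (by norm_num) h1 h2 hle he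
          · exact no_hit (show NoHit 255 5 8 2 by decide +kernel) (by norm_num) (by norm_num)
              (by norm_num) (by norm_num) h1 h2 hle he
          · exact no_hit (show NoHit 975 9 6 3 by decide +kernel) (by norm_num) (by norm_num)
              (by norm_num) (by norm_num) h1 h2 hle he
        · have hz16 : (16 : ℤ) ≤ f := by
            have : 2 ^ 4 ≤ f := by rw [hf]; exact Nat.pow_le_pow_right (by norm_num) hj4
            exact_mod_cast this
          have h16f := mul_le_mul_of_nonneg_right hz16 (show (0 : ℤ) ≤ f by linarith)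
          rcases (show d₁ = 3 ∨ 7 ≤ d₁ by omega) with rfl | h
          · rcases (show d₂ = 3 ∨ 7 ≤ d₂ by omega) with rfl | h
            · norm_num at key; linarith
            · have h7 : (7 : ℤ) ≤ d₂ := by exact_mod_cast h
              norm_num at key hpos
              have := mul_le_mul_of_nonneg_right
                (mul_le_mul h7 (show (9 : ℤ) ≤ d₂ + 2 by linarith) (by norm_num) (by linarith))
                (show (0 : ℤ) ≤ (N : ℤ) * 2 - 8 * ((f : ℤ) + 1) ^ 2 * 3 by linarith)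
              linarith
          · have : (7 : ℤ) ≤ d₁ := by exact_mod_cast h
            have := mul_le_mul_of_nonneg_right (show (13 : ℤ) ≤ 2 * d₁ - 1 by linarith) hE0
            linarith
      · -- sixteen
        rcases (show j ≤ 5 ∨ 6 ≤ j by omega) with hj5 | hj6
        · rw [hN, hf] at he
          interval_cases j
          · exact no_hit (show NoHit 79 3 18 3 by decide +kernel) (by norm_num) (by norm_num)
              (by norm_num) (by norm_num) h1 h2 hle he
          · exact no_hit (show NoHit 271 5 7 2 by decide +kernel) (by norm_num) (by norm_num)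
              (by norm_num) (by norm_num) h1 h2 hle he
          · exact no_hit (show NoHit 1039 9 5 3 by decide +kernel) (by norm_num) (by norm_num)
              (by norm_num) (by norm_num) h1 h2 hle he
          · exact no_hit (show NoHit 4111 17 5 6 by decide +kernel) (by norm_num) (by norm_num)
              (by norm_num) (by norm_num) h1 h2 hle he
          · exact no_hit (show NoHit 16399 33 5 11 by decide +kernel) (by norm_num) (by norm_num)
              (by norm_num) (by norm_num) h1 h2 hle he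
        · have hz64 : (64 : ℤ) ≤ f := by
            have : 2 ^ 6 ≤ f := by rw [hf]; exact Nat.pow_le_pow_right (by norm_num) hj6
            exact_mod_cast this
          have h64f := mul_le_mul_of_nonneg_right hz64 (show (0 : ℤ) ≤ f by linarith)
          rcases (show d₁ = 3 ∨ 7 ≤ d₁ by omega) with rfl | h
          · rcases (show d₂ = 3 ∨ 7 ≤ d₂ by omega) with rfl | h
            · norm_num at key; linarith
            · have h7 : (7 : ℤ) ≤ d₂ := by exact_mod_cast h
              norm_num at key hpos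
              have := mul_le_mul_of_nonneg_right
                (mul_le_mul h7 (show (9 : ℤ) ≤ d₂ + 2 by linarith) (by norm_num) (by linarith))
                (show (0 : ℤ) ≤ (N : ℤ) * 2 - 8 * ((f : ℤ) + 1) ^ 2 * 3 by linarith)
              linarith
          · have : (7 : ℤ) ≤ d₁ := by exact_mod_cast h
            have := mul_le_mul_of_nonneg_right (show (13 : ℤ) ≤ 2 * d₁ - 1 by linarith) hE0
            linarith

theorem tableA_twisted : ∀ p ∈ ([(3, 1), (3, 3), (3, 4), (3, 6), (15, 1), (15, 10), (15, 15), (15, 16)] : List (ℕ × ℕ)),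
    ∀ j < 9, 1 ≤ j → ∀ m < 32, m ∣ 2 * 2 ^ j + 1 →
      p.1 + p.2 * (2 * (2 ^ j * 2 ^ j) - 2 ^ j) + 6 * m * (2 * 2 ^ j + 1) = 8 * (2 * 2 ^ j + 1) ^ 2 + m ^ 2 →
      p.1 = 15 ∧ p.2 = 10 ∧ j = 1 := by decide +kernel

/-- Two orbits of swappers with two fixed points in the induced group. -/
theorem arith_twisted {u a j f N : ℕ} (hv : SwapVals u a) (hj : 1 ≤ j)
    (hf : f + 2 ^ j = 2 * (2 ^ j * 2 ^ j)) (hN : N = u + a * f) (h : BlockEq N (2 * 2 ^ j + 1)) :
    u = 15 ∧ a = 10 ∧ 2 ^ j = 2 := by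
  set g := 2 ^ j with hg
  have hg2 : 2 ≤ g := Nat.le_self_pow (by omega) 2
  have hu : u ≤ 15 ∧ a ≤ 16 ∧ 3 ≤ u ∧ 1 ≤ a := by unfold SwapVals at hv; omega
  have hfz : (f : ℤ) = 2 * (g * g) - g := by
    have : ((f + g : ℕ) : ℤ) = ((2 * (g * g) : ℕ) : ℤ) := by rw [hf]
    push_cast at this; linarith
  have hz : (2 : ℤ) ≤ g := by exact_mod_cast hg2
  have ha16 : (a : ℤ) ≤ 16 := by exact_mod_cast hu.2.1
  have hu15 : (u : ℤ) ≤ 15 := by exact_mod_cast hu.1
  have ha1 : (1 : ℤ) ≤ a := by exact_mod_cast hu.2.2.2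
  have hNz : (N : ℤ) = u + a * (2 * (g * g) - g) := by rw [hN, ← hfz]; push_cast; ring
  rcases h with ⟨m, hm, he⟩ | ⟨d₁, d₂, h1, h2, hle, he⟩
  · have hee : ((N + 6 * m * (2 * g + 1) : ℕ) : ℤ) = ((8 * (2 * g + 1) ^ 2 + m ^ 2 : ℕ) : ℤ) := by rw [he]
    push_cast at hee
    rw [hNz] at hee
    have hmodd : m % 2 = 1 := by
      obtain ⟨e, he'⟩ := hm
      have : (m * e) % 2 = 1 := by omega
      rw [Nat.mul_mod] at this
      rcases Nat.mod_two_eq_zero_or_one m with h0 | h0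
      · rw [h0, zero_mul] at this; simp at this
      · exact h0
    have hm' : m ∣ u + a := by
      have h2 : (m : ℤ) ∣ 2 * ((u : ℤ) + a) := by
        obtain ⟨e, he'⟩ := hm
        have hgz : 2 * (g : ℤ) + 1 = m * e := by exact_mod_cast he'
        refine ⟨16 * m * e ^ 2 + 2 * m - 12 * m * e - a * m * e ^ 2 + 3 * a * e, ?_⟩
        linear_combination 2 * hee +
          (16 * (2 * (g : ℤ) + 1 + m * e) - a * (2 * (g : ℤ) + 1 + m * e) + 3 * a - 12 * m) * hgz
      have h2' : m ∣ 2 * (u + a) := Int.natCast_dvd_natCast.mp (by push_cast; exact h2)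
      exact (Nat.Coprime.dvd_of_dvd_mul_left (Nat.coprime_iff_gcd_eq_one.mpr (by rw [Nat.gcd_comm, Nat.gcd_rec]; simp [hmodd])) h2')
    have hm31 : m ≤ 31 := (Nat.le_of_dvd (by omega) hm').trans (by omega)
    have hmz : (m : ℤ) ≤ 31 := by exact_mod_cast hm31
    have hm0 : (1 : ℤ) ≤ m := by exact_mod_cast (show 1 ≤ m by omega)
    have hj9 : j < 9 := by
      by_contra hc
      have h512 : 512 ≤ g := by
        rw [hg, show (512 : ℕ) = 2 ^ 9 by norm_num]
        exact Nat.pow_le_pow_right (by norm_num) (by omega)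
      have hz' : (512 : ℤ) ≤ g := by exact_mod_cast h512
      have hg0 : (0 : ℤ) ≤ 2 * (g : ℤ) + 1 := by linarith
      have hgg := mul_le_mul_of_nonneg_right hz' (show (0 : ℤ) ≤ g by linarith)
      have hmm := mul_le_mul hmz hmz (by linarith) (by norm_num : (0 : ℤ) ≤ 31)
      have hmg := mul_le_mul_of_nonneg_right hmz hg0
      have := mul_self_nonneg (m : ℤ)
      have hu0 : (0 : ℤ) ≤ u := Int.natCast_nonneg u
      rcases (show a ≤ 15 ∨ a = 16 by omega) with ha | rfl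
      · have := mul_le_mul_of_nonneg_right (show (a : ℤ) ≤ 15 by exact_mod_cast ha)
          (show (0 : ℤ) ≤ 2 * ((g : ℤ) * g) - g by linarith)
        linarith
      · rcases (show m ≤ 3 ∨ 5 ≤ m by omega) with h3 | h5
        · have := mul_le_mul_of_nonneg_right (show (m : ℤ) ≤ 3 by exact_mod_cast h3) hg0
          push_cast at hee
          linarith
        · have := mul_le_mul_of_nonneg_right (show (5 : ℤ) ≤ m by exact_mod_cast h5) hg0
          push_cast at hee
          linarith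
    obtain ⟨e1, e2, rfl⟩ := tableA_twisted (u, a) (mem_vals hv) j hj9 hj m (by omega) (hg ▸ hm)
      (by dsimp only; rw [← hg, show 2 * (g * g) - g = f by omega, ← hN]; exact he)
    exact ⟨e1, e2, rfl⟩
  · exfalso
    obtain ⟨-, hpos, -, -, -⟩ := caseB_bound h1 h2 hle (by omega) he
    have hd : (3 : ℤ) ≤ d₁ := by exact_mod_cast (show 3 ≤ d₁ by omega)
    push_cast at hpos
    have hgg := mul_le_mul_of_nonneg_right hz (show (0 : ℤ) ≤ g by linarith)
    have h16 := mul_le_mul_of_nonneg_right ha16 (show (0 : ℤ) ≤ 2 * ((g : ℤ) * g) - g by linarith)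
    have := mul_le_mul_of_nonneg_right (show (N : ℤ) ≤ 8 * (2 * (g : ℤ) + 1) ^ 2 by linarith)
      (show (0 : ℤ) ≤ (d₁ : ℤ) - 1 by linarith)
    have : (0 : ℤ) ≤ 8 * (2 * (g : ℤ) + 1) ^ 2 := by positivity
    linarith

end CfsgLib.TwoPointStab
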