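import Cfsg.Agent.Lib.TwoPointStab.Sharp
import Mathlib.GroupTheory.Subgroup.Centralizer

/-!
# Centralizers acting on fixed points; two-point stabilisers of order two
-/

set_option autoImplicit false
set_option linter.unusedSectionVars false

namespace CfsgLib.TwoPointStab

open MulAction

variable {X : Type*} [Group X] {Ω : Type*} [MulAction X Ω]

theorem mem_cen {s g : X} : g ∈ Subgroup.centralizer ({s} : Set X) ↔ g * s = s * g :=
  Subgroup.mem_centralizer_singleton_iff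

/-- The centralizer of an element acts on its fixed points. -/
instance cenFix (s : X) : MulAction ↥(Subgroup.centralizer ({s} : Set X)) ↥(fixedBy Ω s) where
  smul g p := ⟨(g : X) • (p : Ω), by
    show s • (g : X) • (p : Ω) = _
    rw [← mul_smul, ← mem_cen.mp g.2, mul_smul, p.2]⟩
  one_smul p := Subtype.ext (one_smul X (p : Ω))
  mul_smul g h p := Subtype.ext (mul_smul (g : X) (h : X) (p : Ω))

@[simp] theorem cenFix_coe {s : X} (g : ↥(Subgroup.centralizer ({s} : Set X))) (p : ↥(fixedBy Ω s)) :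
    ((g • p : ↥(fixedBy Ω s)) : Ω) = (g : X) • (p : Ω) := rfl

section Image

variable {C F : Type*} [Group C] [MulAction C F]

/-- The permutation group induced on the points. -/
abbrev Img (C F : Type*) [Group C] [MulAction C F] : Subgroup (Equiv.Perm F) := (MulAction.toPermHom C F).range

/-- The map onto the induced permutation group. -/
def toImg (C F : Type*) [Group C] [MulAction C F] : C →* Img C F := (MulAction.toPermHom C F).rangeRestrict

theorem toImg_smul (g : C) (p : F) : toImg C F g • p = g • p := rfl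

theorem toImg_surjective : Function.Surjective (toImg C F) := MonoidHom.rangeRestrict_surjective _

theorem toImg_eq_one {g : C} : toImg C F g = 1 ↔ ∀ p : F, g • p = p := by
  constructor
  · intro h p
    rw [← toImg_smul, h, one_smul]
  · intro h
    exact Subtype.ext (Equiv.ext h)

theorem img_eq_one {g : Img C F} (h : ∀ p : F, g • p = p) : g = 1 :=
  Subtype.ext (Equiv.ext h)

theorem img_pairs (h : Pairs C F) : Pairs (Img C F) F := fun a b c d h1 h2 => by
  obtain ⟨g, hg⟩ := h a b c d h1 h2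
  exact ⟨toImg C F g, hg⟩

theorem img_sharp [Finite F] (h : Pairs C F)
    (h2 : ∀ (g : C) (a b : F), a ≠ b → g • a = a → g • b = b → ∀ p : F, g • p = p)
    (hbig : 1 < Nat.card F) : Sharp (Img C F) F where
  pairs := img_pairs h
  free g a b hab ha hb := by
    obtain ⟨g, rfl⟩ := toImg_surjective g
    exact toImg_eq_one.mpr (h2 g a b hab ha hb)
  big := hbig

/-- Two involutive cosets of the kernel fixing the same point coincide, in odd degree. -/
theorem kernel_unique [Finite F] (h : Pairs C F)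
    (h2 : ∀ (g : C) (a b : F), a ≠ b → g • a = a → g • b = b → ∀ p : F, g • p = p)
    (hbig : 1 < Nat.card F) (hodd : Nat.card F % 2 = 1) {x y : C} (hx : ∀ p : F, x • x • p = p)
    (hy : ∀ p : F, y • y • p = p) (hx1 : ¬ ∀ p : F, x • p = p) (hy1 : ¬ ∀ p : F, y • p = p)
    {c : F} (hxc : x • c = c) (hyc : y • c = c) : ∀ p : F, (x⁻¹ * y) • p = p := by
  have key : toImg C F x = toImg C F y := by
    refine Sharp.invol_unique (img_sharp h h2 hbig) hodd ?_ ?_ (fun e => hx1 (toImg_eq_one.mp e))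
      (fun e => hy1 (toImg_eq_one.mp e)) (c := c) hxc hyc
    · rw [← map_mul]; exact toImg_eq_one.mpr fun p => by rw [mul_smul, hx]
    · rw [← map_mul]; exact toImg_eq_one.mpr fun p => by rw [mul_smul, hy]
  exact toImg_eq_one.mp (by rw [map_mul, map_inv, key, inv_mul_cancel])

end Image

/-- Transitivity on pairs with two-point stabilisers of order two. -/
structure Half (X Ω : Type*) [Group X] [MulAction X Ω] : Prop where
  pairs : Pairs X Ω
  faithful : ∀ g : X, (∀ p : Ω, g • p = p) → g = 1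
  stab : ∀ a b : Ω, a ≠ b → ∃ s : X, s ≠ 1 ∧ s • a = a ∧ s • b = b ∧
    ∀ g : X, g • a = a → g • b = b → g = 1 ∨ g = s
  big : 1 < Nat.card Ω

variable [Finite X] [Finite Ω]

/-- An involution fixing two points. -/
structure Axis (s : X) (a b : Ω) : Prop where
  ne : a ≠ b
  ne_one : s ≠ 1
  fa : s • a = a
  fb : s • b = b

namespace Half

variable (H : Half X Ω) {s : X} {a b : Ω}
include H

theorem exists_axis : ∃ (s : X) (a b : Ω), Axis s a b := by
  haveI : Nontrivial Ω := Finite.one_lt_card_iff_nontrivial.mp H.big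
  obtain ⟨a, b, hab⟩ := exists_pair_ne Ω
  obtain ⟨s, h1, h2, h3, -⟩ := H.stab a b hab
  exact ⟨s, a, b, hab, h1, h2, h3⟩

theorem eq_one_or (A : Axis s a b) {g : X} (ha : g • a = a) (hb : g • b = b) : g = 1 ∨ g = s := by
  obtain ⟨s', -, h2, h3, h⟩ := H.stab a b A.ne
  rcases h s A.fa A.fb with e | e
  · exact absurd e A.ne_one
  · rw [e]; exact h g ha hb

theorem sq (A : Axis s a b) : s * s = 1 := by
  rcases H.eq_one_or A (g := s * s) (by rw [mul_smul, A.fa, A.fa]) (by rw [mul_smul, A.fb, A.fb]) with e | e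
  · exact e
  · exact absurd (mul_eq_right.mp e) A.ne_one

theorem conj_axis {s' : X} {a' b' : Ω} (A : Axis s a b) (A' : Axis s' a' b') : ∃ g : X, g * s * g⁻¹ = s' := by
  obtain ⟨g, hga, hgb⟩ := H.pairs a b a' b' A.ne A'.ne
  refine ⟨g, (H.eq_one_or A' (g := g * s * g⁻¹) ?_ ?_).resolve_left fun e => A.ne_one (conj_eq_one_iff.mp e)⟩
  · rw [← hga, smul_conj_smul, A.fa]
  · rw [← hgb, smul_conj_smul, A.fb]

theorem axis_of_two_le {x : X} (h1 : x ≠ 1) (h : 2 ≤ fix Ω x) : ∃ c d : Ω, Axis x c d := by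
  obtain ⟨c, d, hcd⟩ := (Finite.one_lt_card_iff_nontrivial.mp h : Nontrivial (fixedBy Ω x)).exists_pair_ne
  exact ⟨c, d, fun e => hcd (Subtype.ext e), h1, c.2, d.2⟩

theorem fix_eq {s' : X} {a' b' : Ω} (A : Axis s a b) (A' : Axis s' a' b') : fix Ω s' = fix Ω s := by
  obtain ⟨g, hg⟩ := H.conj_axis A A'
  rw [← hg, fix_conj]

theorem two_le_fix (A : Axis s a b) : 2 ≤ fix Ω s :=
  Finite.one_lt_card_iff_nontrivial.mpr ⟨⟨⟨a, A.fa⟩, ⟨b, A.fb⟩, fun e => A.ne (congrArg Subtype.val e)⟩⟩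

theorem fix_lt (A : Axis s a b) : fix Ω s < Nat.card Ω := by
  obtain ⟨p, hp⟩ : ∃ p : Ω, s • p ≠ p := by
    by_contra h
    push Not at h
    exact A.ne_one (H.faithful s h)
  exact Finite.card_subtype_lt (p := fun p => s • p = p) hp

theorem fix_le {g : X} (A : Axis s a b) (hg : g ≠ 1) : fix Ω g ≤ fix Ω s := by
  rcases Nat.lt_or_ge (fix Ω g) 2 with h | h
  · have := H.two_le_fix A; omega
  · obtain ⟨c, d, hA⟩ := H.axis_of_two_le hg h
    exact (H.fix_eq A hA).le

theorem level_pairs (A : Axis s a b) : Pairs ↥(Subgroup.centralizer ({s} : Set X)) ↥(fixedBy Ω s) := by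
  intro p q p' q' hpq hpq'
  have hne : ∀ {u v : ↥(fixedBy Ω s)}, u ≠ v → (u : Ω) ≠ v := fun h e => h (Subtype.ext e)
  obtain ⟨g, hg1, hg2⟩ := H.pairs (p : Ω) q (p' : Ω) q' (hne hpq) (hne hpq')
  have A' : Axis s (p' : Ω) q' := ⟨hne hpq', A.ne_one, p'.2, q'.2⟩
  have e : g * s * g⁻¹ = s := (H.eq_one_or A' (g := g * s * g⁻¹) (by rw [← hg1, smul_conj_smul, p.2])
    (by rw [← hg2, smul_conj_smul, q.2])).resolve_left fun e => A.ne_one (conj_eq_one_iff.mp e)
  refine ⟨⟨g, mem_cen.mpr ?_⟩, Subtype.ext hg1, Subtype.ext hg2⟩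
  calc g * s = g * s * g⁻¹ * g := by group
    _ = s * g := by rw [e]

theorem level_fixes (A : Axis s a b) :
    ∀ (g : ↥(Subgroup.centralizer ({s} : Set X))) (p q : ↥(fixedBy Ω s)), p ≠ q → g • p = p → g • q = q →
      ∀ r : ↥(fixedBy Ω s), g • r = r := by
  intro g p q hpq hp hq r
  have A' : Axis s (p : Ω) q := ⟨fun e => hpq (Subtype.ext e), A.ne_one, p.2, q.2⟩
  refine Subtype.ext ?_
  rcases H.eq_one_or A' (g := (g : X)) (congrArg Subtype.val hp) (congrArg Subtype.val hq) with e | e <;>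
    rw [cenFix_coe, e]
  · exact one_smul _ _
  · exact r.2

/-- Two involutive elements of `C(s)` outside `{1, s}` with a common fixed point agree modulo `s`. -/
theorem level_unique (A : Axis s a b) (hodd : fix Ω s % 2 = 1) {x y : X} (hxs : x * s = s * x)
    (hys : y * s = s * y) (hx : x * x = 1 ∨ x * x = s) (hy : y * y = 1 ∨ y * y = s) (hx1 : x ≠ 1) (hxs' : x ≠ s)
    (hy1 : y ≠ 1) (hys' : y ≠ s) {c : Ω} (hc : s • c = c) (hxc : x • c = c) (hyc : y • c = c) :
    y = x ∨ y = x * s := by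
  have hsq : ∀ z : X, (z * z = 1 ∨ z * z = s) → ∀ p : Ω, s • p = p → z • z • p = p := fun z hz p hp => by
    rw [← mul_smul]
    rcases hz with e | e <;> rw [e]
    · exact one_smul _ _
    · exact hp
  have hnt : ∀ z : X, z ≠ 1 → z ≠ s → ¬ ∀ p : Ω, s • p = p → z • p = p := fun z h1 h2 h => by
    rcases H.eq_one_or A (g := z) (h a A.fa) (h b A.fb) with e | e
    · exact h1 e
    · exact h2 e
  have key := kernel_unique (H.level_pairs A) (H.level_fixes A) (H.two_le_fix A) hodd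
    (x := ⟨x, mem_cen.mpr hxs⟩) (y := ⟨y, mem_cen.mpr hys⟩) (fun p => Subtype.ext (hsq x hx p p.2))
    (fun p => Subtype.ext (hsq y hy p p.2))
    (fun h => hnt x hx1 hxs' fun p hp => congrArg Subtype.val (h ⟨p, hp⟩))
    (fun h => hnt y hy1 hys' fun p hp => congrArg Subtype.val (h ⟨p, hp⟩))
    (c := ⟨c, hc⟩) (Subtype.ext hxc) (Subtype.ext hyc)
  rcases H.eq_one_or A (g := x⁻¹ * y) (congrArg Subtype.val (key ⟨a, A.fa⟩))
    (congrArg Subtype.val (key ⟨b, A.fb⟩)) with e | e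
  · exact Or.inl (inv_mul_eq_one.mp e).symm
  · exact Or.inr (by rw [← e, mul_inv_cancel_left])

/-- In even degree the fixed points of the axis form a power of two. -/
theorem fix_two_power (A : Axis s a b) (h : Nat.card Ω % 2 = 0) : ∃ j, fix Ω s = 2 ^ j :=
  (img_sharp (H.level_pairs A) (H.level_fixes A) (H.two_le_fix A)).two_power
    ((fix_parity (H.sq A)).trans h)

/-- The swappers of two points: two commuting involutions, one of which fixes two points. -/
theorem swappers (A : Axis s a b) : ∃ y : X, y * y = 1 ∧ y ≠ 1 ∧ y * s = s * y ∧ y • a = b ∧ y • b = a ∧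
    fix Ω y = fix Ω s ∧ ∀ g : X, g • a = b → g • b = a → g = y ∨ g = y * s := by
  classical
  letI := Fintype.ofFinite X
  letI := Fintype.ofFinite Ω
  set S : Finset X := Finset.univ.filter fun x : X => x * x = 1 ∧ x ≠ 1 ∧ 2 ≤ fix Ω x with hS
  have hmem : ∀ x, x ∈ S ↔ x * x = 1 ∧ x ≠ 1 ∧ 2 ≤ fix Ω x := fun x => by simp [hS]
  have hsS : s ∈ S := (hmem s).mpr ⟨H.sq A, A.ne_one, H.two_le_fix A⟩
  have hSc : ∀ g : X, ∀ x ∈ S, g * x * g⁻¹ ∈ S := fun g x hx => (hmem _).mpr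
    ⟨mul_self_conj ((hmem x).mp hx).1, fun e => ((hmem x).mp hx).2.1 (conj_eq_one_iff.mp e),
      (fix_conj (Ω := Ω) g x).symm ▸ ((hmem x).mp hx).2.2⟩
  have hf : ∀ x ∈ S, fix Ω x = fix Ω s := fun x hx => by
    obtain ⟨c, d, hA⟩ := H.axis_of_two_le ((hmem x).mp hx).2.1 ((hmem x).mp hx).2.2
    exact H.fix_eq A hA
  have h := count_identity H.pairs S hSc (fun x hx => ((hmem x).mp hx).1) ⟨s, hsS⟩ hf A.ne
  have hu : (S.filter fun x : X => x • a = a ∧ x • b = b) = {s} := by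
    refine Finset.eq_singleton_iff_unique_mem.mpr ⟨Finset.mem_filter.mpr ⟨hsS, A.fa, A.fb⟩, fun x hx => ?_⟩
    rw [Finset.mem_filter] at hx
    exact (H.eq_one_or A hx.2.1 hx.2.2).resolve_left ((hmem x).mp hx.1).2.1
  rw [hu, Finset.card_singleton, one_mul, ← Nat.card_eq_fintype_card] at h
  obtain ⟨y, hy⟩ : ((S.filter fun x : X => x • a = b ∧ x • b = a)).Nonempty := by
    rw [← Finset.card_pos]
    by_contra h0
    rw [show (S.filter fun x : X => x • a = b ∧ x • b = a).card = 0 by omega, Nat.zero_mul] at h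
    have := H.fix_lt A
    omega
  rw [Finset.mem_filter] at hy
  obtain ⟨hy2, hy1, hy3⟩ := (hmem y).mp hy.1
  have hcom : y * s * y⁻¹ = s := (H.eq_one_or A (g := y * s * y⁻¹)
    (by rw [← hy.2.2, smul_conj_smul, A.fb]) (by rw [← hy.2.1, smul_conj_smul, A.fa])).resolve_left
      fun e => A.ne_one (conj_eq_one_iff.mp e)
  refine ⟨y, hy2, hy1, mul_inv_eq_iff_eq_mul.mp hcom, hy.2.1, hy.2.2, hf y hy.1, fun g hga hgb => ?_⟩
  rcases H.eq_one_or A (g := y⁻¹ * g) (by rw [mul_smul, hga, ← hy.2.1, inv_smul_smul])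
    (by rw [mul_smul, hgb, ← hy.2.2, inv_smul_smul]) with e | e
  · exact Or.inl (inv_mul_eq_one.mp e).symm
  · exact Or.inr (by rw [← e, mul_inv_cancel_left])

/-- **The two shapes.** -/
theorem shape (A : Axis s a b) :
    (Nat.card Ω = fix Ω s * fix Ω s ∧
      ∀ c d : Ω, c ≠ d → ∃ t : X, t * t = 1 ∧ t ≠ 1 ∧ fix Ω t ≤ 1 ∧ t • c = d ∧ t • d = c ∧
        ∀ x : X, x * x = 1 → fix Ω x ≤ 1 → x • c = d → x • d = c → x = t) ∨
    (Nat.card Ω + fix Ω s = 2 * (fix Ω s * fix Ω s) ∧ ∀ x : X, x * x = 1 → x ≠ 1 → 2 ≤ fix Ω x) := by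
  classical
  letI := Fintype.ofFinite X
  letI := Fintype.ofFinite Ω
  obtain ⟨y, hy2, hy1, hys, hya, hyb, hyf, hall⟩ := H.swappers A
  have hf2 := H.two_le_fix A
  have hlt := H.fix_lt A
  have hys2 : y * s * (y * s) = 1 := by
    rw [show y * s * (y * s) = y * (s * y) * s by group, ← hys, show y * (y * s) * s = (y * y) * (s * s) by group,
      hy2, H.sq A, one_mul]
  have hysa : (y * s) • a = b ∧ (y * s) • b = a := by
    rw [mul_smul, mul_smul, A.fa, A.fb]; exact ⟨hya, hyb⟩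
  have hys1 : y * s ≠ 1 := fun e => A.ne (by
    have h := hysa.1
    rwa [e, one_smul] at h)
  set S : Finset X := Finset.univ.filter fun x : X => x * x = 1 ∧ x ≠ 1 ∧ 2 ≤ fix Ω x with hS
  have hmem : ∀ x, x ∈ S ↔ x * x = 1 ∧ x ≠ 1 ∧ 2 ≤ fix Ω x := fun x => by simp [hS]
  have hsS : s ∈ S := (hmem s).mpr ⟨H.sq A, A.ne_one, hf2⟩
  have hSc : ∀ g : X, ∀ x ∈ S, g * x * g⁻¹ ∈ S := fun g x hx => (hmem _).mpr
    ⟨mul_self_conj ((hmem x).mp hx).1, fun e => ((hmem x).mp hx).2.1 (conj_eq_one_iff.mp e),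
      (fix_conj (Ω := Ω) g x).symm ▸ ((hmem x).mp hx).2.2⟩
  have hf : ∀ x ∈ S, fix Ω x = fix Ω s := fun x hx => by
    obtain ⟨c, d, hA⟩ := H.axis_of_two_le ((hmem x).mp hx).2.1 ((hmem x).mp hx).2.2
    exact H.fix_eq A hA
  have h := count_identity H.pairs S hSc (fun x hx => ((hmem x).mp hx).1) ⟨s, hsS⟩ hf A.ne
  have hu : (S.filter fun x : X => x • a = a ∧ x • b = b) = {s} := by
    refine Finset.eq_singleton_iff_unique_mem.mpr ⟨Finset.mem_filter.mpr ⟨hsS, A.fa, A.fb⟩, fun x hx => ?_⟩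
    rw [Finset.mem_filter] at hx
    exact (H.eq_one_or A hx.2.1 hx.2.2).resolve_left ((hmem x).mp hx.1).2.1
  rw [hu, Finset.card_singleton, one_mul, ← Nat.card_eq_fintype_card] at h
  have hyS : y ∈ S := (hmem y).mpr ⟨hy2, hy1, hyf ▸ hf2⟩
  have hne : y ≠ y * s := fun e => A.ne_one (mul_eq_left.mp e.symm)
  have hff : fix Ω s * (fix Ω s - 1) + fix Ω s = fix Ω s * fix Ω s := by
    rw [Nat.mul_sub, mul_one]
    have : fix Ω s ≤ fix Ω s * fix Ω s := Nat.le_mul_of_pos_left _ (by omega)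
    omega
  by_cases h2 : 2 ≤ fix Ω (y * s)
  · refine Or.inr ⟨?_, fun x hx hx1 => ?_⟩
    · rw [show (S.filter fun x : X => x • a = b ∧ x • b = a) = {y, y * s} by
        refine Finset.Subset.antisymm (fun x hx => ?_) (fun x hx => ?_)
        · rw [Finset.mem_filter] at hx
          simpa using hall x hx.2.1 hx.2.2
        · rw [Finset.mem_insert, Finset.mem_singleton] at hx
          rcases hx with rfl | rfl
          · exact Finset.mem_filter.mpr ⟨hyS, hya, hyb⟩
          · exact Finset.mem_filter.mpr ⟨(hmem _).mpr ⟨hys2, hys1, h2⟩, hysa⟩,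
        Finset.card_pair hne] at h
      omega
    · obtain ⟨p, hp⟩ : ∃ p : Ω, x • p ≠ p := by
        by_contra h0; push Not at h0; exact hx1 (H.faithful x h0)
      obtain ⟨g, hg1, hg2⟩ := H.pairs a b p (x • p) A.ne (Ne.symm hp)
      have hx' : g⁻¹ * x * g⁻¹⁻¹ = y ∨ g⁻¹ * x * g⁻¹⁻¹ = y * s := by
        refine hall _ ?_ ?_
        · rw [inv_inv, mul_smul, mul_smul, hg1, inv_smul_eq_iff, hg2]
        · rw [inv_inv, mul_smul, mul_smul, hg2, swap_back hx rfl, inv_smul_eq_iff, hg1]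
      rw [← fix_conj g⁻¹ x]
      rcases hx' with e | e <;> rw [e]
      · exact hyf ▸ hf2
      · exact h2
  · refine Or.inl ⟨?_, fun c d hcd => ?_⟩
    · rw [show (S.filter fun x : X => x • a = b ∧ x • b = a) = {y} by
        refine Finset.eq_singleton_iff_unique_mem.mpr ⟨Finset.mem_filter.mpr ⟨hyS, hya, hyb⟩, fun x hx => ?_⟩
        rw [Finset.mem_filter] at hx
        exact (hall x hx.2.1 hx.2.2).resolve_right fun e => h2 (e ▸ ((hmem x).mp hx.1).2.2),
        Finset.card_singleton] at h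
      omega
    · obtain ⟨g, hg1, hg2⟩ := H.pairs a b c d A.ne hcd
      refine ⟨g * (y * s) * g⁻¹, mul_self_conj hys2, fun e => hys1 (conj_eq_one_iff.mp e),
        by rw [fix_conj]; omega, by rw [← hg1, smul_conj_smul, hysa.1, hg2],
        by rw [← hg2, smul_conj_smul, hysa.2, hg1], fun x hx hfx hxc hxd => ?_⟩
      have hx' : g⁻¹ * x * g⁻¹⁻¹ = y ∨ g⁻¹ * x * g⁻¹⁻¹ = y * s := by
        refine hall _ ?_ ?_
        · rw [inv_inv, mul_smul, mul_smul, hg1, hxc, inv_smul_eq_iff, hg2]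
        · rw [inv_inv, mul_smul, mul_smul, hg2, hxd, inv_smul_eq_iff, hg1]
      rcases hx' with e | e
      · have h' := fix_conj (Ω := Ω) g⁻¹ x
        rw [e] at h'
        omega
      · rw [← e]; group

end Half

/-- If each pair is swapped by exactly one involution with a single fixed point, each point is fixed
by exactly one such involution. -/
theorem one_each (hP : Pairs X Ω) [Nontrivial Ω] (P : X → Prop)
    (hconj : ∀ g x : X, P x → P (g * x * g⁻¹)) (hP1 : ∀ x, P x → x * x = 1 ∧ fix Ω x = 1)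
    (hpair : ∀ c d : Ω, c ≠ d → ∃ t, P t ∧ t • c = d ∧ t • d = c ∧
      ∀ x, P x → x • c = d → x • d = c → x = t) (c : Ω) :
    ∃ t, P t ∧ t • c = c ∧ ∀ x, P x → x • c = c → x = t := by
  classical
  letI := Fintype.ofFinite X
  letI := Fintype.ofFinite Ω
  obtain ⟨d, hd⟩ := exists_ne c
  obtain ⟨t, ht, htc, htd, huniq⟩ := hpair c d (Ne.symm hd)
  set T : Finset X := Finset.univ.filter P with hT
  have hTm : ∀ x, x ∈ T ↔ P x := fun x => by simp [hT]
  have hn : 2 ≤ Fintype.card Ω := Fintype.one_lt_card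
  have h := sum_swapped hP T (fun g x hx => (hTm _).mpr (hconj g x ((hTm x).mp hx)))
    (fun x hx => (hP1 x ((hTm x).mp hx)).1) (Ne.symm hd)
  rw [Finset.card_eq_one.mpr ⟨t, Finset.eq_singleton_iff_unique_mem.mpr
      ⟨Finset.mem_filter.mpr ⟨(hTm t).mpr ht, htc, htd⟩, fun x hx => by
        rw [Finset.mem_filter] at hx
        exact huniq x ((hTm x).mp hx.1) hx.2.1 hx.2.2⟩⟩, mul_one,
    Finset.sum_congr rfl (g := fun _ => Fintype.card Ω - 1) (fun x hx => by rw [(hP1 x ((hTm x).mp hx)).2]),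
    Finset.sum_const, smul_eq_mul] at h
  have hTn : T.card = Fintype.card Ω := Nat.eq_of_mul_eq_mul_right (by omega) h
  have hex : ∀ x ∈ T, ∃ p : Ω, x • p = p := fun x hx => by
    obtain ⟨⟨p, hp⟩⟩ := (Nat.card_pos_iff.mp (show 0 < Nat.card (fixedBy Ω x) by
      rw [← fix, (hP1 x ((hTm x).mp hx)).2]; norm_num)).1
    exact ⟨p, hp⟩
  choose φ hφ using hex
  have hφu : ∀ (x : X) (hx : x ∈ T) (p : Ω), x • p = p → φ x hx = p := fun x hx p hp => by
    haveI := (Finite.card_le_one_iff_subsingleton.mp (hP1 x ((hTm x).mp hx)).2.le : Subsingleton (fixedBy Ω x))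
    exact congrArg Subtype.val (Subsingleton.elim (⟨φ x hx, hφ x hx⟩ : fixedBy Ω x) ⟨p, hp⟩)
  have htT : t ∈ T := (hTm t).mpr ht
  obtain ⟨p0, hp0⟩ : ∃ p, p = φ t htT := ⟨_, rfl⟩
  have hsurj : ∀ p ∈ (Finset.univ : Finset Ω), ∃ (z : X) (hz : z ∈ T), φ z hz = p := fun p _ => by
    obtain ⟨q, hq⟩ := exists_ne p
    obtain ⟨q0, hq0⟩ := exists_ne p0
    obtain ⟨g, hg, -⟩ := hP p0 q0 p q (Ne.symm hq0) (Ne.symm hq)
    exact ⟨g * t * g⁻¹, (hTm _).mpr (hconj g t ht), hφu _ _ p (by rw [← hg, smul_conj_smul, hp0, hφ t htT])⟩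
  obtain ⟨z, hz, hzc⟩ := hsurj c (Finset.mem_univ c)
  refine ⟨z, (hTm z).mp hz, hzc ▸ hφ z hz, fun x hx hxc => ?_⟩
  exact Finset.inj_on_of_surj_on_of_card_le (fun x hx => φ x hx) (fun _ _ => Finset.mem_univ _) hsurj
    (by rw [hTn, Finset.card_univ]) ((hTm x).mpr hx) hz
    ((hφu x _ c hxc).trans hzc.symm)

end CfsgLib.TwoPointStab
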