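import Cfsg.Agent.Lib.TwoPointStab.Setup
import Cfsg.Agent.Lib.TwoPointStab.Half

/-!
# The centralizer of an involution on its fixed points
-/

set_option autoImplicit false
set_option linter.unusedSectionVars false

namespace CfsgLib.TwoPointStab

open MulAction

variable {G : Type*} [Group G] [Finite G] {Ω : Type*} [MulAction G Ω] [Finite Ω]

/-- The elements commuting with `z` in a two-point stabiliser form the Klein group `{1, z, v, z v}`. -/
structure KleinV (a b : Ω) (z v : G) : Prop where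
  hz : Inv2 a b z
  hv : Inv2 a b v
  ne : v ≠ z
  comm : v * z = z * v
  all : ∀ g : G, g • a = a → g • b = b → g * z = z * g → g = 1 ∨ g = z ∨ g = v ∨ g = z * v

/-- The fixed points of `z` are fixed by `v`. -/
def Full (Ω : Type*) [MulAction G Ω] (z v : G) : Prop := ∀ p : Ω, z • p = p → v • p = p

theorem KleinV.inv2_mul {a b : Ω} {z v : G} (k : KleinV a b z v) : Inv2 a b (z * v) where
  fa := by rw [mul_smul, k.hv.fa, k.hz.fa]
  fb := by rw [mul_smul, k.hv.fb, k.hz.fb]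
  sq := by rw [show z * v * (z * v) = z * (v * z) * v by group, k.comm,
    show z * (z * v) * v = (z * z) * (v * v) by group, k.hz.sq, k.hv.sq, one_mul]
  ne_one := fun e => k.ne (by rw [← inv_eq_of_mul_eq_one_right e, inv_eq_of_mul_eq_one_right k.hz.sq])

/-- The trichotomy of the swappers. -/
def SwapTypes (a b : Ω) (z : G) (u w c : ℕ) : Prop :=
  (∃ t : G, Swap a b t ∧ t * t = 1 ∧ 2 ≤ fix Ω t ∧ (∀ g : G, g • a = a → g • b = b → g * t = t * g) ∧
    (c = 1 ∨ c = u + 1)) ∨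
  (∃ t : G, Swap a b t ∧ t * t = 1 ∧ fix Ω t ≤ 1 ∧ (∀ g : G, g • a = a → g • b = b → g * t = t * g) ∧
    (∀ x : G, Swap a b x → x * x = 1 → fix Ω x ≤ 1 → x = t) ∧ c = u) ∨
  (c = w ∧ (∀ x : G, Swap a b x → x * x = 1 → 2 ≤ fix Ω x) ∧
    ∃ y : G, Swap a b y ∧ y * y = 1 ∧ 2 ≤ fix Ω y ∧ y * z = z * y ∧
      ∃ v : G, Inv2 a b v ∧ v * z = z * v ∧ y * v * y = z * v)

theorem two_le_fix {x : G} {c d : Ω} (hcd : c ≠ d) (h : Inv2 c d x) : 2 ≤ fix Ω x :=
  Finite.one_lt_card_iff_nontrivial.mpr ⟨⟨⟨c, h.fa⟩, ⟨d, h.fb⟩, fun e => hcd (congrArg Subtype.val e)⟩⟩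

theorem fix_of_comm {g z : G} (h : g * z = z * g) {p : Ω} (hp : z • p = p) : z • g • p = g • p := by
  rw [← mul_smul, ← h, mul_smul, hp]

variable {a b : Ω} {u w : ℕ} {z v : G} (h : Conf G Ω a b u w)
include h

theorem Conf.exists_inv2 : ∃ z : G, Inv2 a b z := by
  have hu : 0 < Nat.card {x : G // Inv2 a b x} := by
    rw [h.invol]; have := h.vals; omega
  obtain ⟨⟨z, hz⟩⟩ := (Nat.card_pos_iff.mp hu).1
  exact ⟨z, hz⟩

theorem Conf.exists_klein {z : G} (hz : Inv2 a b z) : ∃ v, KleinV a b z v := by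
  obtain ⟨v, h1, h2, h3, h4⟩ := h.klein z hz
  exact ⟨v, hz, h1, h2, h3, h4⟩

theorem Conf.conj_to (hz : Inv2 a b z) {c d : Ω} {x : G} (hcd : c ≠ d) (hx : Inv2 c d x) :
    ∃ g : G, g • a = c ∧ g • b = d ∧ g * z * g⁻¹ = x := by
  obtain ⟨g, hga, hgb⟩ := h.pairs a b c d h.ne hcd
  have hx' : Inv2 a b (g⁻¹ * x * g) :=
    ⟨by rw [mul_smul, mul_smul, hga, hx.fa, inv_smul_eq_iff, hga],
      by rw [mul_smul, mul_smul, hgb, hx.fb, inv_smul_eq_iff, hgb],
      by simpa using mul_self_conj (g := g⁻¹) hx.sq,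
      fun e => hx.ne_one (by rw [show x = g * (g⁻¹ * x * g) * g⁻¹ by group, e]; group)⟩
  obtain ⟨k, ka, kb, hk⟩ := h.conj z _ hz hx'
  refine ⟨g * k, by rw [mul_smul, ka, hga], by rw [mul_smul, kb, hgb], ?_⟩
  rw [show g * k * z * (g * k)⁻¹ = g * (k * z) * k⁻¹ * g⁻¹ by group, hk]
  group

theorem Conf.conj_two (hz : Inv2 a b z) {x : G} (h2 : x * x = 1) (h1 : x ≠ 1) (hf : 2 ≤ fix Ω x) :
    ∃ g : G, g * z * g⁻¹ = x := by
  obtain ⟨⟨c, hc⟩, ⟨d, hd⟩, hcd⟩ :=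
    (Finite.one_lt_card_iff_nontrivial.mp hf : Nontrivial (fixedBy Ω x)).exists_pair_ne
  obtain ⟨g, -, -, hg⟩ := h.conj_to hz (fun e => hcd (Subtype.ext e)) ⟨hc, hd, h2, h1⟩
  exact ⟨g, hg⟩

theorem Conf.fix_eq (hz : Inv2 a b z) {x : G} (h2 : x * x = 1) (h1 : x ≠ 1) (hf : 2 ≤ fix Ω x) :
    fix Ω x = fix Ω z := by
  obtain ⟨g, hg⟩ := h.conj_two hz h2 h1 hf
  rw [← hg, fix_conj]

theorem Conf.conj_stab (hz : Inv2 a b z) {x : G} (h2 : x * x = 1) (h1 : x ≠ 1) (hxa : x • a = a)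
    (hf : 2 ≤ fix Ω x) : ∃ g : G, g • a = a ∧ g * z * g⁻¹ = x := by
  obtain ⟨⟨c, hc⟩, hca⟩ : ∃ c : fixedBy Ω x, c ≠ ⟨a, hxa⟩ := by
    haveI := (Finite.one_lt_card_iff_nontrivial.mp hf : Nontrivial (fixedBy Ω x))
    exact exists_ne _
  obtain ⟨g, hg, -, he⟩ := h.conj_to hz (c := a) (d := c) (fun e => hca (Subtype.ext e.symm))
    ⟨hxa, hc, h2, h1⟩
  exact ⟨g, hg, he⟩

theorem Conf.cen_to (hz : Inv2 a b z) {p q : Ω} (hpq : p ≠ q) (hp : z • p = p) (hq : z • q = q) :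
    ∃ g : G, g • a = p ∧ g • b = q ∧ g * z = z * g := by
  obtain ⟨g, h1, h2, h3⟩ := h.conj_to hz hpq ⟨hp, hq, hz.sq, hz.ne_one⟩
  exact ⟨g, h1, h2, mul_inv_eq_iff_eq_mul.mp h3⟩

theorem Conf.cen_pairs (hz : Inv2 a b z) :
    Pairs ↥(Subgroup.centralizer ({z} : Set G)) ↥(fixedBy Ω z) := by
  intro p q p' q' hpq hpq'
  obtain ⟨g, g1, g2, g3⟩ := h.cen_to hz (fun e => hpq (Subtype.ext e)) p.2 q.2
  obtain ⟨g', k1, k2, k3⟩ := h.cen_to hz (fun e => hpq' (Subtype.ext e)) p'.2 q'.2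
  refine ⟨⟨g', mem_cen.mpr k3⟩ * ⟨g, mem_cen.mpr g3⟩⁻¹, Subtype.ext ?_, Subtype.ext ?_⟩
  · show (g' * g⁻¹) • (p : Ω) = p'
    rw [← g1, mul_smul, inv_smul_smul, k1]
  · show (g' * g⁻¹) • (q : Ω) = q'
    rw [← g2, mul_smul, inv_smul_smul, k2]

theorem Conf.cen_level (k : KleinV a b z v) {p q : Ω} (hpq : p ≠ q) (hp : z • p = p) (hq : z • q = q) :
    ∃ g : G, g • a = p ∧ g • b = q ∧ g * z = z * g ∧ ∀ x : G, x • p = p → x • q = q → x * z = z * x →
      x = 1 ∨ x = z ∨ x = g * v * g⁻¹ ∨ x = z * (g * v * g⁻¹) := by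
  obtain ⟨g, g1, g2, g3⟩ := h.cen_to k.hz hpq hp hq
  refine ⟨g, g1, g2, g3, fun x xp xq xz => ?_⟩
  have gi : g⁻¹ * z = z * g⁻¹ := by
    rw [inv_mul_eq_iff_eq_mul, ← mul_assoc, g3, mul_inv_cancel_right]
  have e := k.all (g⁻¹ * x * g) (by rw [mul_smul, mul_smul, g1, xp, inv_smul_eq_iff, g1])
    (by rw [mul_smul, mul_smul, g2, xq, inv_smul_eq_iff, g2]) (by
      rw [mul_assoc (g⁻¹ * x), g3, ← mul_assoc, mul_assoc g⁻¹, xz, ← mul_assoc g⁻¹, gi, mul_assoc z,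
        mul_assoc z])
  have hx : x = g * (g⁻¹ * x * g) * g⁻¹ := by group
  rcases e with e | e | e | e <;> rw [e] at hx
  · exact Or.inl (by rw [hx]; group)
  · exact Or.inr (Or.inl (by rw [hx, g3, mul_inv_cancel_right]))
  · exact Or.inr (Or.inr (Or.inl hx))
  · refine Or.inr (Or.inr (Or.inr ?_))
    rw [hx, ← mul_assoc g, g3]
    group

theorem Conf.full_conj (k : KleinV a b z v) (hfull : Full Ω z v) {g : G} (hg : g * z = z * g) {p : Ω}
    (hp : z • p = p) : (g * v * g⁻¹) • p = p := by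
  have hp' : z • g⁻¹ • p = g⁻¹ • p :=
    fix_of_comm (by rw [inv_mul_eq_iff_eq_mul, ← mul_assoc, hg, mul_inv_cancel_right]) hp
  rw [mul_smul, mul_smul, hfull _ hp', smul_inv_smul]

theorem Conf.full_fixes (k : KleinV a b z v) (hfull : Full Ω z v) :
    ∀ (g : ↥(Subgroup.centralizer ({z} : Set G))) (p q : ↥(fixedBy Ω z)), p ≠ q → g • p = p → g • q = q →
      ∀ r : ↥(fixedBy Ω z), g • r = r := by
  intro x p q hpq xp xq r
  obtain ⟨g, -, -, g3, hall⟩ := h.cen_level k (fun e => hpq (Subtype.ext e)) p.2 q.2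
  have e := hall x (congrArg Subtype.val xp) (congrArg Subtype.val xq) (mem_cen.mp x.2)
  have hr := r.2
  have hvr := h.full_conj k hfull g3 r.2
  refine Subtype.ext ?_
  rw [cenFix_coe]
  rcases e with e | e | e | e <;> rw [e]
  · exact one_smul _ _
  · exact hr
  · exact hvr
  · rw [mul_smul, hvr]; exact hr

theorem Conf.half_img (k : KleinV a b z v) (hnf : ¬ Full Ω z v) :
    Half ↥(Img ↥(Subgroup.centralizer ({z} : Set G)) ↥(fixedBy Ω z)) ↥(fixedBy Ω z) := by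
  refine ⟨img_pairs (h.cen_pairs k.hz), fun g hg => img_eq_one hg, fun p q hpq => ?_, two_le_fix h.ne k.hz⟩
  obtain ⟨g, g1, g2, g3, hall⟩ := h.cen_level k (fun e => hpq (Subtype.ext e)) p.2 q.2
  have hgv : g * v * g⁻¹ * z = z * (g * v * g⁻¹) := by
    have gi : g⁻¹ * z = z * g⁻¹ := by rw [inv_mul_eq_iff_eq_mul, ← mul_assoc, g3, mul_inv_cancel_right]
    rw [mul_assoc, gi, ← mul_assoc, mul_assoc g, k.comm, ← mul_assoc, g3, mul_assoc z, mul_assoc z]
  refine ⟨toImg _ _ ⟨g * v * g⁻¹, mem_cen.mpr hgv⟩, ?_, ?_, ?_, ?_⟩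
  · rw [ne_eq, toImg_eq_one]
    intro hall'
    refine hnf fun r hr => ?_
    have h' := congrArg Subtype.val (hall' ⟨g • r, fix_of_comm g3 hr⟩)
    simp only [cenFix_coe, smul_conj_smul, smul_left_cancel_iff] at h'
    exact h'
  · refine Subtype.ext ?_
    show (g * v * g⁻¹) • (p : Ω) = p
    rw [← g1, smul_conj_smul, k.hv.fa]
  · refine Subtype.ext ?_
    show (g * v * g⁻¹) • (q : Ω) = q
    rw [← g2, smul_conj_smul, k.hv.fb]
  · intro x xp xq
    obtain ⟨x, rfl⟩ := toImg_surjective x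
    rcases hall x (congrArg Subtype.val xp) (congrArg Subtype.val xq) (mem_cen.mp x.2) with e | e | e | e
    · exact Or.inl (toImg_eq_one.mpr fun r => Subtype.ext (by rw [cenFix_coe, e, one_smul]))
    · exact Or.inl (toImg_eq_one.mpr fun r => Subtype.ext (by rw [cenFix_coe, e]; exact r.2))
    · exact Or.inr (Subtype.ext (Equiv.ext fun r => Subtype.ext (by
        show (x : G) • (r : Ω) = (g * v * g⁻¹) • (r : Ω)
        rw [e])))
    · exact Or.inr (Subtype.ext (Equiv.ext fun r => Subtype.ext (by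
        show (x : G) • (r : Ω) = (g * v * g⁻¹) • (r : Ω)
        rw [e, mul_smul]
        exact ((⟨g * v * g⁻¹, mem_cen.mpr hgv⟩ : ↥(Subgroup.centralizer ({z} : Set G))) • r).2)))

/-- The image of `v` and the number of common fixed points. -/
theorem Conf.half_axis (k : KleinV a b z v) (hnf : ¬ Full Ω z v) :
    Axis (toImg ↥(Subgroup.centralizer ({z} : Set G)) ↥(fixedBy Ω z) ⟨v, mem_cen.mpr k.comm⟩)
        (⟨a, k.hz.fa⟩ : ↥(fixedBy Ω z)) ⟨b, k.hz.fb⟩ ∧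
      fix ↥(fixedBy Ω z) (toImg ↥(Subgroup.centralizer ({z} : Set G)) ↥(fixedBy Ω z) ⟨v, mem_cen.mpr k.comm⟩) =
        Nat.card {p : Ω // z • p = p ∧ v • p = p} := by
  refine ⟨⟨fun e => h.ne (congrArg Subtype.val e), ?_, Subtype.ext k.hv.fa, Subtype.ext k.hv.fb⟩, ?_⟩
  · rw [ne_eq, toImg_eq_one]
    exact fun hall => hnf fun p hp => congrArg Subtype.val (hall ⟨p, hp⟩)
  · exact Nat.card_congr
      { toFun := fun p => ⟨p.1.1, p.1.2, congrArg Subtype.val p.2⟩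
        invFun := fun p => ⟨⟨p.1, p.2.1⟩, Subtype.ext p.2.2⟩
        left_inv := fun _ => rfl
        right_inv := fun _ => rfl }

theorem Conf.count (hz : Inv2 a b z) :
    u * (Nat.card Ω - fix Ω z) =
      Nat.card {x : G // Swap a b x ∧ x * x = 1 ∧ 2 ≤ fix Ω x} * (fix Ω z * (fix Ω z - 1)) ∧
    fix Ω z < Nat.card Ω := by
  classical
  letI := Fintype.ofFinite G
  letI := Fintype.ofFinite Ω
  set S : Finset G := Finset.univ.filter fun x : G => x * x = 1 ∧ x ≠ 1 ∧ 2 ≤ fix Ω x with hS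
  have hmem : ∀ x, x ∈ S ↔ x * x = 1 ∧ x ≠ 1 ∧ 2 ≤ fix Ω x := fun x => by simp [hS]
  refine ⟨?_, ?_⟩
  · have e := count_identity h.pairs S
      (fun g x hx => (hmem _).mpr ⟨mul_self_conj ((hmem x).mp hx).1,
        fun e => ((hmem x).mp hx).2.1 (conj_eq_one_iff.mp e),
        (fix_conj (Ω := Ω) g x).symm ▸ ((hmem x).mp hx).2.2⟩)
      (fun x hx => ((hmem x).mp hx).1) ⟨z, (hmem z).mpr ⟨hz.sq, hz.ne_one, two_le_fix h.ne hz⟩⟩
      (f := fix Ω z) (fun x hx => h.fix_eq hz ((hmem x).mp hx).1 ((hmem x).mp hx).2.1 ((hmem x).mp hx).2.2)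
      h.ne
    rw [← Nat.card_eq_fintype_card] at e
    convert e using 2
    · rw [← h.invol, ← Fintype.card_coe, ← Nat.card_eq_fintype_card]
      exact Nat.card_congr (Equiv.subtypeEquivRight fun x => by
        rw [Finset.mem_filter, hmem]
        exact ⟨fun H => ⟨⟨H.sq, H.ne_one, two_le_fix h.ne H⟩, H.fa, H.fb⟩, fun H => ⟨H.2.1, H.2.2, H.1.1, H.1.2.1⟩⟩)
    · rw [← Fintype.card_coe, ← Nat.card_eq_fintype_card]
      exact Nat.card_congr (Equiv.subtypeEquivRight fun x => by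
        rw [Finset.mem_filter, hmem]
        refine ⟨fun H => ⟨⟨H.2.1, fun e => h.ne ?_, H.2.2⟩, H.1.1, H.1.2⟩,
          fun H => ⟨⟨H.2.1, H.2.2⟩, H.1.1, H.1.2.2⟩⟩
        have := H.1.1
        rwa [e, one_smul] at this)
  · obtain ⟨p, hp⟩ : ∃ p : Ω, z • p ≠ p := by
      by_contra hc
      push Not at hc
      exact hz.ne_one (h.faithful z hc)
    exact Finite.card_subtype_lt (p := fun p => z • p = p) hp

/-- **Number and kinds of the swappers conjugate to `z`.** -/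
theorem Conf.swap_types (hz : Inv2 a b z) : ∃ c : ℕ,
    u * (Nat.card Ω - fix Ω z) = c * (fix Ω z * (fix Ω z - 1)) ∧ fix Ω z < Nat.card Ω ∧
      SwapTypes a b z u w c := by
  classical
  obtain ⟨hc, hlt⟩ := h.count hz
  set c := Nat.card {x : G // Swap a b x ∧ x * x = 1 ∧ 2 ≤ fix Ω x} with hcdef
  refine ⟨c, hc, hlt, ?_⟩
  have hc0 : c ≠ 0 := fun e => by
    rw [e, zero_mul, mul_eq_zero] at hc
    have := h.vals
    omega
  obtain ⟨⟨x0, hx0, hx02, hx0f⟩⟩ := (Nat.card_pos_iff.mp (Nat.pos_of_ne_zero hc0)).1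
  rcases h.swap with ⟨t, ht, ht2, htc⟩ | ⟨hcard, hconj, hkl⟩
  · -- a swapper centralising the two point stabiliser
    have hdec : ∀ x : G, Swap a b x → x * x = 1 → x = t ∨ Inv2 a b (t * x) ∧ x = t * (t * x) := by
      intro x hx hx2
      have fa : (t * x) • a = a := by rw [mul_smul, hx.1, ht.2]
      have fb : (t * x) • b = b := by rw [mul_smul, hx.2, ht.1]
      have hxt : x = t * (t * x) := by rw [← mul_assoc, ht2, one_mul]
      rcases eq_or_ne (t * x) 1 with e | e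
      · exact Or.inl (by rw [hxt, e, mul_one])
      · refine Or.inr ⟨⟨fa, fb, ?_, e⟩, hxt⟩
        calc t * x * (t * x) = t * x * t * x := by group
          _ = t * (t * x) * x := by rw [htc (t * x) fa fb]
          _ = 1 := by rw [← mul_assoc t t x, ht2, one_mul, hx2]
    have hsw : ∀ y : G, Inv2 a b y → Swap a b (t * y) ∧ t * y * (t * y) = 1 := fun y hy => by
      refine ⟨⟨by rw [mul_smul, hy.fa, ht.1], by rw [mul_smul, hy.fb, ht.2]⟩, ?_⟩
      rw [show t * y * (t * y) = t * (y * t) * y by group, htc y hy.fa hy.fb,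
        show t * (t * y) * y = (t * t) * (y * y) by group, ht2, hy.sq, one_mul]
    have hfix : ∀ y y' : G, Inv2 a b y → Inv2 a b y' → fix Ω (t * y) = fix Ω (t * y') := fun y y' hy hy' => by
      obtain ⟨g, ga, gb, hg⟩ := h.conj y y' hy hy'
      rw [← fix_conj g (t * y), show g * (t * y) * g⁻¹ = g * t * y * g⁻¹ by group, htc g ga gb,
        mul_assoc t g y, hg]
      group
    by_cases h2t : 2 ≤ fix Ω t
    · refine Or.inl ⟨t, ht, ht2, h2t, htc, ?_⟩
      by_cases hy : ∃ y, Inv2 a b y ∧ 2 ≤ fix Ω (t * y)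
      · obtain ⟨y0, hy0, hy0f⟩ := hy
        right
        rw [hcdef, ← h.invol, ← Finite.card_option]
        refine (Nat.card_congr (Equiv.ofBijective (fun o : Option {y : G // Inv2 a b y} =>
          (o.elim ⟨t, ht, ht2, h2t⟩ fun y => ⟨t * y.1, (hsw y.1 y.2).1, (hsw y.1 y.2).2,
            (hfix y.1 y0 y.2 hy0).symm ▸ hy0f⟩ : {x : G // Swap a b x ∧ x * x = 1 ∧ 2 ≤ fix Ω x}))
          ⟨?_, ?_⟩)).symm
        · rintro (_ | ⟨y, hy⟩) (_ | ⟨y', hy'⟩) e
          · rfl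
          · exact absurd (mul_eq_left.mp (congrArg Subtype.val e).symm) hy'.ne_one
          · exact absurd (mul_eq_left.mp (congrArg Subtype.val e)) hy.ne_one
          · exact congrArg some (Subtype.ext (mul_left_cancel (congrArg Subtype.val e)))
        · rintro ⟨x, hx, hx2, hxf⟩
          rcases hdec x hx hx2 with e | ⟨e, e'⟩
          · exact ⟨none, Subtype.ext e.symm⟩
          · exact ⟨some ⟨_, e⟩, Subtype.ext e'.symm⟩
      · left
        rw [hcdef, Nat.card_eq_one_iff_unique]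
        refine ⟨⟨fun x y => ?_⟩, ⟨⟨t, ht, ht2, h2t⟩⟩⟩
        have key : ∀ x : {x : G // Swap a b x ∧ x * x = 1 ∧ 2 ≤ fix Ω x}, x.1 = t := fun x =>
          (hdec x.1 x.2.1 x.2.2.1).resolve_right fun e => hy ⟨_, e.1, e.2 ▸ x.2.2.2⟩
        exact Subtype.ext ((key x).trans (key y).symm)
    · obtain ⟨hy0, hx0t⟩ := (hdec x0 hx0 hx02).resolve_left (by rintro rfl; exact h2t hx0f)
      rw [hx0t] at hx0f
      refine Or.inr (Or.inl ⟨t, ht, ht2, by omega, htc, fun x hx hx2 hxf => ?_, ?_⟩)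
      · rcases hdec x hx hx2 with e | ⟨e, e'⟩
        · exact e
        · have h' := hfix _ _ e hy0
          rw [← e'] at h'
          omega
      · rw [hcdef, ← h.invol]
        refine (Nat.card_congr (Equiv.ofBijective (fun y : {y : G // Inv2 a b y} =>
          (⟨t * y.1, (hsw y.1 y.2).1, (hsw y.1 y.2).2, (hfix y.1 _ y.2 hy0).symm ▸ hx0f⟩ :
            {x : G // Swap a b x ∧ x * x = 1 ∧ 2 ≤ fix Ω x})) ⟨?_, ?_⟩)).symm
        · exact fun y y' e => Subtype.ext (mul_left_cancel (congrArg Subtype.val e))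
        · rintro ⟨x, hx, hx2, hxf⟩
          rcases hdec x hx hx2 with rfl | ⟨e, e'⟩
          · exact absurd hxf h2t
          · exact ⟨⟨_, e⟩, Subtype.ext e'.symm⟩
  · -- all involutions swapping are conjugate
    have hall : ∀ x : G, Swap a b x → x * x = 1 → 2 ≤ fix Ω x := fun x hx hx2 => by
      obtain ⟨g, hg⟩ := hconj x0 x hx0 hx02 hx hx2
      rw [show x = g * x0 * g⁻¹ by rw [hg, mul_inv_cancel_right], fix_conj]
      exact hx0f
    refine Or.inr (Or.inr ⟨?_, hall, ?_⟩)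
    · rw [← hcard, hcdef]
      exact Nat.card_congr (Equiv.subtypeEquivRight fun x =>
        ⟨fun H => ⟨H.1, H.2.1⟩, fun H => ⟨H.1, H.2, hall x H.1 H.2⟩⟩)
    · obtain ⟨y, hy, hy2, hyz, rest⟩ := hkl z hz
      exact ⟨y, hy, hy2, hall y hy hy2, hyz, rest⟩

end CfsgLib.TwoPointStab
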