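import Cfsg.Agent.Lib.TwoPointStab.Even
import Mathlib.GroupTheory.Transfer

/-!
# Orders, normal subgroups and Sylow normalisers
-/

set_option autoImplicit false
set_option linter.unusedSectionVars false

namespace CfsgLib.TwoPointStab

open MulAction

theorem sylow_number {G : Type*} [Group G] [Finite G] {p : ℕ} [Fact p.Prime] (P : Sylow p G) {o : ℕ}
    (hP : Nat.card ↥(P : Subgroup G) = o) :
    Nat.card ↥(Subgroup.normalizer ((P : Subgroup G) : Set G)) * Nat.card (Sylow p G) = Nat.card G ∧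
      Nat.card (Sylow p G) % p = 1 ∧ o * Nat.card (Sylow p G) ∣ Nat.card G ∧
        Nat.card (Sylow p G) ∣ Nat.card G / o := by
  have e : Nat.card (Sylow p G) = (Subgroup.normalizer ((P : Subgroup G) : Set G)).index := P.card_eq_index_normalizer
  have h2 : Nat.card (Sylow p G) % p = 1 := by
    have := card_sylow_modEq_one p G
    rwa [Nat.ModEq, Nat.one_mod_eq_one.mpr (Fact.out : p.Prime).ne_one] at this
  have h3 : o * Nat.card (Sylow p G) ∣ Nat.card G := by
    rw [← (P : Subgroup G).index_mul_card, hP, mul_comm o]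
    exact Nat.mul_dvd_mul_right P.card_dvd_index o
  refine ⟨by rw [e, mul_comm, Subgroup.index_mul_card], h2, h3, ?_⟩
  exact Nat.dvd_div_of_mul_dvd h3

variable {G : Type*} [Group G] [Finite G] {Ω : Type*} [MulAction G Ω] [Finite Ω] {a b : Ω} {u w : ℕ} {z v : G}

theorem stab_conj {g x : G} {p : Ω} (hx : x • p = p) : (g * x * g⁻¹) • g • p = g • p := by
  rw [smul_conj_smul, hx]

variable (h : Conf G Ω a b u w)
include h

theorem Conf.move {p : Ω} : ∃ g : G, g • a = p := by
  by_cases hp : p = a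
  · exact ⟨1, by rw [one_smul, hp]⟩
  · obtain ⟨g, g1, -⟩ := h.pairs a b p a h.ne hp
    exact ⟨g, g1⟩

theorem Conf.normal_move {N : Subgroup G} [hN : N.Normal] (hne : N ≠ ⊥) (p q : Ω) : ∃ m ∈ N, m • p = q := by
  obtain ⟨⟨m, hm⟩, hm1⟩ := Subgroup.ne_bot_iff_exists_ne_one.mp hne
  obtain ⟨r, hr⟩ : ∃ r : Ω, m • r ≠ r := by
    by_contra hc; push Not at hc; exact hm1 (Subtype.ext (h.faithful m hc))
  by_cases hpq : p = q
  · exact ⟨1, one_mem N, by rw [one_smul, hpq]⟩
  · obtain ⟨g, hg1, hg2⟩ := h.pairs r (m • r) p q (Ne.symm hr) hpq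
    exact ⟨g * m * g⁻¹, hN.conj_mem m hm g, by rw [← hg1, smul_conj_smul, hg2]⟩

theorem Conf.normal_card {N : Subgroup G} [hN : N.Normal] (hne : N ≠ ⊥) :
    Nat.card ↥N = Nat.card Ω * Nat.card ↥(N ⊓ stabilizer G a) := by
  rw [card_orbit_stab N (N ⊓ stabilizer G a) a (fun _ => True) ?_ ?_,
    Nat.card_congr (Equiv.subtypeUnivEquiv fun _ => trivial)]
  · exact fun p => ⟨fun _ => h.normal_move hne a p, fun _ => trivial⟩
  · exact fun g => by rw [Subgroup.mem_inf, mem_stabilizer_iff]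

theorem Conf.card_group : Nat.card G = Nat.card Ω * ((Nat.card Ω - 1) * (4 * u)) := by
  rw [← Nat.card_congr (Equiv.Set.univ G)]
  show Nat.card ↥(⊤ : Subgroup G) = _
  rw [card_orbit_stab ⊤ (stabilizer G a) a (fun _ => True) ?_ ?_, h.card_stab,
    Nat.card_congr (Equiv.subtypeUnivEquiv fun _ => trivial)]
  · exact fun p => ⟨fun _ => ⟨_, trivial, h.move.choose_spec⟩, fun _ => trivial⟩
  · exact fun g => by simp [mem_stabilizer_iff]

theorem Conf.card_cen (k : KleinV a b z v) :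
    Nat.card ↥(Subgroup.centralizer ({z} : Set G)) = fix Ω z * ((fix Ω z - 1) * 4) := by
  rw [card_orbit_stab (Subgroup.centralizer ({z} : Set G)) (CL G a z) a (fun p => z • p = p) ?_ ?_,
    h.card_cen_stab k]
  · rfl
  · intro p
    refine ⟨fun hp => ?_, ?_⟩
    · by_cases hpa : p = a
      · exact ⟨1, one_mem _, by rw [one_smul, hpa]⟩
      · obtain ⟨g, g1, -, g3⟩ := h.cen_to k.hz hpa hp k.hz.fa
        exact ⟨g, mem_cen.mpr g3, g1⟩
    · rintro ⟨g, hg, rfl⟩
      exact fix_of_comm (mem_cen.mp hg) k.hz.fa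
  · exact fun g => by rw [mem_CL, mem_cen, and_comm]

end CfsgLib.TwoPointStab
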