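import Mathlib.GroupTheory.GroupAction.MultiplePrimitivity
import Mathlib.GroupTheory.GroupAction.Quotient
import Mathlib.GroupTheory.Perm.Basic
import Mathlib.Algebra.BigOperators.Group.Finset.Basic
import Mathlib.SetTheory.Cardinal.NatCard
import Mathlib.Tactic.Group
import Mathlib.Tactic.Linarith
import Mathlib.Tactic.Ring

/-!
# Doubly transitive groups: involutions fixing or swapping a pair of points
-/

set_option autoImplicit false
set_option linter.unusedSectionVars false

namespace CfsgLib.TwoPointStab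

open MulAction

/-- Transitivity on ordered pairs of distinct points. -/
def Pairs (X Ω : Type*) [Group X] [MulAction X Ω] : Prop :=
  ∀ a b c d : Ω, a ≠ b → c ≠ d → ∃ g : X, g • a = c ∧ g • b = d

/-- The number of fixed points. -/
noncomputable def fix {X : Type*} (Ω : Type*) [Group X] [MulAction X Ω] (x : X) : ℕ :=
  Nat.card (fixedBy Ω x)

variable {X : Type*} [Group X] {Ω : Type*} [MulAction X Ω]

theorem pairs_of_multiply (h : IsMultiplyPretransitive X Ω 2) : Pairs X Ω :=
  fun _ _ _ _ h1 h2 => is_two_pretransitive_iff.mp h h1 h2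

theorem smul_conj_smul (g x : X) (p : Ω) : (g * x * g⁻¹) • g • p = g • x • p := by
  simp [mul_smul]

theorem fix_conj (g x : X) : fix Ω (g * x * g⁻¹) = fix Ω x := by
  refine (Nat.card_congr (Equiv.subtypeEquiv (MulAction.toPerm g) fun p => ?_)).symm
  show x • p = p ↔ (g * x * g⁻¹) • g • p = g • p
  rw [smul_conj_smul]
  exact (MulAction.injective g).eq_iff.symm

theorem mul_self_conj {g x : X} (h : x * x = 1) : g * x * g⁻¹ * (g * x * g⁻¹) = 1 := by
  rw [show g * x * g⁻¹ * (g * x * g⁻¹) = g * (x * x) * g⁻¹ by group, h]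
  group

theorem swap_back {x : X} (h : x * x = 1) {p q : Ω} (hp : x • p = q) : x • q = p := by
  rw [← hp, ← mul_smul, h, one_smul]

/-- The points moved by an involution come in pairs. -/
theorem fix_parity [Finite Ω] {x : X} (h : x * x = 1) : fix Ω x % 2 = Nat.card Ω % 2 := by
  classical
  letI := Fintype.ofFinite Ω
  have e := Equiv.Perm.card_fixedPoints_modEq (α := Ω) (f := (fun p => x • p : Function.End Ω)) (p := 2)
    (n := 1) (hp := ⟨Nat.prime_two⟩) (by funext p; show x • x • p = p; rw [← mul_smul, h, one_smul])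
  rw [Nat.ModEq, ← Nat.card_eq_fintype_card, ← Nat.card_eq_fintype_card] at e
  exact e.symm

section Counting

variable [Fintype Ω] [DecidableEq Ω] [DecidableEq X]

/-- Ordered pairs of distinct points. -/
def offPairs (Ω : Type*) [Fintype Ω] [DecidableEq Ω] : Finset (Ω × Ω) :=
  Finset.univ.filter fun p => p.1 ≠ p.2

theorem card_offPairs : (offPairs Ω).card = Fintype.card Ω * (Fintype.card Ω - 1) := by
  rw [show offPairs Ω = (Finset.univ : Finset Ω).offDiag from Finset.ext fun p => by simp [offPairs],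
    Finset.offDiag_card, Finset.card_univ, Nat.mul_sub, mul_one]

theorem card_fixed_pairs (x : X) :
    ((offPairs Ω).filter fun p => x • p.1 = p.1 ∧ x • p.2 = p.2).card = fix Ω x * (fix Ω x - 1) := by
  classical
  have e : fix Ω x = (Finset.univ.filter fun p : Ω => x • p = p).card := by
    rw [fix, Nat.card_eq_fintype_card, Fintype.card_ofFinset]
    exact congrArg Finset.card (Finset.ext fun p => by simp [mem_fixedBy])
  rw [e, Nat.mul_sub, mul_one, ← Finset.offDiag_card]
  congr 1
  ext p
  simp [offPairs]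
  tauto

theorem card_swapped_pairs {x : X} (h : x * x = 1) :
    ((offPairs Ω).filter fun p => x • p.1 = p.2 ∧ x • p.2 = p.1).card = Fintype.card Ω - fix Ω x := by
  classical
  have e : fix Ω x = (Finset.univ.filter fun p : Ω => x • p = p).card := by
    rw [fix, Nat.card_eq_fintype_card, Fintype.card_ofFinset]
    exact congrArg Finset.card (Finset.ext fun p => by simp [mem_fixedBy])
  rw [e, ← Finset.card_compl]
  refine Finset.card_bij (fun p _ => p.1) ?_ ?_ ?_
  · intro p hp
    simp [offPairs] at hp ⊢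
    rw [hp.2.1]
    exact Ne.symm hp.1
  · intro p hp q hq e
    simp [offPairs] at hp hq
    ext
    · exact e
    · rw [← hp.2.1, ← hq.2.1, e]
  · intro c hc
    simp at hc
    exact ⟨(c, x • c), by simp [offPairs, ← mul_smul, h, Ne.symm hc], rfl⟩

theorem card_filter_pair (hP : Pairs X Ω) (S : Finset X) (hS : ∀ g : X, ∀ x ∈ S, g * x * g⁻¹ ∈ S)
    {a b c d : Ω} (hab : a ≠ b) (hcd : c ≠ d) (a' b' c' d' : Ω)
    (hmove : ∀ g : X, g • a = c → g • b = d → g • a' = c' ∧ g • b' = d') :
    (S.filter fun x : X => x • a = a' ∧ x • b = b').card =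
      (S.filter fun x : X => x • c = c' ∧ x • d = d').card := by
  obtain ⟨g, hga, hgb⟩ := hP a b c d hab hcd
  obtain ⟨ha', hb'⟩ := hmove g hga hgb
  refine Finset.card_bij (fun x _ => g * x * g⁻¹) ?_ (fun x _ y _ e => by simpa using e) ?_
  · intro x hx
    rw [Finset.mem_filter] at hx ⊢
    refine ⟨hS g x hx.1, ?_, ?_⟩
    · rw [← hga, smul_conj_smul, hx.2.1, ha']
    · rw [← hgb, smul_conj_smul, hx.2.2, hb']
  · intro y hy
    rw [Finset.mem_filter] at hy
    refine ⟨g⁻¹ * y * g, Finset.mem_filter.mpr ⟨by simpa using hS g⁻¹ y hy.1, ?_, ?_⟩, by group⟩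
    · rw [mul_smul, mul_smul, hga, hy.2.1, inv_smul_eq_iff, ha']
    · rw [mul_smul, mul_smul, hgb, hy.2.2, inv_smul_eq_iff, hb']

/-- Pairs of a member of a normal set and a pair of points it fixes. -/
theorem sum_fixed (hP : Pairs X Ω) (S : Finset X) (hS : ∀ g : X, ∀ x ∈ S, g * x * g⁻¹ ∈ S)
    {a b : Ω} (hab : a ≠ b) :
    ∑ x ∈ S, fix Ω x * (fix Ω x - 1) =
      Fintype.card Ω * (Fintype.card Ω - 1) * (S.filter fun x : X => x • a = a ∧ x • b = b).card := by
  simp only [← card_fixed_pairs, Finset.card_filter]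
  rw [Finset.sum_comm, Finset.sum_congr rfl, Finset.sum_const, card_offPairs, smul_eq_mul]
  intro p hp
  rw [← Finset.card_filter, ← Finset.card_filter]
  refine (card_filter_pair hP S hS hab (Finset.mem_filter.mp hp).2 a b p.1 p.2 ?_).symm
  exact fun g h1 h2 => ⟨h1, h2⟩

/-- Pairs of a member of a normal set of involutions and a pair of points it swaps. -/
theorem sum_swapped (hP : Pairs X Ω) (S : Finset X) (hS : ∀ g : X, ∀ x ∈ S, g * x * g⁻¹ ∈ S)
    (hinv : ∀ x ∈ S, x * x = 1) {a b : Ω} (hab : a ≠ b) :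
    ∑ x ∈ S, (Fintype.card Ω - fix Ω x) =
      Fintype.card Ω * (Fintype.card Ω - 1) * (S.filter fun x : X => x • a = b ∧ x • b = a).card := by
  rw [Finset.sum_congr rfl fun x hx => (card_swapped_pairs (Ω := Ω) (hinv x hx)).symm]
  simp only [Finset.card_filter]
  rw [Finset.sum_comm, Finset.sum_congr rfl, Finset.sum_const, card_offPairs, smul_eq_mul]
  intro p hp
  rw [← Finset.card_filter, ← Finset.card_filter]
  refine (card_filter_pair hP S hS hab (Finset.mem_filter.mp hp).2 b a p.2 p.1 ?_).symm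
  exact fun g h1 h2 => ⟨h2, h1⟩

/-- The basic identity for a normal set of involutions with constant number of fixed points. -/
theorem count_identity (hP : Pairs X Ω) (S : Finset X) (hS : ∀ g : X, ∀ x ∈ S, g * x * g⁻¹ ∈ S)
    (hinv : ∀ x ∈ S, x * x = 1) (hne : S.Nonempty) {f : ℕ} (hf : ∀ x ∈ S, fix Ω x = f)
    {a b : Ω} (hab : a ≠ b) :
    (S.filter fun x : X => x • a = a ∧ x • b = b).card * (Fintype.card Ω - f) =
      (S.filter fun x : X => x • a = b ∧ x • b = a).card * (f * (f - 1)) := by
  have h1 := sum_fixed hP S hS hab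
  have h2 := sum_swapped hP S hS hinv hab
  rw [Finset.sum_congr rfl (g := fun _ => f * (f - 1)) (fun x hx => by rw [hf x hx]), Finset.sum_const,
    smul_eq_mul] at h1
  rw [Finset.sum_congr rfl (g := fun _ => Fintype.card Ω - f) (fun x hx => by rw [hf x hx]),
    Finset.sum_const, smul_eq_mul] at h2
  have hn : 2 ≤ Fintype.card Ω := Fintype.one_lt_card_iff_nontrivial.mpr ⟨⟨a, b, hab⟩⟩
  set u := (S.filter fun x : X => x • a = a ∧ x • b = b).card
  set w := (S.filter fun x : X => x • a = b ∧ x • b = a).card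
  set N := Fintype.card Ω * (Fintype.card Ω - 1)
  have hN : 0 < N := Nat.mul_pos (by omega) (by omega)
  refine Nat.eq_of_mul_eq_mul_left (Nat.mul_pos hne.card_pos hN) ?_
  calc S.card * N * (u * (Fintype.card Ω - f)) = (N * u) * (S.card * (Fintype.card Ω - f)) := by ring
    _ = (S.card * (f * (f - 1))) * (N * w) := by rw [h1, h2]
    _ = S.card * N * (w * (f * (f - 1))) := by ring

end Counting

end CfsgLib.TwoPointStab
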