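import Cfsg.Agent.Lib.TwoPointStab.Even
import Cfsg.Agent.Lib.RootSub.RankOne
import Cfsg.Agent.S4399

/-!
# Dihedral Sylow subgroups of a point stabiliser
-/

set_option autoImplicit false
set_option linter.unusedSectionVars false
set_option linter.style.haveILetI false

namespace CfsgLib.TwoPointStab

open MulAction

universe u

/-- A finite `2`-group with cyclic abelianization is commutative. -/
theorem comm_of_cyclic_abelianization {S : Type u} [Group S] [Finite S] (hS : IsPGroup 2 S)
    [IsCyclic (Abelianization S)] : ∀ x y : S, x * y = y * x := by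
  haveI := Fact.mk Nat.prime_two
  haveI : Group.IsNilpotent S := hS.isNilpotent
  obtain ⟨g, hg⟩ := IsCyclic.exists_generator (α := Abelianization S)
  obtain ⟨s, rfl⟩ : ∃ s, Abelianization.of s = g := QuotientGroup.mk_surjective g
  have htop : Subgroup.zpowers s ⊔ commutator S = ⊤ := by
    refine eq_top_iff.mpr fun x _ => ?_
    obtain ⟨i, hi⟩ := hg (Abelianization.of x)
    have h' : (s ^ i)⁻¹ * x ∈ commutator S := by
      have he : Abelianization.of (s ^ i) = Abelianization.of x := by rw [map_zpow]; exact hi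
      exact QuotientGroup.eq.mp he
    rw [show x = s ^ i * ((s ^ i)⁻¹ * x) by group]
    exact mul_mem (Subgroup.mem_sup_left ⟨i, rfl⟩) (Subgroup.mem_sup_right h')
  have := CfsgLib.RootSub.eq_top_of_sup_commutator _ htop
  intro x y
  obtain ⟨i, rfl⟩ : x ∈ Subgroup.zpowers s := by rw [this]; trivial
  obtain ⟨j, rfl⟩ : y ∈ Subgroup.zpowers s := by rw [this]; trivial
  exact (Commute.zpow_zpow_self s i j).eq

/-- A `2`-group with central `z`, an involution `v` with centralizer of order four, at least two involutions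
and only two elements squaring to `z` is dihedral. -/
theorem dihedral_of_small_centralizer {S : Type u} [Group S] [Finite S] (hS : IsPGroup 2 S) {z v w : S}
    (hv2 : v * v = 1) (hv1 : v ≠ 1) (hz2 : z * z = 1) (hz1 : z ≠ 1) (hvz : v ≠ z) (hz : ∀ x, x * z = z * x)
    (hC : ∀ x, x * v = v * x → x = 1 ∨ x = z ∨ x = v ∨ x = z * v) (h8 : 8 ≤ Nat.card S)
    (hsq : ∀ x, x * x = z → x = w ∨ x = z * w) :
    ∃ m : ℕ, (∃ k, 0 < k ∧ m = 2 ^ k) ∧ ∃ σ τ : S, orderOf σ = 2 * m ∧ τ * τ = 1 ∧ τ * σ * τ⁻¹ = σ⁻¹ ∧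
      Nat.card S = 4 * m ∧ (∀ x : S, ∃ i : ℕ, x = σ ^ i ∨ x = σ ^ i * τ) ∧ σ ^ m = z ∧ τ ≠ z ∧ σ * τ ≠ z ∧
        σ * τ * (σ * τ) = 1 ∧ τ ≠ 1 ∧ σ * τ ≠ 1 := by
  classical
  haveI := Fact.mk Nat.prime_two
  letI := Fintype.ofFinite S
  -- the conjugates of `v` lie in its coset of the commutator subgroup
  have hcen : Nat.card ↥(Subgroup.centralizer ({v} : Set S)) = 4 := by
    have e : (Subgroup.centralizer ({v} : Set S) : Set S) = ↑({1, z, v, z * v} : Finset S) := by
      ext g
      simp only [SetLike.mem_coe, mem_cen, Finset.coe_insert, Finset.coe_singleton, Set.mem_insert_iff,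
        Set.mem_singleton_iff]
      constructor
      · exact hC g
      · rintro (rfl | rfl | rfl | rfl)
        · simp
        · exact (hz v).symm
        · rfl
        · rw [← mul_assoc v, hz v]
    have hzv : z * v ≠ 1 := fun e =>
      hvz ((inv_eq_of_mul_eq_one_right e).symm.trans (inv_eq_of_mul_eq_one_right hz2))
    rw [← SetLike.coe_sort_coe, e, Nat.card_coe_set_eq, Set.ncard_coe_finset,
      Finset.card_insert_of_notMem, Finset.card_insert_of_notMem, Finset.card_pair]
    · exact fun e => hz1 (mul_eq_right.mp e.symm)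
    · simp [hvz.symm, hv1, eq_comm]
    · simp [Ne.symm hz1, Ne.symm hv1, Ne.symm hzv]
  have hclass : Nat.card S ≤ 4 * Nat.card ↥(commutator S) := by
    have e := (Subgroup.centralizer ({v} : Set S)).index_mul_card
    rw [hcen] at e
    have hle : (Subgroup.centralizer ({v} : Set S)).index ≤ Nat.card ↥(commutator S) := by
      refine Nat.card_le_card_of_injective
        (fun q : S ⧸ Subgroup.centralizer ({v} : Set S) => (⟨Quotient.liftOn' q (fun g => g * v * g⁻¹ * v⁻¹)
          (fun g g' h => ?_), ?_⟩ : ↥(commutator S))) ?_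
      · rw [QuotientGroup.leftRel_apply, mem_cen] at h
        have h' : g' * v * g'⁻¹ = g * v * g⁻¹ := by
          calc g' * v * g'⁻¹ = g * (g⁻¹ * g' * v) * g'⁻¹ := by group
            _ = g * (v * (g⁻¹ * g')) * g'⁻¹ := by rw [h]
            _ = g * v * g⁻¹ := by group
        simp only [h']
      · induction q using Quotient.inductionOn' with
        | _ g => exact Subgroup.commutator_mem_commutator (Subgroup.mem_top g) (Subgroup.mem_top v)
      · intro q q' h
        induction q using Quotient.inductionOn' with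
        | _ g =>
          induction q' using Quotient.inductionOn' with
          | _ g' =>
            have h' : g * v * g⁻¹ = g' * v * g'⁻¹ := mul_right_cancel (Subtype.ext_iff.mp h :)
            refine QuotientGroup.eq.mpr (mem_cen.mpr ?_)
            calc g⁻¹ * g' * v = g⁻¹ * (g' * v * g'⁻¹) * g' := by group
              _ = g⁻¹ * (g * v * g⁻¹) * g' := by rw [h']
              _ = v * (g⁻¹ * g') := by group
    omega
  have hab4 : Nat.card (Abelianization S) ≤ 4 := by
    have e : Nat.card S = Nat.card (Abelianization S) * Nat.card ↥(commutator S) :=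
      Subgroup.card_eq_card_quotient_mul_card_subgroup (commutator S)
    exact Nat.le_of_mul_le_mul_right (e ▸ hclass) Nat.card_pos
  have hnc : ¬ IsCyclic (Abelianization S) := fun hc => by
    haveI := hc
    have : Subgroup.centralizer ({v} : Set S) = ⊤ :=
      eq_top_iff.mpr fun x _ => mem_cen.mpr (comm_of_cyclic_abelianization hS x v)
    rw [this, Subgroup.card_top] at hcen
    omega
  have hpA : IsPGroup 2 (Abelianization S) := hS.of_surjective Abelianization.of QuotientGroup.mk_surjective
  obtain ⟨a, ha⟩ := IsPGroup.iff_card.mp hpA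
  have ha2 : a = 2 := by
    rcases (show a = 0 ∨ a = 1 ∨ a = 2 ∨ 3 ≤ a by omega) with rfl | rfl | h | h
    · haveI : Subsingleton (Abelianization S) := (Nat.card_eq_one_iff_unique.mp (by simpa using ha)).1
      exact absurd isCyclic_of_subsingleton hnc
    · exact absurd (isCyclic_of_prime_card (p := 2) (by simpa using ha)) hnc
    · exact h
    · have : 2 ^ 3 ≤ 2 ^ a := Nat.pow_le_pow_right (by norm_num) h
      omega
  subst ha2
  have hexp : ∀ x : Abelianization S, x ^ 2 = 1 := fun x => by
    by_contra hx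
    refine hnc (isCyclic_of_orderOf_eq_card x ?_)
    rw [ha]
    exact orderOf_eq_prime_pow (n := 1) (by simpa using hx) (by rw [← ha]; exact pow_card_eq_one')
  rcases Cfsg.Agent.S4399.result hS (by simpa using ha) hexp with
    h4 | ⟨k, ⟨φ⟩⟩ | ⟨k, hk, a, b, hao, hbo, hab⟩ | ⟨k, ⟨φ⟩⟩
  · omega
  · -- dihedral
    have hmpos : 2 ≤ 2 ^ (k + 1) := Nat.le_self_pow (by omega) 2
    haveI : NeZero (2 ^ (k + 2)) := ⟨by positivity⟩
    set σ := φ.symm (DihedralGroup.r 1) with hσ
    set τ := φ.symm (DihedralGroup.sr 0) with hτ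
    have hk2 : 2 ^ (k + 2) = 2 * 2 ^ (k + 1) := by rw [pow_succ _ (k + 1), mul_comm]
    have hσo : orderOf σ = 2 * 2 ^ (k + 1) := by
      rw [hσ, MulEquiv.orderOf_eq, DihedralGroup.orderOf_r_one, hk2]
    have hττ : τ * τ = 1 := by rw [hτ, ← map_mul, DihedralGroup.sr_mul_self, map_one]
    have hrel : τ * σ * τ⁻¹ = σ⁻¹ := by
      rw [hσ, hτ, ← map_inv, ← map_mul, ← map_mul, ← map_inv]
      simp
    have hcases : ∀ x : S, ∃ i : ℕ, x = σ ^ i ∨ x = σ ^ i * τ := fun x => by
      obtain ⟨y, rfl⟩ := φ.symm.surjective x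
      rcases y with i | i
      · exact ⟨i.val, Or.inl (by rw [hσ, ← map_pow, DihedralGroup.r_one_pow, ZMod.natCast_zmod_val])⟩
      · refine ⟨(-i).val, Or.inr ?_⟩
        rw [hσ, hτ, ← map_pow, ← map_mul, DihedralGroup.r_one_pow, ZMod.natCast_zmod_val,
          DihedralGroup.r_mul_sr, zero_sub, neg_neg]
    have hσne : σ * σ ≠ 1 := fun e => by
      have hd : orderOf σ ∣ 2 := orderOf_dvd_of_pow_eq_one (by rw [pow_two, e])
      have := Nat.le_of_dvd (by norm_num) hd
      omega
    have hτσ : τ * σ ≠ σ * τ := fun e => hσne (by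
      have h1 := hrel
      rw [e, mul_inv_cancel_right] at h1
      exact eq_inv_iff_mul_eq_one.mp h1)
    have hστ2 : σ * τ * (σ * τ) = 1 := by
      rw [show σ * τ * (σ * τ) = σ * (τ * σ * τ⁻¹) * (τ * τ) by group, hrel, hττ, mul_inv_cancel, one_mul]
    have hzσ : σ ^ (2 ^ (k + 1)) = z := by
      obtain ⟨i, rfl | rfl⟩ := hcases z
      · have hd : 2 * 2 ^ (k + 1) ∣ i + i := by
          rw [← hσo, orderOf_dvd_iff_pow_eq_one, pow_add, hz2]
        have hnd : ¬ 2 * 2 ^ (k + 1) ∣ i := by
          rw [← hσo, orderOf_dvd_iff_pow_eq_one]; exact hz1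
        obtain ⟨e, he⟩ : 2 ^ (k + 1) ∣ i := by
          rw [← two_mul] at hd; exact Nat.dvd_of_mul_dvd_mul_left (by norm_num) hd
        obtain ⟨f, hf | hf⟩ : ∃ f, e = 2 * f ∨ e = 2 * f + 1 := ⟨e / 2, by omega⟩
        · exact absurd ⟨f, by rw [he, hf]; ring⟩ hnd
        · rw [he, hf, show 2 ^ (k + 1) * (2 * f + 1) = orderOf σ * f + 2 ^ (k + 1) by rw [hσo]; ring,
            pow_add σ, pow_mul, pow_orderOf_eq_one, one_pow, one_mul]
      · refine absurd ?_ hτσ
        have h1 := hz σ
        rw [← mul_assoc, ← pow_succ', mul_assoc (σ ^ i) τ σ, pow_succ σ i, mul_assoc] at h1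
        exact (mul_left_cancel h1).symm
    have hτz : τ ≠ z := fun e => hτσ (by rw [e]; exact (hz σ).symm)
    have hστz : σ * τ ≠ z := fun e => by
      have h1 := hz σ
      rw [← e, mul_assoc σ τ σ] at h1
      exact hτσ (mul_left_cancel h1).symm
    refine ⟨2 ^ (k + 1), ⟨k + 1, by omega, rfl⟩, σ, τ, hσo, hττ, hrel, ?_, hcases, hzσ, hτz, hστz, hστ2, ?_, ?_⟩
    · rw [Nat.card_congr φ.toEquiv, DihedralGroup.nat_card, hk2]; ring
    · exact fun e => hτσ (by rw [e, one_mul, mul_one])
    · intro e
      exact hτσ (by rw [eq_inv_of_mul_eq_one_right e, inv_mul_cancel, mul_inv_cancel])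
  · -- semidihedral
    exfalso
    have hbb : b * b = 1 := by rw [← pow_two, ← hbo, pow_orderOf_eq_one]
    have hb : b⁻¹ = b := inv_eq_of_mul_eq_one_right hbb
    set M := 2 ^ (k + 2) with hM
    have hM4 : 4 ≤ M := le_trans (by norm_num) (Nat.pow_le_pow_right (by norm_num) (show 2 ≤ k + 2 by omega))
    have hMord : orderOf a = 2 * M := by rw [hao, hM, pow_succ _ (k + 2), mul_comm]
    have ha' : a ^ M * a ^ M = 1 := by rw [← pow_add, ← two_mul, ← hMord, pow_orderOf_eq_one]
    have hconj : ∀ i : ℕ, b * a ^ i * b⁻¹ = a ^ ((M - 1) * i) := fun i => by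
      rw [← conj_pow, hab, ← pow_mul]
    have hMeven : Even M := by rw [hM, pow_succ]; exact even_two.mul_left _
    have hsqi : ∀ i : ℕ, Odd i → b * a ^ i * (b * a ^ i) = a ^ M := fun i hi => by
      obtain ⟨t, rfl⟩ := hi
      have e : b * a ^ (2 * t + 1) * b = a ^ ((M - 1) * (2 * t + 1)) := by
        rw [← hconj, hb]
      rw [← mul_assoc, e, ← pow_add,
        show (M - 1) * (2 * t + 1) + (2 * t + 1) = (M + M) * t + M by
          obtain ⟨r, hr⟩ : ∃ r, M = r + 1 := ⟨M - 1, by omega⟩
          rw [hr, Nat.add_sub_cancel]; ring,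
        pow_add, pow_mul, pow_add, ha', one_pow, one_mul]
    have haM : a ^ M ≠ 1 := fun e => by
      have := Nat.le_of_dvd (by omega) (orderOf_dvd_of_pow_eq_one e)
      omega
    have hab_ne : a * b ≠ b * a := fun e => by
      have h1 : a ^ 1 = a ^ (M - 1) := by rw [pow_one, ← hab, ← e, mul_inv_cancel_right]
      have h2 := pow_inj_mod.mp h1
      rw [hMord, Nat.mod_eq_of_lt (by omega), Nat.mod_eq_of_lt (by omega)] at h2
      omega
    have hbn : b ∉ Subgroup.zpowers a := by
      rintro ⟨i, rfl⟩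
      exact hab_ne ((Commute.refl a).zpow_right i).eq
    have hi : (Subgroup.zpowers a).index = 2 := by
      have e := (Subgroup.zpowers a).index_mul_card
      rw [Nat.card_zpowers, hk, hao, show 2 ^ (k + 4) = 2 * 2 ^ (k + 3) by ring] at e
      exact Nat.eq_of_mul_eq_mul_right (by positivity) e
    have hzM : a ^ M = z := by
      have hzmem : z ∈ Subgroup.zpowers a := by
        by_contra hzn
        obtain ⟨i, hi'⟩ : b * z ∈ Subgroup.zpowers a := by
          rw [Subgroup.mul_mem_iff_of_index_two hi]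
          exact iff_of_false hbn hzn
        simp only at hi'
        refine hab_ne (mul_right_cancel (b := z) ?_)
        rw [mul_assoc, ← hi', ((Commute.refl a).zpow_right i).eq, hi', mul_assoc, ← hz a, mul_assoc]
      obtain ⟨i, hzi⟩ : ∃ i : ℕ, a ^ i = z := by
        obtain ⟨i, hi'⟩ := mem_powers_iff_mem_zpowers.mpr hzmem
        exact ⟨i, hi'⟩
      have hd : 2 * M ∣ 2 * i := by
        rw [← hMord, orderOf_dvd_iff_pow_eq_one, two_mul, pow_add, hzi, hz2]
      have hnd : ¬ 2 * M ∣ i := by
        rw [← hMord, orderOf_dvd_iff_pow_eq_one, hzi]; exact hz1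
      obtain ⟨e, rfl⟩ : M ∣ i := Nat.dvd_of_mul_dvd_mul_left (by norm_num) hd
      obtain ⟨f, rfl | rfl⟩ : ∃ f, e = 2 * f ∨ e = 2 * f + 1 := ⟨e / 2, by omega⟩
      · exact absurd ⟨f, by ring⟩ hnd
      · rw [← hzi, mul_add, mul_one, pow_add, show M * (2 * f) = (2 * M) * f by ring, pow_mul, ← hMord,
          pow_orderOf_eq_one, one_pow, one_mul]
    have key : ∀ i j : ℕ, Odd i → Odd j → i < j → j < 2 * M → b * a ^ i ≠ b * a ^ j := fun i j _ _ hij hj e => by
      have h1 := pow_inj_mod.mp (mul_left_cancel e)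
      rw [hMord, Nat.mod_eq_of_lt (by omega), Nat.mod_eq_of_lt (by omega)] at h1
      omega
    have h1 := hsq _ ((hsqi 1 odd_one).trans hzM)
    have h3 := hsq _ ((hsqi 3 (by decide)).trans hzM)
    have h5 := hsq _ ((hsqi 5 (by decide)).trans hzM)
    have n13 := key 1 3 odd_one (by decide) (by norm_num) (by omega)
    have n15 := key 1 5 odd_one (by decide) (by norm_num) (by omega)
    have n35 := key 3 5 (by decide) (by decide) (by norm_num) (by omega)
    rcases h1 with h1 | h1 <;> rcases h3 with h3 | h3 <;> rcases h5 with h5 | h5 <;>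
      first
        | exact n13 (h1.trans h3.symm)
        | exact n15 (h1.trans h5.symm)
        | exact n35 (h3.trans h5.symm)
  · exfalso
    have huniq : ∀ x : QuaternionGroup (2 ^ (k + 1)), x * x = 1 → x ≠ 1 →
        x = QuaternionGroup.a ((2 ^ (k + 1) : ℕ) : ZMod (2 * 2 ^ (k + 1))) := by
      haveI : NeZero (2 ^ (k + 1)) := ⟨by positivity⟩
      intro x hx hx1
      rcases x with i | i
      · rw [QuaternionGroup.a_mul_a, QuaternionGroup.one_def, QuaternionGroup.a.injEq] at hx
        have hi : ((i.val + i.val : ℕ) : ZMod (2 * 2 ^ (k + 1))) = 0 := by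
          push_cast; rw [ZMod.natCast_zmod_val]; exact hx
        obtain ⟨e, he⟩ := (ZMod.natCast_eq_zero_iff _ _).mp hi
        have hlt := ZMod.val_lt i
        have he2 : e < 2 := Nat.lt_of_mul_lt_mul_left
          (show 2 * 2 ^ (k + 1) * e < 2 * 2 ^ (k + 1) * 2 by omega)
        interval_cases e
        · refine absurd ?_ hx1
          rw [← ZMod.natCast_zmod_val i, show i.val = 0 by omega, Nat.cast_zero]
          rfl
        · rw [← ZMod.natCast_zmod_val i, show i.val = 2 ^ (k + 1) by omega]
      · have h4 := QuaternionGroup.orderOf_xa i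
        have hd : orderOf (QuaternionGroup.xa i) ∣ 2 := orderOf_dvd_of_pow_eq_one (by rw [pow_two, hx])
        have := Nat.le_of_dvd (by norm_num) hd
        omega
    exact hvz (φ.injective ((huniq _ (by rw [← map_mul, hv2, map_one]) (by simpa using hv1)).trans
      (huniq _ (by rw [← map_mul, hz2, map_one]) (by simpa using hz1)).symm))

end CfsgLib.TwoPointStab
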