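import Cfsg.Agent.Lib.TwoPointStab.Odd

/-!
# Odd degree: the cases
-/

set_option autoImplicit false
set_option linter.unusedSectionVars false
set_option linter.style.haveILetI false

namespace CfsgLib.TwoPointStab

open MulAction

variable {G : Type*} [Group G] [Finite G] {Ω : Type*} [MulAction G Ω] [Finite Ω]

/-- The permutation group of the centralizer on the fixed points. -/
abbrev CImg (G : Type*) [Group G] (Ω : Type*) [MulAction G Ω] (z : G) :=
  ↥(Img ↥(Subgroup.centralizer ({z} : Set G)) ↥(fixedBy Ω z))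

/-- The permutation induced by an element of the centralizer. -/
abbrev bar (Ω : Type*) [MulAction G Ω] {z x : G} (hx : x * z = z * x) : CImg G Ω z :=
  toImg ↥(Subgroup.centralizer ({z} : Set G)) ↥(fixedBy Ω z) ⟨x, mem_cen.mpr hx⟩

theorem bar_mul {z x y : G} (hx : x * z = z * x) (hy : y * z = z * y) :
    bar Ω (show x * y * z = z * (x * y) from (Commute.mul_left hx hy).eq) = bar Ω hx * bar Ω hy := by
  rw [bar, bar, bar, ← map_mul]
  rfl

theorem bar_congr {z x y : G} (hx : x * z = z * x) (hy : y * z = z * y) (e : x = y) : bar Ω hx = bar Ω hy := by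
  subst e; rfl

theorem bar_eq_one {z x : G} (hx : x * z = z * x) : bar Ω hx = 1 ↔ ∀ p : Ω, z • p = p → x • p = p := by
  rw [bar, toImg_eq_one]
  exact ⟨fun h p hp => congrArg Subtype.val (h ⟨p, hp⟩), fun h p => Subtype.ext (h p p.2)⟩

theorem bar_eq {z x y : G} (hx : x * z = z * x) (hy : y * z = z * y) :
    bar Ω hx = bar Ω hy ↔ ∀ p : Ω, z • p = p → x • p = y • p := by
  constructor
  · intro e p hp
    exact congrArg (fun g : CImg G Ω z => ((g • (⟨p, hp⟩ : ↥(fixedBy Ω z)) : ↥(fixedBy Ω z)) : Ω)) e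
  · intro e
    refine Subtype.ext (Equiv.ext fun p => Subtype.ext ?_)
    exact e p p.2

theorem conj_comm {z g x : G} (hg : g * z = z * g) (hx : x * z = z * x) :
    g * x * g⁻¹ * z = z * (g * x * g⁻¹) :=
  (Commute.mul_left (Commute.mul_left hg hx) (Commute.inv_left hg)).eq

theorem bar_conj {z g x : G} (hg : g * z = z * g) (hx : x * z = z * x) :
    bar Ω (conj_comm hg hx) = bar Ω hg * bar Ω hx * (bar Ω hg)⁻¹ := by
  rw [bar, bar, bar, ← map_inv, ← map_mul, ← map_mul]
  rfl

theorem card_cen_conj {a : Ω} {z g x : G} (hg : g ∈ CL G a z) :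
    Nat.card ↥(CL G a z ⊓ Subgroup.centralizer ({g * x * g⁻¹} : Set G)) =
      Nat.card ↥(CL G a z ⊓ Subgroup.centralizer ({x} : Set G)) := Nat.card_congr
  { toFun := fun y => ⟨g⁻¹ * y * g, (CL G a z).mul_mem ((CL G a z).mul_mem ((CL G a z).inv_mem hg) y.2.1) hg, mem_cen.mpr (by
      have e := mem_cen.mp y.2.2
      calc g⁻¹ * y * g * x = g⁻¹ * ((y : G) * (g * x * g⁻¹)) * g := by group
        _ = g⁻¹ * (g * x * g⁻¹ * (y : G)) * g := by rw [e]
        _ = x * (g⁻¹ * y * g) := by group)⟩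
    invFun := fun y => ⟨g * y * g⁻¹, (CL G a z).mul_mem ((CL G a z).mul_mem hg y.2.1) ((CL G a z).inv_mem hg), mem_cen.mpr (by
      have e := mem_cen.mp y.2.2
      calc g * (y : G) * g⁻¹ * (g * x * g⁻¹) = g * ((y : G) * x) * g⁻¹ := by group
        _ = g * (x * (y : G)) * g⁻¹ := by rw [e]
        _ = g * x * g⁻¹ * (g * (y : G) * g⁻¹) := by group)⟩
    left_inv := fun y => Subtype.ext (show g * (g⁻¹ * (y : G) * g) * g⁻¹ = y by group)
    right_inv := fun y => Subtype.ext (show g⁻¹ * (g * (y : G) * g⁻¹) * g = y by group) }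

theorem card_cen_zmul {a : Ω} {z x : G} :
    Nat.card ↥(CL G a z ⊓ Subgroup.centralizer ({z * x} : Set G)) =
      Nat.card ↥(CL G a z ⊓ Subgroup.centralizer ({x} : Set G)) := by
  refine congrArg (fun K : Subgroup G => Nat.card ↥K) (Subgroup.ext fun g => ?_)
  simp only [Subgroup.mem_inf, mem_cen]
  constructor
  · rintro ⟨hg, e⟩
    refine ⟨hg, mul_left_cancel (a := z) ?_⟩
    rw [← mul_assoc, ← hg.2, mul_assoc, e, mul_assoc]
  · rintro ⟨hg, e⟩
    exact ⟨hg, by rw [← mul_assoc, hg.2, mul_assoc, e, ← mul_assoc]⟩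

variable {a b : Ω} {u w : ℕ} {z v : G} (h : Conf G Ω a b u w)
include h

theorem Conf.ker_half (k : KleinV a b z v) (hnf : ¬ Full Ω z v) {x : G} (hx : x * z = z * x)
    (htr : bar Ω hx = 1) : x = 1 ∨ x = z := by
  rw [bar_eq_one] at htr
  rcases k.all x (htr a k.hz.fa) (htr b k.hz.fb) hx with e | e | e | e
  · exact Or.inl e
  · exact Or.inr e
  · exact absurd (fun p hp => e ▸ htr p hp) hnf
  · refine absurd (fun p hp => ?_) hnf
    have h' := htr p hp
    rw [e, ← k.comm, mul_smul, hp] at h'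
    exact h'

theorem Conf.eq_of_bar (k : KleinV a b z v) (hnf : ¬ Full Ω z v) {x y : G} (hx : x * z = z * x)
    (hy : y * z = z * y) (e : bar Ω hx = bar Ω hy) : x = y ∨ x = z * y := by
  have hyi : y⁻¹ * z = z * y⁻¹ := (Commute.inv_left hy).eq
  have e' : bar Ω (show x * y⁻¹ * z = z * (x * y⁻¹) from (Commute.mul_left hx hyi).eq) = 1 := by
    refine (bar_eq_one _).mpr fun p hp => ?_
    have hp' : z • y⁻¹ • p = y⁻¹ • p := fix_of_comm hyi hp
    rw [mul_smul, (bar_eq hx hy).mp e _ hp', smul_inv_smul]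
  rcases h.ker_half k hnf _ e' with e'' | e''
  · exact Or.inl (mul_inv_eq_one.mp e'')
  · exact Or.inr (mul_inv_eq_iff_eq_mul.mp e'')

/-- An element inducing an axis is an involution conjugate to `v` or `z v`. -/
theorem Conf.lift_axis (k : KleinV a b z v) (hnf : ¬ Full Ω z v) {x : G} (hx : x * z = z * x) {c : Ω}
    (hc : z • c = c) (hxc : x • c = c) (hc1 : bar Ω hx ≠ 1) (hf : 2 ≤ fix ↥(fixedBy Ω z) (bar Ω hx))
    (hca : c = a) : x * x = 1 ∧ ∃ g : G, g ∈ CL G a z ∧ (x = g * v * g⁻¹ ∨ x = z * (g * v * g⁻¹)) := by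
  subst hca
  obtain ⟨hax, -⟩ := h.half_axis k hnf
  obtain ⟨g', hga, hg⟩ := (h.half_img k hnf).conj_stab hax hc1 (Subtype.ext hxc) hf
  obtain ⟨⟨g, hgz⟩, rfl⟩ := toImg_surjective g'
  have hgz' := mem_cen.mp hgz
  have hg' : bar Ω (conj_comm hgz' k.comm) = bar Ω hx := by rw [bar_conj hgz' k.comm]; exact hg
  have hgv : g * v * g⁻¹ * (g * v * g⁻¹) = 1 := mul_self_conj k.hv.sq
  rcases h.eq_of_bar k hnf hx _ hg'.symm with e | e
  · exact ⟨by rw [e, hgv], g, mem_CL.mpr ⟨congrArg Subtype.val hga, hgz'⟩, Or.inl e⟩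
  · refine ⟨?_, g, mem_CL.mpr ⟨congrArg Subtype.val hga, hgz'⟩, Or.inr e⟩
    rw [e, show z * (g * v * g⁻¹) * (z * (g * v * g⁻¹)) = z * ((g * v * g⁻¹) * z) * (g * v * g⁻¹) by group,
      conj_comm hgz' k.comm, show z * (z * (g * v * g⁻¹)) * (g * v * g⁻¹) =
        (z * z) * ((g * v * g⁻¹) * (g * v * g⁻¹)) by group, k.hz.sq, hgv, one_mul]

/-- A swapper centralising `K` with a single fixed point is isolated. -/
theorem Conf.isolated_of_unique (hodd : Nat.card Ω % 2 = 1) {t : G} (ht : Swap a b t) (ht2 : t * t = 1)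
    (htf : fix Ω t ≤ 1) (huniq : ∀ x : G, Swap a b x → x * x = 1 → fix Ω x ≤ 1 → x = t) :
    Cfsg.IsIsolatedInvolution t ∧ ∃ p : Ω, t • p = p ∧ ∀ q : Ω, t • q = q → q = p := by
  haveI : Nontrivial Ω := ⟨a, b, h.ne⟩
  have h1 : ∀ x : G, x * x = 1 → fix Ω x ≤ 1 → fix Ω x = 1 := fun x hx hxf => by
    have := fix_parity (Ω := Ω) hx
    omega
  have heach := one_each (X := G) (Ω := Ω) h.pairs (fun x => x * x = 1 ∧ fix Ω x = 1)
    (fun g x hx => ⟨mul_self_conj hx.1, (fix_conj g x).trans hx.2⟩) (fun _ hx => hx) (fun c d hcd => by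
      obtain ⟨g, hg1, hg2⟩ := h.pairs a b c d h.ne hcd
      refine ⟨g * t * g⁻¹, ⟨mul_self_conj ht2, (fix_conj g t).trans (h1 t ht2 htf)⟩,
        by rw [← hg1, smul_conj_smul, ht.1, hg2], by rw [← hg2, smul_conj_smul, ht.2, hg1],
        fun x hx hxc hxd => ?_⟩
      have e := huniq (g⁻¹ * x * g) ⟨by rw [mul_smul, mul_smul, hg1, hxc, inv_smul_eq_iff, hg2],
        by rw [mul_smul, mul_smul, hg2, hxd, inv_smul_eq_iff, hg1]⟩ (by simpa using mul_self_conj (g := g⁻¹) hx.1)
        (by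
          have e' := fix_conj (Ω := Ω) g⁻¹ x
          rw [inv_inv] at e'
          rw [e', hx.2])
      rw [← e]; group)
  have htne : t ≠ 1 := fun e => h.ne (by have := ht.1; rwa [e, one_smul] at this)
  have hone : fix Ω t = 1 := h1 t ht2 htf
  obtain ⟨⟨p, hp⟩⟩ := (Nat.card_pos_iff.mp (show 0 < Nat.card (fixedBy Ω t) by rw [← fix, hone]; norm_num)).1
  have hpu : ∀ q : Ω, t • q = q → q = p := fun q hq => by
    haveI : Subsingleton (fixedBy Ω t) := Finite.card_le_one_iff_subsingleton.mp hone.le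
    exact congrArg Subtype.val (Subsingleton.elim (⟨q, hq⟩ : fixedBy Ω t) ⟨p, hp⟩)
  refine ⟨⟨orderOf_eq_prime (by rw [pow_two]; exact ht2) htne, fun g hg => ?_⟩, p, hp, hpu⟩
  obtain ⟨T, -, -, hTu⟩ := heach p
  have hfixp : (g * t * g⁻¹) • p = p := hpu _ (by rw [← mul_smul, hg.eq, mul_smul, hp])
  exact (hTu (g * t * g⁻¹) ⟨mul_self_conj ht2, (fix_conj g t).trans hone⟩ hfixp).trans (hTu t ⟨ht2, hone⟩ hp).symm

/-- No swapper centralising `K` fixes two points in odd degree. -/
theorem Conf.central_false (k : KleinV a b z v) (hodd : Nat.card Ω % 2 = 1) {t : G} (ht : Swap a b t)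
    (ht2 : t * t = 1) (htf : 2 ≤ fix Ω t) (htc : ∀ g : G, g • a = a → g • b = b → g * t = t * g) : False := by
  classical
  have htne : t ≠ 1 := fun e => h.ne (by have := ht.1; rwa [e, one_smul] at this)
  obtain ⟨g0, hg0⟩ := h.conj_two k.hz ht2 htne htf
  -- transport of `K` into the centralizer of `z`
  have tc : ∀ g : G, g • a = a → g • b = b → g0⁻¹ * g * g0 * z = z * (g0⁻¹ * g * g0) := fun g ga gb => by
    have e := htc g ga gb
    rw [← hg0] at e
    calc g0⁻¹ * g * g0 * z = g0⁻¹ * (g * (g0 * z * g0⁻¹)) * g0 := by group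
      _ = g0⁻¹ * (g0 * z * g0⁻¹ * g) * g0 := by rw [e]
      _ = z * (g0⁻¹ * g * g0) := by group
  have hnt : ∀ x : G, ∀ hx : Inv2 a b x, bar Ω (tc x hx.fa hx.fb) ≠ 1 := by
    intro x hx hbar
    have hkey : ∀ y : G, Inv2 a b y → g0⁻¹ * y * g0 = v ∨ g0⁻¹ * y * g0 = z * v := by
      intro y hy
      obtain ⟨g, ga, gb, hg⟩ := h.conj x y hx hy
      have hy' : y = g * x * g⁻¹ := eq_mul_inv_of_mul_eq hg.symm
      have htr : ∀ p : Ω, z • p = p → (g0⁻¹ * y * g0) • p = p := fun p hp => by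
        have hgi : (g0⁻¹ * g * g0)⁻¹ * z = z * (g0⁻¹ * g * g0)⁻¹ := (Commute.inv_left (tc g ga gb)).eq
        have h' := (bar_eq_one _).mp hbar _ (fix_of_comm hgi hp)
        rw [hy', show g0⁻¹ * (g * x * g⁻¹) * g0 = g0⁻¹ * g * g0 * (g0⁻¹ * x * g0) * (g0⁻¹ * g * g0)⁻¹ by group,
          mul_smul, mul_smul, h', smul_inv_smul]
      rcases k.all _ (htr a k.hz.fa) (htr b k.hz.fb) (tc y hy.fa hy.fb) with e | e | e | e
      · exact absurd (by rw [show y = g0 * (g0⁻¹ * y * g0) * g0⁻¹ by group, e]; group) hy.ne_one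
      · exfalso
        have hyt : y = t := by rw [← hg0, ← e]; group
        exact h.ne (by rw [← ht.1, ← hyt, hy.fa])
      · exact Or.inl e
      · exact Or.inr e
    have hle : Nat.card {y : G // Inv2 a b y} ≤ Nat.card ↥({v, z * v} : Finset G) := by
      refine Nat.card_le_card_of_injective (fun y => ⟨g0⁻¹ * y.1 * g0, by simpa using hkey y.1 y.2⟩) ?_
      exact fun y y' e => Subtype.ext (by simpa using (Subtype.ext_iff.mp e :))
    rw [h.invol, Nat.card_eq_fintype_card, Fintype.card_coe] at hle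
    have := h.vals
    have : ({v, z * v} : Finset G).card ≤ 2 := Finset.card_le_two
    omega
  have k12 := k.inv2_mul
  set x := g0⁻¹ * z * g0 with hx
  set y := g0⁻¹ * v * g0 with hy
  have hxz : x * z = z * x := tc z k.hz.fa k.hz.fb
  have hyz : y * z = z * y := tc v k.hv.fa k.hv.fb
  have hx2 : x * x = 1 := by simpa [hx] using mul_self_conj (g := g0⁻¹) k.hz.sq
  have hy2 : y * y = 1 := by simpa [hy] using mul_self_conj (g := g0⁻¹) k.hv.sq
  have hyx : y * x = x * y := by
    rw [hx, hy, show g0⁻¹ * v * g0 * (g0⁻¹ * z * g0) = g0⁻¹ * (v * z) * g0 by group, k.comm]; group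
  have hxy : g0⁻¹ * (z * v) * g0 = x * y := by rw [hx, hy]; group
  have bx1 : bar Ω hxz ≠ 1 := hnt z k.hz
  have by1 : bar Ω hyz ≠ 1 := hnt v k.hv
  have bxy1 : bar Ω hxz * bar Ω hyz ≠ 1 := fun e => hnt _ k12 (by
    rw [bar_congr _ (Commute.mul_left hxz hyz).eq hxy, bar_mul hxz hyz]; exact e)
  have hf : fix Ω z % 2 = 1 := (fix_parity k.hz.sq).trans hodd
  -- a common fixed point
  obtain ⟨c, hc⟩ : ∃ c : ↥(fixedBy Ω z), bar Ω hxz • c = c ∧ bar Ω hyz • c = c := by
    have bx2 : bar Ω hxz * bar Ω hxz = 1 := by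
      rw [← bar_mul hxz hxz, bar_eq_one]; intro p _; rw [hx2, one_smul]
    have by2 : bar Ω hyz * bar Ω hyz = 1 := by
      rw [← bar_mul hyz hyz, bar_eq_one]; intro p _; rw [hy2, one_smul]
    have bc : bar Ω hyz * bar Ω hxz = bar Ω hxz * bar Ω hyz := by
      rw [← bar_mul hyz hxz, ← bar_mul hxz hyz]; exact bar_congr _ _ hyx
    obtain ⟨c, hc⟩ := exists_fix_of_odd
      (fun p : ↥(fixedBy ↥(fixedBy Ω z) (bar Ω hxz)) =>
        (⟨bar Ω hyz • (p : ↥(fixedBy Ω z)), fix_of_comm bc p.2⟩ : ↥(fixedBy ↥(fixedBy Ω z) (bar Ω hxz))))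
      (fun p => Subtype.ext (by show bar Ω hyz • bar Ω hyz • (p : ↥(fixedBy Ω z)) = _; rw [← mul_smul, by2, one_smul]))
      ((fix_parity bx2).trans hf)
    exact ⟨c.1, c.2, congrArg Subtype.val hc⟩
  obtain ⟨hxc, hyc⟩ := hc
  by_cases hfull : Full Ω z v
  · have := kernel_unique (h.cen_pairs k.hz) (h.full_fixes k hfull) (two_le_fix h.ne k.hz) hf
      (x := ⟨x, mem_cen.mpr hxz⟩) (y := ⟨y, mem_cen.mpr hyz⟩)
      (fun p => Subtype.ext (by simp [← mul_smul, hx2]))
      (fun p => Subtype.ext (by simp [← mul_smul, hy2]))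
      (fun e => bx1 ((bar_eq_one hxz).mpr fun p hp => congrArg Subtype.val (e ⟨p, hp⟩)))
      (fun e => by1 ((bar_eq_one hyz).mpr fun p hp => congrArg Subtype.val (e ⟨p, hp⟩))) (c := c) hxc hyc
    refine bxy1 ?_
    rw [← bar_mul hxz hyz, bar_eq_one]
    intro p hp
    have h' := congrArg Subtype.val (this ⟨p, hp⟩)
    simp only [cenFix_coe, Subgroup.coe_mul, Subgroup.coe_inv] at h'
    rw [inv_eq_of_mul_eq_one_right hx2] at h'
    exact h'
  · have H := h.half_img k hfull
    obtain ⟨hax, -⟩ := h.half_axis k hfull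
    have bx2 : bar Ω hxz * bar Ω hxz = 1 := by
      rw [← bar_mul hxz hxz, bar_eq_one]; intro p _; rw [hx2, one_smul]
    have by2 : bar Ω hyz * bar Ω hyz = 1 := by
      rw [← bar_mul hyz hyz, bar_eq_one]; intro p _; rw [hy2, one_smul]
    have bc : bar Ω hyz * bar Ω hxz = bar Ω hxz * bar Ω hyz := by
      rw [← bar_mul hyz hxz, ← bar_mul hxz hyz]; exact bar_congr _ _ hyx
    have hsame : ∀ q : G, ∀ hq : Inv2 a b q,
        fix ↥(fixedBy Ω z) (bar Ω (tc q hq.fa hq.fb)) = fix ↥(fixedBy Ω z) (bar Ω hxz) := fun q hq => by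
      obtain ⟨g, ga, gb, hg⟩ := h.conj z q k.hz hq
      have hq' : q = g * z * g⁻¹ := eq_mul_inv_of_mul_eq hg.symm
      rw [← fix_conj (bar Ω (tc g ga gb)) (bar Ω hxz), ← bar_conj]
      exact congrArg (fun r => fix ↥(fixedBy Ω z) r) (bar_congr _ _ (by rw [hq', hx]; group))
    have hne : bar Ω hyz ≠ bar Ω hxz := fun e => bxy1 (by rw [e, bx2])
    have hsame2 : fix ↥(fixedBy Ω z) (bar Ω hxz * bar Ω hyz) = fix ↥(fixedBy Ω z) (bar Ω hxz) := by
      rw [← bar_mul hxz hyz, bar_congr _ (tc _ k12.fa k12.fb) hxy.symm, hsame _ k12]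
    rcases H.shape hax with ⟨-, hshape⟩ | ⟨heq, hall⟩
    · exact H.square_false hf hshape bx2 by2 bx1 by1 hne bc hxc hyc ⟨hsame v k.hv, hsame2⟩
    · obtain ⟨d, A⟩ := H.axis_of_fixed bx1 (hall _ bx2 bx1) hxc
      rw [← H.fix_eq hax A] at heq
      exact H.twisted_false hf A heq hall by2 by1 hne bc hyc

set_option maxHeartbeats 1000000 in
/-- The outcome when the swappers are the transpositions, in odd degree. -/
theorem Conf.outer_cases (k : KleinV a b z v) (hodd : Nat.card Ω % 2 = 1)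
    (hc : u * (Nat.card Ω - fix Ω z) = w * (fix Ω z * (fix Ω z - 1))) (hlt : fix Ω z < Nat.card Ω)
    (hsw : ∀ x : G, Swap a b x → x * x = 1 → 2 ≤ fix Ω x) {y v₀ : G} (hy : Swap a b y) (hy2 : y * y = 1)
    (hyz : y * z = z * y) (hv₀ : Inv2 a b v₀) (hv₀z : v₀ * z = z * v₀) (hyv₀ : y * v₀ * y = z * v₀) :
    ((u = 3 ∧ ((Nat.card Ω = 15 ∧ fix Ω z = 3) ∨ (Nat.card Ω = 91 ∧ fix Ω z = 7))) ∨
      (u = 15 ∧ Nat.card Ω = 7)) ∧
    Full Ω z v ∧ ∃ y' : G, y' ∈ CL G a z ∧ y' * y' = 1 ∧ y' * v * y' = z * v := by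
  classical
  haveI := Fact.mk Nat.prime_two
  have hvals := h.vals
  have hzz := k.hz.sq
  have hall : ∀ x : G, x * x = 1 → x ≠ 1 → 2 ≤ fix Ω x := fun x hx hx1 => by
    obtain ⟨p, hp⟩ : ∃ p : Ω, x • p ≠ p := by
      by_contra h0; push Not at h0; exact hx1 (h.faithful x h0)
    obtain ⟨g, hg1, hg2⟩ := h.pairs a b p (x • p) h.ne (Ne.symm hp)
    rw [← fix_conj g⁻¹ x]
    refine hsw _ ⟨?_, ?_⟩ (mul_self_conj hx)
    · rw [inv_inv, mul_smul, mul_smul, hg1, inv_smul_eq_iff, hg2]
    · rw [inv_inv, mul_smul, mul_smul, hg2, swap_back hx rfl, inv_smul_eq_iff, hg1]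
  have hyv : y * v * y = z * v := by
    rcases k.all v₀ hv₀.fa hv₀.fb hv₀z with e | e | e | e
    · exact absurd e hv₀.ne_one
    · rw [e, hyz, mul_assoc, hy2, hzz, mul_one] at hyv₀
      exact absurd hyv₀ k.hz.ne_one
    · rwa [e] at hyv₀
    · rw [e] at hyv₀
      calc y * v * y = z * (y * (z * v) * y) := by
            rw [← mul_assoc y z v, hyz, mul_assoc z y v, mul_assoc z, ← mul_assoc z z, hzz, one_mul]
        _ = z * v := by rw [hyv₀, ← mul_assoc z z, hzz, one_mul]
  set f := fix Ω z with hfdef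
  set n := Nat.card Ω
  have hf2 : 2 ≤ f := two_le_fix h.ne k.hz
  have hfodd : f % 2 = 1 := (fix_parity hzz).trans hodd
  set N := u + w * f with hNdef
  have hN : u * (n - 1) = (f - 1) * N := by
    rw [hNdef, show n - 1 = (n - f) + (f - 1) by omega, mul_add, hc]; ring
  have hNodd : N % 2 = 1 := by
    rcases hvals with ⟨hu, hw⟩ | ⟨hu, hw⟩ <;> rw [hNdef, hu, hw] <;> omega
  have hCLcard := h.card_cen_stab k
  have hvc : ∀ e : G, (e = 1 ∨ e = z ∨ e = v ∨ e = z * v) → e * v = v * e := fun e he =>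
    (k.mem_CL_inf he).2.1
  by_cases hfull : Full Ω z v
  · -- `V` fixes every fixed point of `z`
    obtain ⟨c, hc'⟩ := exists_fix_of_odd (α := ↥(fixedBy Ω z))
      (fun p => ⟨y • (p : Ω), fix_of_comm hyz p.2⟩)
      (fun p => Subtype.ext (by show y • y • (p : Ω) = _; rw [← mul_smul, hy2, one_smul])) hfodd
    have hyc : y • (c : Ω) = c := congrArg Subtype.val hc'
    have hca : (c : Ω) ≠ a := fun e => h.ne (by rw [e] at hyc; rw [← hy.1, hyc])
    obtain ⟨g, g1, g2, g3⟩ := h.cen_to k.hz hca c.2 k.hz.fa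
    have gi : g⁻¹ * z = z * g⁻¹ := (Commute.inv_left g3).eq
    set y' := g⁻¹ * y * g with hy'
    have hy'a : y' • a = a := by rw [hy', mul_smul, mul_smul, g1, hyc, inv_smul_eq_iff, g1]
    have hy'z : y' * z = z * y' := by
      have e := conj_comm gi hyz
      rwa [inv_inv] at e
    have hy'2 : y' * y' = 1 := by simpa [hy'] using mul_self_conj (g := g⁻¹) hy2
    have hy'CL : y' ∈ CL G a z := mem_CL.mpr ⟨hy'a, hy'z⟩
    have hy'v : y' * v * y' = z * v := by
      have e1 : g⁻¹ * (y * v * y) * g = g⁻¹ * (z * v) * g := by rw [hyv]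
      rw [show g⁻¹ * (y * v * y) * g = y' * (g⁻¹ * v * g) * y' by rw [hy']; group,
        show g⁻¹ * (z * v) * g = z * (g⁻¹ * v * g) by rw [← mul_assoc g⁻¹ z v, gi]; group] at e1
      have hfx : ∀ p, z • p = p → (g⁻¹ * v * g) • p = p := fun p hp => by
        have e := h.full_conj k hfull gi hp
        rwa [inv_inv] at e
      have hcm : g⁻¹ * v * g * z = z * (g⁻¹ * v * g) := by
        have e := conj_comm gi k.comm
        rwa [inv_inv] at e
      rcases k.all _ (hfx a k.hz.fa) (hfx b k.hz.fb) hcm with e | e | e | e <;> rw [e] at e1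
      · rw [mul_one, hy'2, mul_one] at e1
        exact absurd e1.symm k.hz.ne_one
      · rw [hy'z, mul_assoc, hy'2, hzz, mul_one] at e1
        exact absurd e1 k.hz.ne_one
      · exact e1
      · calc y' * v * y' = z * (y' * (z * v) * y') := by
              rw [← mul_assoc y' z v, hy'z, mul_assoc z y' v, mul_assoc z, ← mul_assoc z z, hzz, one_mul]
          _ = z * v := by rw [e1, ← mul_assoc z z, hzz, one_mul]
    have hny : ∀ e : G, (e = 1 ∨ e = z ∨ e = v ∨ e = z * v) → (y' * e) * v ≠ v * (y' * e) := fun e he h' => by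
      have h1 : y' * v = v * y' := by
        refine mul_right_cancel (b := e) ?_
        rw [mul_assoc y' v e, ← hvc e he, ← mul_assoc y' e v, h', ← mul_assoc v y' e]
      rw [h1, mul_assoc, hy'2, mul_one] at hy'v
      exact k.hz.ne_one (mul_eq_right.mp hy'v.symm)
    have hclass : ∀ x : G, x ∈ CL G a z → (x * x = 1 ∨ x * x = z ∨ x * x = v ∨ x * x = z * v) →
        (x = 1 ∨ x = z ∨ x = v ∨ x = z * v) ∨ ∃ e, (e = 1 ∨ e = z ∨ e = v ∨ e = z * v) ∧ x = y' * e := by
      intro x hx hxx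
      obtain ⟨hxa, hxz⟩ := mem_CL.mp hx
      by_cases htr : ∀ p : ↥(fixedBy Ω z), x • (p : Ω) = p
      · exact Or.inl (k.all x hxa (htr ⟨b, k.hz.fb⟩) hxz)
      · refine Or.inr ⟨y'⁻¹ * x, ?_, by rw [mul_inv_cancel_left]⟩
        have hsq : ∀ p : Ω, z • p = p → x • x • p = p := fun p hp => by
          rw [← mul_smul]
          rcases hxx with e | e | e | e <;> rw [e]
          · exact one_smul _ _
          · exact hp
          · exact hfull p hp
          · rw [mul_smul, hfull p hp, hp]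
        have key := kernel_unique (h.cen_pairs k.hz) (h.full_fixes k hfull) hf2 hfodd
          (x := ⟨y', mem_cen.mpr hy'z⟩) (y := ⟨x, mem_cen.mpr hxz⟩)
          (fun p => Subtype.ext (by simp [← mul_smul, hy'2])) (fun p => Subtype.ext (hsq p p.2))
          (fun e => hny 1 (Or.inl rfl) (by
            rw [mul_one]
            exact k.comm_v hy'a (congrArg Subtype.val (e ⟨b, k.hz.fb⟩)) hy'z))
          (fun e => htr fun p => congrArg Subtype.val (e p))
          (c := ⟨a, k.hz.fa⟩) (Subtype.ext hy'a) (Subtype.ext hxa)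
        exact k.all _ (congrArg Subtype.val (key ⟨a, k.hz.fa⟩)) (congrArg Subtype.val (key ⟨b, k.hz.fb⟩))
          (Commute.mul_left (Commute.inv_left hy'z) hxz).eq
    have hallv : ∀ x ∈ CL G a z, x * v * x⁻¹ = v ∨ x * v * x⁻¹ = z * v := fun x hx => by
      obtain ⟨xa, xz⟩ := mem_CL.mp hx
      rcases k.all (x * v * x⁻¹) (h.full_conj k hfull xz k.hz.fa) (h.full_conj k hfull xz k.hz.fb)
        (conj_comm xz k.comm) with e | e | e | e
      · exact absurd (conj_eq_one_iff.mp e) k.hv.ne_one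
      · exact absurd (mul_left_cancel (mul_inv_eq_iff_eq_mul.mp e |>.trans xz.symm)) k.ne
      · exact Or.inl e
      · exact Or.inr e
    have hflip : y' * v * y'⁻¹ = z * v := by rw [inv_eq_of_mul_eq_one_right hy'2, hy'v]
    have h2c := half_cen (CL G a z) hzz k.hz.ne_one (fun x hx => (mem_CL.mp hx).2) hallv hy'CL hflip
    set c₀ := Nat.card ↥(CL G a z ⊓ Subgroup.centralizer ({v} : Set G)) with hc₀
    have hvy : v * y' * v⁻¹ = z * y' := by
      rw [inv_eq_of_mul_eq_one_right k.hv.sq]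
      calc v * y' * v = (z * z) * (v * y' * v) * (y' * y') := by rw [hzz, hy'2, one_mul, mul_one]
        _ = z * ((z * v) * (y' * v * y') * y') := by group
        _ = z * y' := by rw [hy'v, ← pow_two (z * v), pow_two, k.inv2_mul.sq, one_mul]
    have hally : ∀ x ∈ CL G a z, x * y' * x⁻¹ = y' ∨ x * y' * x⁻¹ = z * y' := fun x hx => by
      have hq : (x * y' * x⁻¹) * (x * y' * x⁻¹) = 1 := mul_self_conj hy'2
      rcases hclass _ (mul_mem (mul_mem hx hy'CL) (inv_mem hx)) (Or.inl hq) with hV | ⟨e, he, heq⟩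
      · exfalso
        refine hny 1 (Or.inl rfl) ?_
        rw [mul_one]
        have hcom : ∀ q : G, q = v ∨ q = z * v → (x * y' * x⁻¹) * q = q * (x * y' * x⁻¹) := fun q hq' => by
          obtain ⟨-, h1, h2, -⟩ := k.mem_CL_inf hV
          rcases hq' with rfl | rfl
          · exact h1
          · exact (Commute.mul_right h2 h1).eq
        have h1 := hcom _ (hallv x hx)
        calc y' * v = x⁻¹ * (x * y' * x⁻¹ * (x * v * x⁻¹)) * x := by group
          _ = x⁻¹ * (x * v * x⁻¹ * (x * y' * x⁻¹)) * x := by rw [h1]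
          _ = v * y' := by group
      · rcases he with rfl | rfl | rfl | rfl
        · exact Or.inl (by rw [heq, mul_one])
        · exact Or.inr (by rw [heq, hy'z])
        · rw [heq, ← mul_assoc] at hq
          rw [hy'v, mul_assoc, k.hv.sq, mul_one] at hq
          exact absurd hq k.hz.ne_one
        · rw [heq, ← mul_assoc y' z v, hy'z, mul_assoc z y' v] at hq
          rw [show z * (y' * v) * (z * (y' * v)) = z * ((y' * v) * z) * (y' * v) by group,
            (Commute.mul_left hy'z k.comm).eq, show z * (z * (y' * v)) * (y' * v) = (z * z) * (y' * v * y') * v by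
              group, hzz, one_mul, hy'v, mul_assoc, k.hv.sq, mul_one] at hq
          exact absurd hq k.hz.ne_one
    have hcy : Nat.card ↥(CL G a z ⊓ Subgroup.centralizer ({y'} : Set G)) = c₀ := by
      have := half_cen (CL G a z) hzz k.hz.ne_one (fun x hx => (mem_CL.mp hx).2) hally
        (k.mem_CL_inf (Or.inr (Or.inr (Or.inl rfl)))).1 hvy
      omega
    obtain ⟨d, δ, hd0, hδ, hdne, heq⟩ := h.dihedral_count k hall hN hNodd
      (fun x hx hxv hxx => (hclass x hx hxx).resolve_right fun ⟨e, he, hxe⟩ => hny e he (hxe ▸ hxv))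
      (w₀ := y' * v) (fun x hx hxx => by
        rcases hclass x hx (Or.inr (Or.inl hxx)) with hV | ⟨e, he, rfl⟩
        · rw [(k.mem_CL_inf hV).2.2.2.2.2] at hxx
          exact absurd hxx.symm k.hz.ne_one
        · rcases he with he | he | he | he <;> rw [he] at hxx ⊢
          · rw [mul_one, hy'2] at hxx
            exact absurd hxx.symm k.hz.ne_one
          · rw [mul_assoc y' z, ← mul_assoc z y', ← hy'z, ← mul_assoc y', ← mul_assoc y' y', hy'2, one_mul,
              hzz] at hxx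
            exact absurd hxx.symm k.hz.ne_one
          · exact Or.inl rfl
          · exact Or.inr (by rw [← mul_assoc, hy'z, mul_assoc]))
      (by rw [hCLcard]; omega) (c := c₀) (fun x hx hx2 hx1 hxz => by
        rcases hclass x hx (Or.inl hx2) with hV | ⟨e, he, rfl⟩
        · rcases hV with rfl | rfl | rfl | rfl
          · exact absurd rfl hx1
          · exact absurd rfl hxz
          · rfl
          · exact card_cen_zmul
        · rcases he with rfl | rfl | rfl | rfl
          · rw [mul_one]; exact hcy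
          · rw [hy'z, card_cen_zmul]; exact hcy
          · rw [← mul_assoc, hy'v, mul_assoc, k.hv.sq, mul_one] at hx2
            exact absurd hx2 k.hz.ne_one
          · rw [← mul_assoc y' z v, hy'z, mul_assoc z y' v] at hx2
            rw [show z * (y' * v) * (z * (y' * v)) = z * ((y' * v) * z) * (y' * v) by group,
              (Commute.mul_left hy'z k.comm).eq, show z * (z * (y' * v)) * (y' * v) = (z * z) * (y' * v * y') * v by
                group, hzz, one_mul, hy'v, mul_assoc, k.hv.sq, mul_one] at hx2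
            exact absurd hx2 k.hz.ne_one)
    refine ⟨?_, hfull, y', hy'CL, hy'2, hy'v⟩
    have hc0 : (c₀ : ℤ) ≠ 0 := by
      have : 0 < c₀ := Nat.card_pos
      omega
    rw [h2c] at heq
    push_cast at heq
    have heq' : (N : ℤ) * ((d : ℤ) - δ) ^ 2 = 32 * ((1 : ℕ) : ℤ) ^ 2 * (d * ((d : ℤ) + δ)) := by
      refine mul_right_cancel₀ (pow_ne_zero 2 hc0) ?_
      push_cast
      linear_combination heq
    obtain ⟨s, hsodd, hs8, hNs⟩ := odd_arith Nat.one_pos hd0 hδ hdne hNodd heq'
    have hs1 : s = 1 := by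
      have hsle := Nat.le_of_dvd (by norm_num) hs8
      interval_cases s <;> omega
    subst hs1
    rcases hvals with ⟨hu, hw⟩ | ⟨hu, hw⟩
    · rw [hu, hw] at hc hNdef
      refine Or.inl ⟨hu, ?_⟩
      have h37 : f = 3 ∨ f = 7 := by rcases hδ with e | e <;> rw [e] at hNs <;> omega
      rcases h37 with e | e <;> rw [e] at hc ⊢
      · exact Or.inl ⟨by omega, rfl⟩
      · exact Or.inr ⟨by omega, rfl⟩
    · rw [hu, hw] at hc hNdef
      refine Or.inr ⟨hu, ?_⟩
      have h3 : f = 3 := by rcases hδ with e | e <;> rw [e] at hNs <;> omega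
      rw [h3] at hc
      omega
  · -- the induced group has two point stabilisers of order two
    exfalso
    have H := h.half_img k hfull
    obtain ⟨hax, hfix⟩ := h.half_axis k hfull
    set f' := Nat.card {p : Ω // z • p = p ∧ v • p = p} with hf'def
    have hf'2 : 2 ≤ f' := hfix ▸ H.two_le_fix hax
    have hf'odd : f' % 2 = 1 := by
      rw [← hfix]; exact (fix_parity (H.sq hax)).trans hfodd
    have hbv2 : bar Ω k.comm * bar Ω k.comm = 1 := H.sq hax
    have hF' : ∀ x : G, x * z = z * x → (x * v * x⁻¹ = z * v ∨ x * v * x⁻¹ = v) → ∀ p : Ω, z • p = p → v • p = p →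
        v • x • p = x • p := by
      intro x hxz hxv p hp hvp
      have hxi : x⁻¹ * v * x = z * v ∨ x⁻¹ * v * x = v := by
        rcases hxv with e | e
        · left
          calc x⁻¹ * v * x = x⁻¹ * (z * (x * v * x⁻¹)) * x := by rw [e, ← mul_assoc z, hzz, one_mul]
            _ = (x⁻¹ * z) * x * v := by group
            _ = z * v := by rw [(Commute.inv_left hxz).eq, inv_mul_cancel_right]
        · right
          calc x⁻¹ * v * x = x⁻¹ * (x * v * x⁻¹) * x := by rw [e]
            _ = v := by group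
      calc v • x • p = x • (x⁻¹ * v * x) • p := by rw [mul_smul, mul_smul, smul_inv_smul]
        _ = x • p := by rcases hxi with e | e <;> rw [e] <;> simp [mul_smul, hvp, hp]
    have hodd' : Nat.card {p : Ω // z • p = p ∧ v • p = p} % 2 = 1 := hf'odd
    have hyv' : y * v * y⁻¹ = z * v := by rw [inv_eq_of_mul_eq_one_right hy2, hyv]
    rcases H.shape hax with ⟨hsq, hshape⟩ | ⟨heq, hallX⟩
    swap
    · -- two orbits
      obtain ⟨c, hc'⟩ := exists_fix_of_odd (α := {p : Ω // z • p = p ∧ v • p = p})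
        (fun p => ⟨y • (p : Ω), fix_of_comm hyz p.2.1, hF' y hyz (Or.inl hyv') p p.2.1 p.2.2⟩)
        (fun p => Subtype.ext (by show y • y • (p : Ω) = _; rw [← mul_smul, hy2, one_smul])) hodd'
      have hyc : y • (c : Ω) = c := congrArg Subtype.val hc'
      obtain ⟨d, A⟩ := H.axis_at hax (c := (⟨c, c.2.1⟩ : ↥(fixedBy Ω z))) (Subtype.ext c.2.2)
      have hby2 : bar Ω hyz * bar Ω hyz = 1 := by
        rw [← bar_mul hyz hyz, bar_eq_one]; intro p _; rw [hy2, one_smul]
      have hbya : ∀ {r : CImg G Ω z}, r • (⟨a, k.hz.fa⟩ : ↥(fixedBy Ω z)) = ⟨a, k.hz.fa⟩ → bar Ω hyz ≠ r := by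
        intro r hr e
        rw [← e] at hr
        exact h.ne (hy.1 ▸ (congrArg Subtype.val hr).symm)
      refine H.twisted_false hfodd A heq hallX hby2 (hbya (one_smul _ _)) (hbya (Subtype.ext k.hv.fa)) ?_
        (Subtype.ext hyc)
      show bar Ω hyz * bar Ω k.comm = bar Ω k.comm * bar Ω hyz
      rw [← bar_mul hyz k.comm, ← bar_mul k.comm hyz, bar_eq]
      intro p hp
      have : y * v = z * (v * y) := by
        calc y * v = y * v * y * y := by rw [mul_assoc (y * v), hy2, mul_one]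
          _ = z * (v * y) := by rw [hyv, mul_assoc]
      rw [this, mul_smul]
      exact fix_of_comm ((Commute.mul_left k.comm hyz).eq) hp
    · -- one orbit
      set w0 := y * v with hw0
      have hw0z : w0 * z = z * w0 := (Commute.mul_left hyz k.comm).eq
      have hw0sq : w0 * w0 = z := by
        rw [hw0, show y * v * (y * v) = (y * v * y) * v by group, hyv, mul_assoc, k.hv.sq, mul_one]
      have hw0v : w0 * v * w0⁻¹ = z * v := by
        rw [hw0, show y * v * v * (y * v)⁻¹ = y * (v * v * v⁻¹) * y⁻¹ by group, mul_inv_cancel_right, hyv']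
      obtain ⟨c, hc'⟩ := exists_fix_of_odd (α := {p : Ω // z • p = p ∧ v • p = p})
        (fun p => ⟨w0 • (p : Ω), fix_of_comm hw0z p.2.1, hF' w0 hw0z (Or.inl hw0v) p p.2.1 p.2.2⟩)
        (fun p => Subtype.ext (by show w0 • w0 • (p : Ω) = _; rw [← mul_smul, hw0sq, p.2.1])) hodd'
      have hwc : w0 • (c : Ω) = c := congrArg Subtype.val hc'
      have hca : (c : Ω) ≠ a := fun e => h.ne (by
        rw [e, hw0, mul_smul, k.hv.fa, hy.1] at hwc
        exact hwc.symm)
      obtain ⟨g, g1, g2, g3, hlev⟩ := h.cen_level k hca c.2.1 k.hz.fa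
      have gi : g⁻¹ * z = z * g⁻¹ := (Commute.inv_left g3).eq
      set w' := g⁻¹ * w0 * g with hw'
      have hw'a : w' • a = a := by rw [hw', mul_smul, mul_smul, g1, hwc, inv_smul_eq_iff, g1]
      have hw'z : w' * z = z * w' := by
        have e := conj_comm gi hw0z
        rwa [inv_inv] at e
      have hw'sq : w' * w' = z := by
        rw [hw', show g⁻¹ * w0 * g * (g⁻¹ * w0 * g) = g⁻¹ * (w0 * w0) * g by group, hw0sq, gi,
          inv_mul_cancel_right]
      have hw'CL : w' ∈ CL G a z := mem_CL.mpr ⟨hw'a, hw'z⟩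
      have hw'v : w' * v * w'⁻¹ = z * v := by
        have hgv : g⁻¹ * v * g = v ∨ g⁻¹ * v * g = z * v := by
          rcases hlev v c.2.2 k.hv.fa k.comm with e | e | e | e
          · exact absurd e k.hv.ne_one
          · exact absurd e k.ne
          · left; nth_rw 1 [e]; group
          · right
            nth_rw 1 [e]
            rw [← mul_assoc g⁻¹ z, gi]
            group
        have e1 : w' * (g⁻¹ * v * g) * w'⁻¹ = z * (g⁻¹ * v * g) := by
          rw [hw', show g⁻¹ * w0 * g * (g⁻¹ * v * g) * (g⁻¹ * w0 * g)⁻¹ = g⁻¹ * (w0 * v * w0⁻¹) * g by group,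
            hw0v, ← mul_assoc g⁻¹ z v, gi]
          group
        rcases hgv with e | e <;> rw [e] at e1
        · exact e1
        · rw [← mul_assoc w', hw'z, mul_assoc z w', mul_assoc z] at e1
          have h1 := mul_left_cancel e1
          exact h1
      have hnw : ∀ e : G, (e = 1 ∨ e = z ∨ e = v ∨ e = z * v) → (w' * e) * v ≠ v * (w' * e) := fun e he h' => by
        have h1 : w' * v = v * w' := by
          refine mul_right_cancel (b := e) ?_
          rw [mul_assoc w' v e, ← hvc e he, ← mul_assoc w' e v, h', ← mul_assoc v w' e]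
        rw [h1, mul_inv_cancel_right] at hw'v
        exact k.hz.ne_one (mul_eq_right.mp hw'v.symm)
      have hbw1 : bar Ω hw'z ≠ 1 := fun e => by
        rcases h.ker_half k hfull _ e with e' | e' <;> rw [e'] at hw'sq
        · exact k.hz.ne_one (hw'sq.symm.trans (one_mul 1))
        · exact k.hz.ne_one (hw'sq.symm.trans hzz)
      have hbinv : ∀ {x : G} (hx : x * z = z * x), (x * x = 1 ∨ x * x = z) → bar Ω hx * bar Ω hx = 1 :=
        fun {x} hx hxx => by
          rw [← bar_mul hx hx, bar_eq_one]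
          intro p hp
          rcases hxx with e | e <;> rw [e]
          · exact one_smul _ _
          · exact hp
      have hfw : fix ↥(fixedBy Ω z) (bar Ω hw'z) ≤ 1 := by
        by_contra hcon
        obtain ⟨h2, -⟩ := h.lift_axis k hfull hw'z k.hz.fa hw'a hbw1 (by omega) rfl
        exact k.hz.ne_one (hw'sq.symm.trans h2)
      have hP1 : ∀ {r : CImg G Ω z}, r * r = 1 → fix ↥(fixedBy Ω z) r ≤ 1 → fix ↥(fixedBy Ω z) r = 1 :=
        fun {r} hr hrf => by
          have := fix_parity (Ω := ↥(fixedBy Ω z)) hr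
          have : Nat.card ↥(fixedBy Ω z) % 2 = 1 := hfodd
          omega
      haveI : Nontrivial ↥(fixedBy Ω z) := Finite.one_lt_card_iff_nontrivial.mp H.big
      obtain ⟨T, -, -, hTu⟩ := one_each (X := CImg G Ω z) (Ω := ↥(fixedBy Ω z)) H.pairs
        (fun r => r * r = 1 ∧ fix ↥(fixedBy Ω z) r = 1)
        (fun g r hr => ⟨mul_self_conj hr.1, (fix_conj g r).trans hr.2⟩) (fun _ hr => hr)
        (fun p q hpq => by
          obtain ⟨t, ht, -, htf, htp, htq, hu⟩ := hshape p q hpq
          exact ⟨t, ⟨ht, hP1 ht htf⟩, htp, htq, fun r hr hrp hrq => hu r hr.1 hr.2.le hrp hrq⟩) ⟨a, k.hz.fa⟩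
      have huniqT : ∀ {x : G} (hx : x * z = z * x), x • a = a → bar Ω hx * bar Ω hx = 1 →
          fix ↥(fixedBy Ω z) (bar Ω hx) ≤ 1 → x = w' ∨ x = z * w' := fun {x} hx hxa hx2 hxf =>
        h.eq_of_bar k hfull hx hw'z ((hTu _ ⟨hx2, hP1 hx2 hxf⟩ (Subtype.ext hxa)).trans
          (hTu _ ⟨hbinv hw'z (Or.inr hw'sq), hP1 (hbinv hw'z (Or.inr hw'sq)) hfw⟩ (Subtype.ext hw'a)).symm)
      have hsmall : ∀ x : G, x ∈ CL G a z → x * v = v * x →
          (x * x = 1 ∨ x * x = z ∨ x * x = v ∨ x * x = z * v) → x = 1 ∨ x = z ∨ x = v ∨ x = z * v := by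
        intro x hx hxv hxx
        obtain ⟨hxa, hxz⟩ := mem_CL.mp hx
        have hb2 : bar Ω hxz * bar Ω hxz = 1 ∨ bar Ω hxz * bar Ω hxz = bar Ω k.comm := by
          rw [← bar_mul hxz hxz]
          rcases hxx with e | e | e | e
          · left; rw [bar_eq_one]; intro p _; rw [e, one_smul]
          · left; rw [bar_eq_one]; intro p hp; rw [e, hp]
          · right; exact bar_congr _ _ e
          · right; rw [bar_eq]; intro p hp; rw [e, mul_smul, fix_of_comm k.comm hp]
        by_cases h1 : bar Ω hxz = 1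
        · rcases h.ker_half k hfull _ h1 with e | e
          · exact Or.inl e
          · exact Or.inr (Or.inl e)
        by_cases h2 : bar Ω hxz = bar Ω k.comm
        · rcases h.eq_of_bar k hfull _ _ h2 with e | e
          · exact Or.inr (Or.inr (Or.inl e))
          · exact Or.inr (Or.inr (Or.inr e))
        exfalso
        have hcomw : bar Ω hw'z * bar Ω k.comm = bar Ω k.comm * bar Ω hw'z := by
          rw [← bar_mul hw'z k.comm, ← bar_mul k.comm hw'z, bar_eq]
          intro p hp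
          rw [show w' * v = z * (v * w') by rw [← mul_assoc z, ← hw'v, inv_mul_cancel_right], mul_smul]
          exact fix_of_comm ((Commute.mul_left k.comm hw'z).eq) hp
        have hcomx : bar Ω hxz * bar Ω k.comm = bar Ω k.comm * bar Ω hxz := by
          rw [← bar_mul hxz k.comm, ← bar_mul k.comm hxz]; exact bar_congr _ _ hxv
        have hwv : bar Ω hw'z ≠ bar Ω k.comm := fun e => by
          rcases h.eq_of_bar k hfull _ _ e with e' | e' <;> rw [e'] at hw'sq
          · exact k.hz.ne_one (hw'sq.symm.trans k.hv.sq)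
          · exact k.hz.ne_one (hw'sq.symm.trans k.inv2_mul.sq)
        rcases H.level_unique hax ((fix_parity (H.sq hax)).trans hfodd) hcomw hcomx
          (Or.inl (hbinv hw'z (Or.inr hw'sq))) hb2 hbw1 hwv h1 h2 (c := ⟨a, k.hz.fa⟩) (Subtype.ext k.hv.fa)
          (Subtype.ext hw'a) (Subtype.ext hxa) with e | e
        · rcases h.eq_of_bar k hfull _ _ e with e' | e'
          · exact hnw 1 (Or.inl rfl) (by rw [mul_one, ← e']; exact hxv)
          · exact hnw z (Or.inr (Or.inl rfl)) (by rw [hw'z, ← e']; exact hxv)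
        · rw [show bar Ω hw'z * _ = bar Ω (Commute.mul_left hw'z k.comm).eq from (bar_mul hw'z k.comm).symm] at e
          rcases h.eq_of_bar k hfull _ _ e with e' | e'
          · exact hnw v (Or.inr (Or.inr (Or.inl rfl))) (by rw [← e']; exact hxv)
          · exact hnw (z * v) (Or.inr (Or.inr (Or.inr rfl))) (by
              rw [show w' * (z * v) = z * (w' * v) by rw [← mul_assoc, hw'z, mul_assoc], ← e']; exact hxv)
      -- orders of centralizers
      let M : Subgroup G :=
        { carrier := {x | x ∈ CL G a z ∧ (x * v * x⁻¹ = v ∨ x * v * x⁻¹ = z * v)}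
          one_mem' := ⟨one_mem _, Or.inl (by group)⟩
          mul_mem' := by
            rintro x y ⟨hx, hx'⟩ ⟨hy, hy'⟩
            refine ⟨mul_mem hx hy, ?_⟩
            rw [show x * y * v * (x * y)⁻¹ = x * (y * v * y⁻¹) * x⁻¹ by group]
            rcases hy' with e | e <;> rw [e]
            · exact hx'
            · rw [show x * (z * v) * x⁻¹ = z * (x * v * x⁻¹) by rw [← mul_assoc x z v, (mem_CL.mp hx).2]; group]
              rcases hx' with e | e <;> rw [e]
              · exact Or.inr rfl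
              · exact Or.inl (by rw [← mul_assoc, hzz, one_mul])
          inv_mem' := by
            rintro x ⟨hx, hx'⟩
            refine ⟨inv_mem hx, ?_⟩
            rw [inv_inv]
            rcases hx' with e | e
            · exact Or.inl (by nth_rw 1 [← e]; group)
            · right
              calc x⁻¹ * v * x = x⁻¹ * (z * (x * v * x⁻¹)) * x := by rw [e, ← mul_assoc z, hzz, one_mul]
                _ = x⁻¹ * z * x * v := by group
                _ = z * v := by rw [(mem_CL.mp (inv_mem hx)).2, inv_mul_cancel_right] }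
      have hM : Nat.card ↥M = (f' - 1) * 4 := by
        rw [card_orbit_stab M (CL G a z ⊓ stabilizer G b) b (fun p => (z • p = p ∧ v • p = p) ∧ p ≠ a) ?_ ?_,
          k.card, card_ne (fun p : Ω => z • p = p ∧ v • p = p) (p₀ := a) ⟨k.hz.fa, k.hv.fa⟩]
        · intro p
          refine ⟨fun hp => ?_, ?_⟩
          · obtain ⟨g, g1, g2, g3, hlev⟩ := h.cen_level k hp.2.symm k.hz.fa hp.1.1
            refine ⟨g, ⟨mem_CL.mpr ⟨g1, g3⟩, ?_⟩, g2⟩
            rcases hlev v k.hv.fa hp.1.2 k.comm with e | e | e | e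
            · exact absurd e k.hv.ne_one
            · exact absurd e k.ne
            · exact Or.inl e.symm
            · exact Or.inr (by nth_rw 2 [e]; rw [← mul_assoc, hzz, one_mul])
          · rintro ⟨g, hg, rfl⟩
            obtain ⟨g1, g3⟩ := mem_CL.mp hg.1
            exact ⟨⟨fix_of_comm g3 k.hz.fb, hF' g g3 hg.2.symm b k.hz.fb k.hv.fb⟩,
              fun e => h.ne (smul_left_cancel g (g1.trans e.symm))⟩
        · refine fun g => ⟨fun hg => ⟨⟨hg.1, Or.inl (mul_inv_eq_iff_eq_mul.mpr ?_)⟩, mem_stabilizer_iff.mp hg.2⟩,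
            fun hg => ⟨hg.1.1, mem_stabilizer_iff.mpr hg.2⟩⟩
          exact k.comm_v (mem_CL.mp hg.1).1 (mem_stabilizer_iff.mp hg.2) (mem_CL.mp hg.1).2
      have hMC : M ⊓ Subgroup.centralizer ({v} : Set G) = CL G a z ⊓ Subgroup.centralizer ({v} : Set G) :=
        le_antisymm (fun x hx => ⟨hx.1.1, hx.2⟩)
          (fun x hx => ⟨⟨hx.1, Or.inl (mul_inv_eq_iff_eq_mul.mpr (mem_cen.mp hx.2))⟩, hx.2⟩)
      have hMhalf := half_cen M hzz k.hz.ne_one (fun x hx => (mem_CL.mp hx.1).2) (fun x hx => hx.2)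
        (g := w') ⟨hw'CL, Or.inr hw'v⟩ hw'v
      rw [hMC, hM] at hMhalf
      set c₀ := Nat.card ↥(CL G a z ⊓ Subgroup.centralizer ({v} : Set G)) with hc₀
      have hmod : f' % 4 = 3 := by
        by_contra hcon
        have h8 : 2 ^ 3 ∣ c₀ := by
          rw [show c₀ = (f' - 1) * 2 by omega, show (2 : ℕ) ^ 3 = 4 * 2 by norm_num]
          exact Nat.mul_dvd_mul_right (by omega) 2
        obtain ⟨Q, hQ⟩ := Sylow.exists_subgroup_card_pow_prime 2 h8
        have hle : Q.map (CL G a z ⊓ Subgroup.centralizer ({v} : Set G)).subtype ≤ CL G a z ⊓ stabilizer G b := by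
          rintro _ ⟨x, hx, rfl⟩
          have hp : (⟨x, hx⟩ : ↥Q) ^ (2 ^ 3) = 1 := hQ ▸ pow_card_eq_one'
          have hpG : (x : G) ^ 2 ^ 3 = 1 := by simpa using congrArg (fun q : ↥Q => ((q : _) : G)) hp
          obtain ⟨h1, -, -, -, h2, -⟩ := k.mem_CL_inf (not_eight k hsmall x.2.1 (mem_cen.mp x.2.2) 3 hpG)
          exact ⟨h1, mem_stabilizer_iff.mpr h2⟩
        have h1 := Subgroup.card_dvd_of_le hle
        rw [Subgroup.card_map_of_injective (Subgroup.subtype_injective _), hQ, k.card] at h1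
        norm_num at h1
      have hfsq : f = f' * f' := by
        rw [hfix] at hsq
        exact hsq
      have hP : f - 1 = (f' - 1) * (f' + 1) := by
        rw [hfsq, mul_comm (f' - 1), ← Nat.sq_sub_sq, one_pow, pow_two]
      obtain ⟨d, δ, hd0, hδ, hdne, heq⟩ := h.dihedral_count k hall hN hNodd hsmall (w₀ := w')
        (fun x hx hxx => by
          obtain ⟨hxa, hxz⟩ := mem_CL.mp hx
          refine huniqT hxz hxa (hbinv hxz (Or.inr hxx)) ?_
          by_contra hcon
          have hb1 : bar Ω hxz ≠ 1 := fun e => by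
            rcases h.ker_half k hfull _ e with e' | e' <;> rw [e'] at hxx
            · exact k.hz.ne_one (hxx.symm.trans (one_mul 1))
            · exact k.hz.ne_one (hxx.symm.trans hzz)
          obtain ⟨h2, -⟩ := h.lift_axis k hfull hxz k.hz.fa hxa hb1 (by omega) rfl
          exact k.hz.ne_one (hxx.symm.trans h2))
        (by rw [hCLcard, hP, show 8 = 2 * 4 by norm_num]
            exact Nat.mul_dvd_mul_right (Dvd.dvd.mul_right (by omega) _) 4)
        (c := c₀) (fun x hx hx2 hx1 hxne => by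
          obtain ⟨hxa, hxz⟩ := mem_CL.mp hx
          have hb1 : bar Ω hxz ≠ 1 := fun e => by
            rcases h.ker_half k hfull _ e with e' | e'
            · exact hx1 e'
            · exact hxne e'
          have hxf : 2 ≤ fix ↥(fixedBy Ω z) (bar Ω hxz) := by
            by_contra hcon
            rcases huniqT hxz hxa (hbinv hxz (Or.inl hx2)) (by omega) with e | e <;> rw [e] at hx2
            · exact k.hz.ne_one (hw'sq.symm.trans hx2)
            · rw [show z * w' * (z * w') = z * (w' * z) * w' by group, hw'z,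
                show z * (z * w') * w' = (z * z) * (w' * w') by group, hzz, one_mul, hw'sq] at hx2
              exact k.hz.ne_one hx2
          obtain ⟨-, g, hg, e | e⟩ := h.lift_axis k hfull hxz k.hz.fa hxa hb1 hxf rfl <;> rw [e]
          · exact card_cen_conj hg
          · rw [card_cen_zmul]; exact card_cen_conj hg)
      have hC : Nat.card ↥(CL G a z) = 2 * (f' + 1) * c₀ := by
        rw [hCLcard, show (2 : ℕ) * (f' + 1) * c₀ = (f' + 1) * (2 * c₀) by ring, ← hMhalf, hP]
        ring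
      rw [hC] at heq
      push_cast at heq
      have hc0 : (c₀ : ℤ) ≠ 0 := by
        have : 0 < c₀ := Nat.card_pos
        omega
      have heq' : (N : ℤ) * ((d : ℤ) - δ) ^ 2 = 32 * ((f' + 1 : ℕ) : ℤ) ^ 2 * (d * ((d : ℤ) + δ)) := by
        refine mul_right_cancel₀ (pow_ne_zero 2 hc0) ?_
        push_cast
        linear_combination heq
      obtain ⟨s, hsodd, hs8, hNs⟩ := odd_arith (by omega) hd0 hδ hdne hNodd heq'
      obtain ⟨g₁, hg₁⟩ : ∃ g₁, f' + 1 = 4 * g₁ := ⟨(f' + 1) / 4, by omega⟩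
      have hsle : 4 * s ≤ f' + 1 := by
        rw [hg₁] at hs8
        have h32 : s ∣ 2 ^ 5 * g₁ := by rw [show (2 : ℕ) ^ 5 * g₁ = 8 * (4 * g₁) by ring]; exact hs8
        have := Nat.le_of_dvd (by omega) ((Nat.Coprime.pow_right 5
          (Nat.coprime_two_right.mpr (Nat.odd_iff.mpr hsodd))).dvd_of_dvd_mul_left h32)
        omega
      have hNz : (N : ℤ) = u + w * ((f' : ℤ) * f') := by rw [hNdef, hfsq]; push_cast; ring
      have hu15 : (u : ℤ) ≤ 15 ∧ (w : ℤ) ≤ 10 := by
        rcases hvals with ⟨e1, e2⟩ | ⟨e1, e2⟩ <;> rw [e1, e2] <;> norm_num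
      have hgz : (4 : ℤ) ≤ (f' : ℤ) + 1 := by exact_mod_cast (show 4 ≤ f' + 1 by omega)
      have hsz : 4 * (s : ℤ) ≤ (f' : ℤ) + 1 := by exact_mod_cast hsle
      have h1 := mul_le_mul_of_nonneg_right hsz (show (0 : ℤ) ≤ (f' : ℤ) + 1 by linarith)
      have h2 := mul_le_mul_of_nonneg_right hu15.2 (mul_self_nonneg (f' : ℤ))
      have h4 := mul_le_mul_of_nonneg_right hgz (show (0 : ℤ) ≤ (f' : ℤ) + 1 by linarith)
      have hs0 : (0 : ℤ) ≤ (s : ℤ) ^ 2 := sq_nonneg _
      have h5 := mul_nonneg (show (0 : ℤ) ≤ (f' : ℤ) + 1 by linarith) (Int.natCast_nonneg s)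
      push_cast at hNs
      rcases hδ with e | e <;> rw [e] at hNs <;> linarith

/-- **Odd degree.** -/
theorem Conf.odd_cases (k : KleinV a b z v) (hodd : Nat.card Ω % 2 = 1) :
    (∃ t : G, Cfsg.IsIsolatedInvolution t ∧ ∃ p : Ω, t • p = p ∧ ∀ q : Ω, t • q = q → q = p) ∨
    (((u = 3 ∧ ((Nat.card Ω = 15 ∧ fix Ω z = 3) ∨ (Nat.card Ω = 91 ∧ fix Ω z = 7))) ∨
      (u = 15 ∧ Nat.card Ω = 7)) ∧
    Full Ω z v ∧ ∃ y' : G, y' ∈ CL G a z ∧ y' * y' = 1 ∧ y' * v * y' = z * v) := by
  obtain ⟨c, hc, hlt, htypes⟩ := h.swap_types k.hz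
  rcases htypes with ⟨t, ht, ht2, htf, htc, -⟩ | ⟨t, ht, ht2, htf, -, huniq, -⟩ |
    ⟨rfl, hsw, y, hy, hy2, -, hyz, v₀, hv₀, hv₀z, hyv₀⟩
  · exact (h.central_false k hodd ht ht2 htf htc).elim
  · exact Or.inl ⟨t, h.isolated_of_unique hodd ht ht2 htf huniq⟩
  · exact Or.inr (h.outer_cases k hodd hc hlt hsw hy hy2 hyz hv₀ hv₀z hyv₀)

end CfsgLib.TwoPointStab
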