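import Cfsg.Agent.Lib.TwoPointStab.Common
import Cfsg.Agent.Lib.TwoPointStab.OddCases

/-!
# The degrees 26, 28 and 91 do not occur
-/

set_option autoImplicit false
set_option linter.unusedSectionVars false
set_option linter.style.haveILetI false

namespace CfsgLib.TwoPointStab

open MulAction

set_option maxRecDepth 100000 in
theorem divisors_9072 : ∀ r < 1297, r ∣ 1296 → r % 7 = 1 → r = 1 ∨ r = 8 ∨ r = 36 ∨ r = 162 ∨ r = 1296 := by
  decide +kernel

set_option maxRecDepth 100000 in
theorem divisors_39000 : ∀ r < 3001, r ∣ 3000 → r % 13 = 1 → r = 1 ∨ r = 40 ∨ r = 300 ∨ r = 3000 := by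
  decide +kernel

theorem divisors_98280 : ∀ q < 586, q ∣ 585 → (98280 / (168 * q)) % 7 = 1 → q = 39 ∨ q = 585 := by
  decide +kernel

theorem divisors_91 : ∀ r < 73, r ∣ 72 → r % 13 = 1 → r = 1 := by decide +kernel

theorem sylow_of_prime {G : Type*} [Group G] [Finite G] {p m : ℕ} [hp : Fact p.Prime] (hG : Nat.card G = p * m)
    (hm : ¬ p ∣ m) (P : Sylow p G) : Nat.card ↥(P : Subgroup G) = p := by
  obtain ⟨k, hk⟩ := IsPGroup.iff_card.mp P.2
  have h1 : p ^ k ∣ p * m := by rw [← hk, ← hG]; exact Subgroup.card_subgroup_dvd_card _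
  have h2 : p ∣ p ^ k := hk ▸ P.dvd_card_of_dvd_card (hG ▸ dvd_mul_right p m)
  rcases (show k = 0 ∨ k = 1 ∨ 2 ≤ k by omega) with rfl | rfl | hk2
  · rw [pow_zero, Nat.dvd_one] at h2
    exact absurd h2 hp.out.ne_one
  · rw [hk, pow_one]
  · refine absurd ?_ hm
    exact Nat.dvd_of_mul_dvd_mul_left hp.out.pos
      (((pow_two p) ▸ pow_dvd_pow p hk2).trans h1)

theorem centralizer_le_normalizer' {G : Type*} [Group G] (H : Subgroup G) :
    Subgroup.centralizer (H : Set G) ≤ Subgroup.normalizer (H : Set G) := by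
  intro x hx
  rw [Subgroup.mem_normalizer_iff]
  intro y
  have hy : ∀ y ∈ H, x * y * x⁻¹ = y := fun y hy =>
    mul_inv_eq_iff_eq_mul.mpr (Subgroup.mem_centralizer_iff.mp hx y hy).symm
  refine ⟨fun h => (hy y h).symm ▸ h, fun h => ?_⟩
  have e := hy _ h
  rw [show y = x⁻¹ * (x * y * x⁻¹) * x by group]
  nth_rw 1 [← e]
  rwa [show x⁻¹ * (x * (x * y * x⁻¹) * x⁻¹) * x = x * y * x⁻¹ by group]

theorem normalizer_dvd {G : Type*} [Group G] [Finite G] {p : ℕ} [hp : Fact p.Prime] (P : Subgroup G)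
    (hP : Nat.card ↥P = p) :
    Nat.card ↥(Subgroup.normalizer (P : Set G)) ∣ Nat.card ↥(Subgroup.centralizer (P : Set G)) * (p - 1) := by
  haveI : IsCyclic ↥P := isCyclic_of_prime_card hP
  have e := P.normalizerMonoidHom.ker.index_mul_card
  rw [Subgroup.normalizerMonoidHom_ker,
    Nat.card_congr (Subgroup.subgroupOfEquivOfLe (centralizer_le_normalizer' P)).toEquiv] at e
  rw [← e, mul_comm _ (p - 1)]
  refine Nat.mul_dvd_mul_right ?_ _
  rw [← Subgroup.normalizerMonoidHom_ker, Subgroup.index_ker, ← Nat.totient_prime hp.out, ← hP,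
    ← IsCyclic.card_mulAut]
  exact Subgroup.card_subgroup_dvd_card _

/-- In a four-group normalising a group of odd prime order some involution centralises it. -/
theorem klein_inverts {G : Type*} [Group G] {p : ℕ} [hp : Fact p.Prime] {q x y : G} (hq : orderOf q = p)
    (hx : x * x = 1) (hy : y * y = 1) (hxq : x * q * x⁻¹ ∈ Subgroup.zpowers q)
    (hyq : y * q * y⁻¹ ∈ Subgroup.zpowers q) : x * q = q * x ∨ y * q = q * y ∨ x * y * q = q * (x * y) := by
  have key : ∀ r : G, r * r = 1 → r * q * r⁻¹ ∈ Subgroup.zpowers q → r * q = q * r ∨ r * q * r⁻¹ = q⁻¹ := by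
    rintro r hr ⟨i, hi⟩
    simp only at hi
    have h2 : q ^ (i * i) = q ^ (1 : ℤ) := by
      rw [zpow_mul, hi, conj_zpow, hi, inv_eq_of_mul_eq_one_right hr,
        show r * (r * q * r) * r = (r * r) * q * (r * r) by group, hr, one_mul, mul_one, zpow_one]
    have h3 : (i : ZMod p) * i = 1 := by
      have := zpow_eq_zpow_iff_modEq.mp h2
      rw [hq] at this
      simpa using (ZMod.intCast_eq_intCast_iff _ _ p).mpr this
    have h5 : ∀ j : ℤ, (i : ZMod p) = j → q ^ i = q ^ j := fun j hj => zpow_eq_zpow_iff_modEq.mpr (by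
      rw [hq]; exact (ZMod.intCast_eq_intCast_iff _ _ p).mp hj)
    rcases mul_self_eq_one_iff.mp h3 with e | e
    · left
      rw [← mul_inv_eq_iff_eq_mul, ← hi, h5 1 (by simpa using e), zpow_one]
    · right
      rw [← hi, h5 (-1) (by simpa using e), zpow_neg_one]
  rcases key x hx hxq with e | e
  · exact Or.inl e
  rcases key y hy hyq with e' | e'
  · exact Or.inr (Or.inl e')
  refine Or.inr (Or.inr (mul_inv_eq_iff_eq_mul.mp ?_))
  rw [show x * y * q * (x * y)⁻¹ = x * (y * q * y⁻¹) * x⁻¹ by group, e', ← conj_inv, e, inv_inv]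

/-- The fixed points of an element are permuted by anything commuting with it; an element of prime order
either fixes one of them or their number is a multiple of the prime. -/
theorem prime_on_fix {G : Type*} [Group G] [Finite G] {Ω : Type*} [MulAction G Ω] [Finite Ω] {p : ℕ} [Fact p.Prime]
    {g x : G} (hg : g ^ p = 1) (hc : g * x = x * g) :
    (∃ q : Ω, x • q = q ∧ g • q = q) ∨ p ∣ fix Ω x := by
  classical
  letI := Fintype.ofFinite Ω
  let σ : Function.End ↥(fixedBy Ω x) := fun q => ⟨g • (q : Ω), fix_of_comm hc q.2⟩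
  have hσ : ∀ (i : ℕ) (q : ↥(fixedBy Ω x)), (((σ ^ i) q : ↥(fixedBy Ω x)) : Ω) = g ^ i • (q : Ω) := by
    intro i
    induction i with
    | zero => intro q; simp [Function.End.one_def]
    | succ i ih =>
      intro q
      rw [pow_succ, pow_succ (n := i) g, mul_smul]
      exact ih (σ q)
  have e := Equiv.Perm.card_fixedPoints_modEq (α := ↥(fixedBy Ω x)) (f := σ) (p := p) (n := 1)
    (funext fun q => Subtype.ext (by rw [pow_one, hσ, hg, one_smul]; rfl))
  rw [← Nat.card_eq_fintype_card, ← Nat.card_eq_fintype_card] at e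
  rcases Nat.eq_zero_or_pos (Nat.card (Function.fixedPoints σ)) with h0 | h0
  · right
    rw [h0] at e
    exact Nat.modEq_zero_iff_dvd.mp e
  · obtain ⟨⟨q, hq⟩⟩ := (Nat.card_pos_iff.mp h0).1
    exact Or.inl ⟨q, q.2, congrArg Subtype.val hq⟩

variable {G : Type*} [Group G] [Finite G] {Ω : Type*} [MulAction G Ω] [Finite Ω] {a b : Ω} {u w : ℕ} {z v : G}
variable (h : Conf G Ω a b u w)
include h

/-- An element of prime order not dividing the order of a point stabiliser fixes nothing. -/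
theorem Conf.fix_free {p : ℕ} (hp : p.Prime) {g : G} (hg : orderOf g = p)
    (hnd : ¬ p ∣ (Nat.card Ω - 1) * (4 * u)) (q : Ω) : g • q ≠ q := by
  intro hq
  obtain ⟨m, hm⟩ := h.move (p := q)
  refine hnd ?_
  have hmem : m⁻¹ * g * m ∈ stabilizer G a := by
    rw [mem_stabilizer_iff, mul_smul, mul_smul, hm, hq, inv_smul_eq_iff, hm]
  have e : orderOf (⟨m⁻¹ * g * m, hmem⟩ : ↥(stabilizer G a)) = p := by
    rw [← Subgroup.orderOf_coe, ← hg]
    have e' := CfsgLib.Transfer.orderOf_conj m⁻¹ g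
    rwa [inv_inv] at e'
  rw [← h.card_stab, ← e]
  exact orderOf_dvd_natCard _

/-- The degree 28 does not occur. -/
theorem Conf.not_28 (k : KleinV a b z v) (hu : u = 3) (hn : Nat.card Ω = 28) (hf : fix Ω z = 4)
    (hall : ∀ x : G, x * x = 1 → x ≠ 1 → 2 ≤ fix Ω x) : False := by
  classical
  haveI := Fact.mk Nat.prime_two
  haveI : Fact (Nat.Prime 7) := ⟨by norm_num⟩
  have hG : Nat.card G = 9072 := by rw [h.card_group, hn, hu]
  obtain ⟨P⟩ : Nonempty (Sylow 7 G) := inferInstance
  have hP : Nat.card ↥(P : Subgroup G) = 7 := sylow_of_prime (m := 1296) (by rw [hG]) (by norm_num) P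
  obtain ⟨hNn, hmod, -, hdvd'⟩ := sylow_number P hP
  rw [hG] at hNn hdvd'
  set N := Subgroup.normalizer ((P : Subgroup G) : Set G) with hN
  set C := Subgroup.centralizer ((P : Subgroup G) : Set G) with hC
  obtain ⟨g, hg⟩ := exists_prime_orderOf_dvd_card' (G := ↥(P : Subgroup G)) 7 (dvd_of_eq hP.symm)
  have hCodd : ¬ 2 ∣ Nat.card ↥C := by
    intro h2
    obtain ⟨x, hx⟩ := exists_prime_orderOf_dvd_card' (G := ↥C) 2 h2
    rw [← Subgroup.orderOf_coe] at hx hg
    have hx2 : (x : G) * x = 1 := by rw [← pow_two, ← hx, pow_orderOf_eq_one]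
    have hx1 : (x : G) ≠ 1 := fun e => by rw [e, orderOf_one] at hx; omega
    have e : fix Ω (x : G) = 4 := (h.fix_eq k.hz hx2 hx1 (hall x hx2 hx1)).trans hf
    rcases prime_on_fix (Ω := Ω) (p := 7) (g := (g : G)) (orderOf_dvd_iff_pow_eq_one.mp hg.dvd)
      (Subgroup.mem_centralizer_iff.mp x.2 g g.2) with ⟨q, -, hq⟩ | h7
    · exact h.fix_free (Fact.out : Nat.Prime 7) hg (by rw [hn, hu]; norm_num) q hq
    · rw [e] at h7; norm_num at h7
  have h4 : ¬ 4 ∣ Nat.card ↥N := fun h4 => hCodd (by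
    have := h4.trans (normalizer_dvd (p := 7) (P : Subgroup G) hP)
    rw [← hC] at this
    omega)
  set r := Nat.card (Sylow 7 G) with hr
  have hrle : r ≤ 1296 := Nat.le_of_dvd (by norm_num) hdvd'
  rcases divisors_9072 r (by omega) hdvd' hmod with e | e | e | e | e <;> rw [e] at hNn
  · exact h4 ⟨2268, by omega⟩
  · -- eight conjugates
    set φ := MulAction.toPermHom G (Sylow 7 G) with hφ
    have hker : φ.ker ≤ N := fun x hx => Sylow.smul_eq_iff_mem_normalizer.mp
      (congrArg (fun σ : Equiv.Perm (Sylow 7 G) => σ P) (MonoidHom.mem_ker.mp hx))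
    by_cases hb : φ.ker = ⊥
    · have hd := Subgroup.card_dvd_of_injective φ ((MonoidHom.ker_eq_bot_iff φ).mp hb)
      rw [hG, Nat.card_perm, ← hr, e] at hd
      norm_num [Nat.factorial] at hd
    · have hd := Subgroup.card_dvd_of_le hker
      rw [h.normal_card hb, hn, show Nat.card ↥N = 1134 by omega] at hd
      have := (dvd_mul_right 28 _).trans hd
      norm_num at this
  · exact h4 ⟨63, by omega⟩
  · exact h4 ⟨14, by omega⟩
  · -- self-normalising of order seven
    have hN7 : Nat.card ↥N = 7 := by omega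
    haveI : IsCyclic ↥(P : Subgroup G) := isCyclic_of_prime_card hP
    have hle : N ≤ C := by
      have : (P : Subgroup G) = N := Subgroup.eq_of_le_of_card_ge Subgroup.le_normalizer (by rw [hN7, hP])
      rw [← this]
      exact fun x hx => Subgroup.mem_centralizer_iff.mpr fun y hy => congrArg Subtype.val
        ((IsCyclic.isMulCommutative (α := ↥(P : Subgroup G))).is_comm.comm ⟨y, hy⟩ ⟨x, hx⟩)
    set H := (MonoidHom.transferSylow P hle).ker with hH
    have hco := (MonoidHom.ker_transferSylow_isComplement' P hle).card_mul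
    rw [hP, hG, ← hH] at hco
    have hHne : H ≠ ⊥ := fun e => by rw [e, Subgroup.card_bot] at hco; norm_num at hco
    have := h.normal_card hHne
    rw [hn] at this
    omega

/-- The degree 26 does not occur. -/
theorem Conf.not_26 (k : KleinV a b z v) (hu : u = 15) (hn : Nat.card Ω = 26) (hf : fix Ω z = 6)
    (hall : ∀ x : G, x * x = 1 → x ≠ 1 → 2 ≤ fix Ω x) : False := by
  classical
  haveI : Fact (Nat.Prime 13) := ⟨by norm_num⟩
  have hG : Nat.card G = 39000 := by rw [h.card_group, hn, hu]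
  obtain ⟨P⟩ : Nonempty (Sylow 13 G) := inferInstance
  have hP : Nat.card ↥(P : Subgroup G) = 13 := sylow_of_prime (m := 3000) (by rw [hG]) (by norm_num) P
  obtain ⟨hNn, hmod, -, hdvd'⟩ := sylow_number P hP
  rw [hG] at hNn hdvd'
  set N := Subgroup.normalizer ((P : Subgroup G) : Set G) with hN
  set C := Subgroup.centralizer ((P : Subgroup G) : Set G) with hC
  obtain ⟨g, hg⟩ := exists_prime_orderOf_dvd_card' (G := ↥(P : Subgroup G)) 13 (dvd_of_eq hP.symm)
  rw [← Subgroup.orderOf_coe] at hg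
  have hC13 : Nat.card ↥C ∣ 13 := by
    have hprimes : ∀ q : ℕ, q.Prime → q ∣ Nat.card ↥C → q = 13 := by
      intro q hq hdq
      haveI := Fact.mk hq
      obtain ⟨x, hx⟩ := exists_prime_orderOf_dvd_card' (G := ↥C) q hdq
      rw [← Subgroup.orderOf_coe] at hx
      have hx1 : (x : G) ≠ 1 := fun e => by rw [e, orderOf_one] at hx; exact hq.one_lt.ne hx
      have h13 : 13 ∣ fix Ω (x : G) := by
        refine (prime_on_fix (g := (g : G)) (orderOf_dvd_iff_pow_eq_one.mp hg.dvd)
          (Subgroup.mem_centralizer_iff.mp x.2 g g.2)).resolve_left ?_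
        rintro ⟨p, -, hp⟩
        exact h.fix_free (Fact.out : Nat.Prime 13) hg (by rw [hn, hu]; norm_num) p hp
      have hmodq : fix Ω (x : G) % q = 26 % q := by
        letI := Fintype.ofFinite Ω
        have e := Equiv.Perm.card_fixedPoints_modEq (α := Ω) (f := MulAction.toEndHom (M := G) (x : G)) (p := q)
          (n := 1) (by rw [pow_one, ← map_pow, ← hx, pow_orderOf_eq_one, map_one])
        rw [← Nat.card_eq_fintype_card, ← Nat.card_eq_fintype_card, hn] at e
        exact e.symm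
      have hlt : fix Ω (x : G) < 26 := by
        obtain ⟨p, hp⟩ : ∃ p : Ω, (x : G) • p ≠ p := by
          by_contra h0; push Not at h0; exact hx1 (h.faithful x h0)
        exact hn ▸ Finite.card_subtype_lt (p := fun p => (x : G) • p = p) hp
      rcases (show fix Ω (x : G) = 0 ∨ fix Ω (x : G) = 13 by omega) with e | e <;> rw [e] at hmodq
      · have hq26 : q ∣ 2 * 13 := Nat.dvd_of_mod_eq_zero (by simpa using hmodq.symm)
        rcases (Nat.Prime.dvd_mul hq).mp hq26 with h2 | h2
        · have hq2 := (Nat.prime_dvd_prime_iff_eq hq Nat.prime_two).mp h2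
          rw [hq2] at hx
          have := hall x (by rw [← pow_two, ← hx, pow_orderOf_eq_one]) hx1
          omega
        · exact (Nat.prime_dvd_prime_iff_eq hq (Fact.out : Nat.Prime 13)).mp h2
      · exact (Nat.prime_dvd_prime_iff_eq hq (Fact.out : Nat.Prime 13)).mp
          ((Nat.modEq_iff_dvd' (by norm_num : 13 ≤ 26)).mp hmodq)
    have hpow := Nat.eq_prime_pow_of_unique_prime_dvd (Nat.card_pos (α := ↥C)).ne' (fun {d} hd hd' => hprimes d hd hd')
    have hdvdG : Nat.card ↥C ∣ 13 * 3000 := by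
      have := C.card_subgroup_dvd_card
      rwa [hG] at this
    refine Nat.Coprime.dvd_of_dvd_mul_right ?_ hdvdG
    rw [hpow]
    exact Nat.Coprime.pow_left _ (by norm_num)
  have hd := (normalizer_dvd (p := 13) (P : Subgroup G) hP).trans (Nat.mul_dvd_mul_right hC13 (13 - 1))
  rw [← hN] at hd
  set r := Nat.card (Sylow 13 G) with hr
  have hrle : r ≤ 3000 := Nat.le_of_dvd (by norm_num) hdvd'
  rcases divisors_39000 r (by omega) hdvd' hmod with e | e | e | e <;> rw [e] at hNn
  · rw [show Nat.card ↥N = 39000 by omega] at hd; norm_num at hd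
  · rw [show Nat.card ↥N = 975 by omega] at hd; norm_num at hd
  · rw [show Nat.card ↥N = 130 by omega] at hd; norm_num at hd
  · have hN13 : Nat.card ↥N = 13 := by omega
    haveI : IsCyclic ↥(P : Subgroup G) := isCyclic_of_prime_card hP
    have hle : N ≤ C := by
      have : (P : Subgroup G) = N := Subgroup.eq_of_le_of_card_ge Subgroup.le_normalizer (by rw [hN13, hP])
      rw [← this]
      exact fun x hx => Subgroup.mem_centralizer_iff.mpr fun y hy => congrArg Subtype.val
        ((IsCyclic.isMulCommutative (α := ↥(P : Subgroup G))).is_comm.comm ⟨y, hy⟩ ⟨x, hx⟩)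
    set H := (MonoidHom.transferSylow P hle).ker with hH
    have hco := (MonoidHom.ker_transferSylow_isComplement' P hle).card_mul
    rw [hP, hG, ← hH] at hco
    have hHne : H ≠ ⊥ := fun e => by rw [e, Subgroup.card_bot] at hco; norm_num at hco
    have := h.normal_card hHne
    rw [hn] at this
    omega

/-- The degree 91 does not occur. -/
theorem Conf.not_91 (k : KleinV a b z v) (hu : u = 3) (hn : Nat.card Ω = 91) (hf : fix Ω z = 7)
    (hfull : Full Ω z v) : False := by
  classical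
  haveI : Fact (Nat.Prime 7) := ⟨by norm_num⟩
  haveI : Fact (Nat.Prime 13) := ⟨by norm_num⟩
  have hG : Nat.card G = 98280 := by rw [h.card_group, hn, hu]
  set Cz := Subgroup.centralizer ({z} : Set G) with hCz
  have hCzcard : Nat.card ↥Cz = 168 := by rw [h.card_cen k, hf]
  obtain ⟨g, hg⟩ := exists_prime_orderOf_dvd_card' (G := ↥Cz) 7 (by rw [hCzcard]; norm_num)
  rw [← Subgroup.orderOf_coe] at hg
  have hgz : (g : G) * z = z * g := mem_cen.mp g.2
  have hstep : ∀ x : G, x * z = z * x → x * v * x⁻¹ = v ∨ x * v * x⁻¹ = z * v := fun x hx => by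
    rcases k.all (x * v * x⁻¹) (h.full_conj k hfull hx k.hz.fa) (h.full_conj k hfull hx k.hz.fb)
      (conj_comm hx k.comm) with e | e | e | e
    · exact absurd (conj_eq_one_iff.mp e) k.hv.ne_one
    · exact absurd (mul_left_cancel (mul_inv_eq_iff_eq_mul.mp e |>.trans hx.symm)) k.ne
    · exact Or.inl e
    · exact Or.inr e
  have hgv : (g : G) * v = v * g := by
    rcases hstep g hgz with e | e
    · exact mul_inv_eq_iff_eq_mul.mp e
    · have h2 : Commute ((g : G) ^ 2) v := by
        refine mul_inv_eq_iff_eq_mul.mp ?_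
        rw [pow_two, show (g : G) * g * v * ((g : G) * g)⁻¹ = g * (g * v * (g : G)⁻¹) * (g : G)⁻¹ by group, e,
          ← mul_assoc (g : G) z v, hgz, mul_assoc z, mul_assoc z, e, ← mul_assoc, k.hz.sq, one_mul]
      have h8 := h2.pow_left 4
      rw [← pow_mul, show (2 * 4 : ℕ) = 7 + 1 by norm_num, pow_succ, ← hg, pow_orderOf_eq_one, one_mul] at h8
      exact h8.eq
  obtain ⟨P, hP⟩ := (IsPGroup.of_card (p := 7) (n := 1) (G := ↥(Subgroup.zpowers (g : G)))
    (by rw [Nat.card_zpowers, hg]; norm_num)).exists_le_sylow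
  have hPcard : Nat.card ↥(P : Subgroup G) = 7 := sylow_of_prime (m := 14040) (by rw [hG]) (by norm_num) P
  have hPg : (P : Subgroup G) = Subgroup.zpowers (g : G) :=
    (Subgroup.eq_of_le_of_card_ge hP (by rw [hPcard, Nat.card_zpowers, hg])).symm
  set N := Subgroup.normalizer ((P : Subgroup G) : Set G) with hN
  set C := Subgroup.centralizer ((P : Subgroup G) : Set G) with hC
  have hcenP : ∀ x : G, x * g = g * x → x ∈ C := fun x hx => by
    rw [hC, hPg, Subgroup.mem_centralizer_iff]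
    rintro y ⟨i, rfl⟩
    exact (Commute.zpow_left (show Commute (g : G) x from hx.symm) i).eq
  have hVC : CL G a z ⊓ stabilizer G b ≤ C := by
    intro x hx
    obtain ⟨hxL, hxb⟩ := Subgroup.mem_inf.mp hx
    rcases k.all x (mem_CL.mp hxL).1 (mem_stabilizer_iff.mp hxb) (mem_CL.mp hxL).2 with rfl | rfl | rfl | rfl <;>
      refine hcenP _ ?_
    · rw [one_mul, mul_one]
    · exact hgz.symm
    · exact hgv.symm
    · exact (Commute.mul_left (show Commute z (g : G) from hgz.symm) hgv.symm).eq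
  -- the centralizer of `z` normalises `P`
  have hCzN : Cz ≤ N := by
    have hPle : (P : Subgroup G) ≤ Cz := by rw [hPg]; exact Subgroup.zpowers_le.mpr g.2
    have hQ : Nat.card ↥((P.subtype hPle : Sylow 7 ↥Cz) : Subgroup ↥Cz) = 7 := by
      rw [Sylow.coe_subtype, Nat.card_congr (Subgroup.subgroupOfEquivOfLe hPle).toEquiv, hPcard]
    obtain ⟨e1, e2, -, e4⟩ := sylow_number (P.subtype hPle) hQ
    rw [hCzcard] at e1 e4
    have h4 : 4 ∣ Nat.card ↥(Subgroup.normalizer (((P.subtype hPle : Sylow 7 ↥Cz) : Subgroup ↥Cz) : Set ↥Cz)) := by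
      have hVz : CL G a z ⊓ stabilizer G b ≤ Cz := inf_le_left.trans inf_le_right
      rw [← k.card, ← Nat.card_congr (Subgroup.subgroupOfEquivOfLe hVz).toEquiv]
      refine Subgroup.card_dvd_of_le fun x hx => Subgroup.mem_normalizer_iff.mpr fun y => ?_
      rw [Sylow.coe_subtype, Subgroup.mem_subgroupOf, Subgroup.mem_subgroupOf]
      exact Subgroup.mem_normalizer_iff.mp (centralizer_le_normalizer' _ (hVC (Subgroup.mem_subgroupOf.mp hx))) y
    set r' := Nat.card (Sylow 7 ↥Cz) with hr'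
    have hr24 : r' ≤ 24 := Nat.le_of_dvd (by norm_num) e4
    have hr1 : r' = 1 := by
      rcases (show r' = 1 ∨ r' = 8 ∨ r' = 15 ∨ r' = 22 by omega) with e | e | e | e
      · exact e
      all_goals exfalso; rw [e] at e1 e4; omega
    rw [hr1, mul_one] at e1
    intro x hx
    have htop := Subgroup.eq_top_of_card_eq _ (e1.trans hCzcard.symm)
    have hxn : (⟨x, hx⟩ : ↥Cz) ∈ Subgroup.normalizer (((P.subtype hPle : Sylow 7 ↥Cz) : Subgroup ↥Cz) : Set ↥Cz) := by
      rw [htop]; trivial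
    rw [Subgroup.mem_normalizer_iff] at hxn ⊢
    intro y
    constructor
    · intro hy
      exact Subgroup.mem_subgroupOf.mp ((hxn ⟨y, hPle hy⟩).mp (Subgroup.mem_subgroupOf.mpr hy))
    · intro hy
      have hyz : y ∈ Cz := by
        have := mul_mem (mul_mem (inv_mem hx) (hPle hy)) hx
        rwa [show x⁻¹ * (x * y * x⁻¹) * x = y by group] at this
      exact Subgroup.mem_subgroupOf.mp ((hxn ⟨y, hyz⟩).mpr (Subgroup.mem_subgroupOf.mpr hy))
  obtain ⟨hNn, hmod, -, -⟩ := sylow_number P hPcard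
  rw [hG, ← hN] at hNn
  obtain ⟨q, hq⟩ : 168 ∣ Nat.card ↥N := hCzcard ▸ Subgroup.card_dvd_of_le hCzN
  have hq585 : q ∣ 585 := Nat.dvd_of_mul_dvd_mul_left (show 0 < 168 by norm_num)
    (show 168 * q ∣ 168 * 585 from ⟨_, (hq ▸ hNn.symm : _)⟩)
  have hq0 : 0 < q := Nat.pos_of_ne_zero (by rintro rfl; norm_num at hq585)
  have hrq : Nat.card (Sylow 7 G) = 98280 / (168 * q) :=
    (Nat.div_eq_of_eq_mul_right (by positivity) (by rw [← hq, hNn])).symm
  rcases divisors_98280 q (Nat.lt_succ_of_le (Nat.le_of_dvd (by norm_num) hq585)) hq585 (hrq ▸ hmod) with rfl | rfl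
  swap
  · -- `P` is normal
    haveI : (P : Subgroup G).Normal :=
      Subgroup.normalizer_eq_top_iff.mp (Subgroup.eq_top_of_card_eq _ (by rw [← hN, hq, hG]))
    have hb : (P : Subgroup G) ≠ ⊥ := fun e => by rw [e, Subgroup.card_bot] at hPcard; omega
    have := h.normal_card hb
    rw [hPcard, hn] at this
    omega
  have hCN : C ≤ N := centralizer_le_normalizer' _
  have hdN := normalizer_dvd (p := 7) (P : Subgroup G) hPcard
  rw [← hN, hq] at hdN
  have h13 : 13 ∣ Nat.card ↥C := (Nat.Coprime.dvd_of_dvd_mul_right (by norm_num)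
    ((show 13 ∣ 168 * 39 by norm_num).trans hdN))
  have hPC : (P : Subgroup G) ≤ C := by
    rw [hPg]
    exact Subgroup.zpowers_le.mpr (hcenP g rfl)
  obtain ⟨Q⟩ : Nonempty (Sylow 13 ↥C) := inferInstance
  have hCdvd : Nat.card ↥C ∣ 13 * 504 := by
    have := Subgroup.card_dvd_of_le hCN
    rwa [hq] at this
  obtain ⟨m, hm⟩ := h13
  rw [hm] at hCdvd
  have hm504 : m ∣ 504 := Nat.dvd_of_mul_dvd_mul_left (by norm_num) hCdvd
  have hQ : Nat.card ↥(Q : Subgroup ↥C) = 13 := sylow_of_prime hm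
    (fun h' => absurd (h'.trans hm504) (by norm_num)) Q
  obtain ⟨e1, e2, e3, -⟩ := sylow_number Q hQ
  set r'' := Nat.card (Sylow 13 ↥C) with hr''
  have h7 : 7 ∣ Nat.card ↥(Subgroup.normalizer ((Q : Subgroup ↥C) : Set ↥C)) := by
    rw [← hPcard, ← Nat.card_congr (Subgroup.subgroupOfEquivOfLe hPC).toEquiv]
    refine Subgroup.card_dvd_of_le ?_
    intro x hx
    refine centralizer_le_normalizer' _ (Subgroup.mem_centralizer_iff.mpr fun y _ => Subtype.ext ?_)
    exact (Subgroup.mem_centralizer_iff.mp y.2 x (Subgroup.mem_subgroupOf.mp hx)).symm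
  have hr1 : r'' = 1 := by
    have hd : r'' * 91 ∣ Nat.card ↥C := by
      have h91 : 91 ∣ Nat.card ↥(Subgroup.normalizer ((Q : Subgroup ↥C) : Set ↥C)) :=
        (show Nat.Coprime 7 13 by norm_num).mul_dvd_of_dvd_of_dvd h7 (by
          have := Subgroup.card_dvd_of_le (Subgroup.le_normalizer (H := (Q : Subgroup ↥C)))
          rwa [hQ] at this)
      rw [mul_comm r'', ← e1]
      exact Nat.mul_dvd_mul_right h91 _
    have hd' : r'' ∣ 72 := by
      have : r'' * 91 ∣ 72 * 91 := hd.trans (hm ▸ hCdvd)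
      exact Nat.dvd_of_mul_dvd_mul_right (by norm_num) this
    exact divisors_91 r'' (Nat.lt_succ_of_le (Nat.le_of_dvd (by norm_num) hd')) hd' e2
  obtain ⟨q₀, hq₀⟩ := exists_prime_orderOf_dvd_card' (G := ↥(Q : Subgroup ↥C)) 13 (dvd_of_eq hQ.symm)
  rw [← Subgroup.orderOf_coe, ← Subgroup.orderOf_coe] at hq₀
  have hQz : (Q : Subgroup ↥C) = Subgroup.zpowers (q₀ : ↥C) := (Subgroup.eq_of_le_of_card_ge
    (Subgroup.zpowers_le.mpr q₀.2) (by rw [hQ, Nat.card_zpowers, ← Subgroup.orderOf_coe, hq₀])).symm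
  rw [hr1, mul_one] at e1
  have htop := Subgroup.eq_top_of_card_eq _ e1
  have hconj : ∀ x ∈ C, x * ((q₀ : ↥C) : G) * x⁻¹ ∈ Subgroup.zpowers ((q₀ : ↥C) : G) := fun x hx => by
    have hxn : (⟨x, hx⟩ : ↥C) ∈ Subgroup.normalizer ((Q : Subgroup ↥C) : Set ↥C) := by rw [htop]; trivial
    have := (Subgroup.mem_normalizer_iff.mp hxn (q₀ : ↥C)).mp q₀.2
    obtain ⟨i, hi⟩ := (SetLike.ext_iff.mp hQz _).mp this
    exact ⟨i, by simpa using congrArg (fun y : ↥C => (y : G)) hi⟩
  have hbad : ∀ x : G, Inv2 a b x → x * ((q₀ : ↥C) : G) ≠ ((q₀ : ↥C) : G) * x := by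
    intro x hx hc
    have e : fix Ω x = 7 := (h.fix_eq k.hz hx.sq hx.ne_one (two_le_fix h.ne hx)).trans hf
    rcases prime_on_fix (Ω := Ω) (p := 13) (g := ((q₀ : ↥C) : G)) (orderOf_dvd_iff_pow_eq_one.mp hq₀.dvd) hc.symm with ⟨p, -, hp⟩ | h13
    · exact h.fix_free (Fact.out : Nat.Prime 13) hq₀ (by rw [hn, hu]; norm_num) p hp
    · rw [e] at h13; norm_num at h13
  rcases klein_inverts (p := 13) hq₀ k.hz.sq k.hv.sq
      (hconj z (hVC ⟨(k.mem_CL_inf (Or.inr (Or.inl rfl))).1, mem_stabilizer_iff.mpr k.hz.fb⟩))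
      (hconj v (hVC ⟨(k.mem_CL_inf (Or.inr (Or.inr (Or.inl rfl)))).1, mem_stabilizer_iff.mpr k.hv.fb⟩))
    with e | e | e
  · exact hbad z k.hz e
  · exact hbad v k.hv e
  · exact hbad _ k.inv2_mul e

end CfsgLib.TwoPointStab
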