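import Cfsg.Agent.Lib.TwoPointStab.Bar
import Cfsg.Agent.Lib.TwoPointStab.Arith
import Cfsg.Agent.Lib.TwoPointStab.Formula

/-!
# Even degree: the order formula on a point stabiliser
-/

set_option autoImplicit false
set_option linter.unusedSectionVars false

namespace CfsgLib.TwoPointStab

open MulAction

variable {G : Type*} [Group G] [Finite G] {Ω : Type*} [MulAction G Ω] [Finite Ω]

/-- The elements fixing `a` and commuting with `z`. -/
abbrev CL (G : Type*) [Group G] {Ω : Type*} [MulAction G Ω] (a : Ω) (z : G) : Subgroup G :=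
  stabilizer G a ⊓ Subgroup.centralizer ({z} : Set G)

theorem mem_CL {a : Ω} {z g : G} : g ∈ CL G a z ↔ g • a = a ∧ g * z = z * g := by
  simp [Subgroup.mem_inf, mem_stabilizer_iff, mem_cen]

/-- Orbit and stabiliser for a subgroup. -/
theorem card_orbit_stab (H K : Subgroup G) (b : Ω) (P : Ω → Prop) (horb : ∀ p, P p ↔ ∃ g ∈ H, g • b = p)
    (hK : ∀ g, g ∈ K ↔ g ∈ H ∧ g • b = b) : Nat.card ↥H = Nat.card {p : Ω // P p} * Nat.card ↥K := by
  have e1 : Nat.card {p : Ω // P p} = (stabilizer ↥H b).index := by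
    rw [index_stabilizer]
    exact Nat.card_congr (Equiv.subtypeEquivRight fun p => (horb p).trans
      ⟨fun ⟨g, hg, e⟩ => ⟨⟨g, hg⟩, e⟩, fun ⟨g, e⟩ => ⟨g, g.2, e⟩⟩)
  have e2 : Nat.card ↥K = Nat.card ↥(stabilizer ↥H b) := Nat.card_congr
    { toFun := fun g => ⟨⟨g, ((hK g).mp g.2).1⟩, ((hK g).mp g.2).2⟩
      invFun := fun g => ⟨g.1, (hK g.1).mpr ⟨g.1.2, g.2⟩⟩
      left_inv := fun _ => rfl
      right_inv := fun _ => rfl }
  rw [e1, e2, Subgroup.index_mul_card]

theorem card_ne {p₀ : Ω} (P : Ω → Prop) (h₀ : P p₀) :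
    Nat.card {p : Ω // P p ∧ p ≠ p₀} = Nat.card {p : Ω // P p} - 1 := by
  classical
  letI := Fintype.ofFinite Ω
  have e1 : Nat.card {p : Ω // P p ∧ p ≠ p₀} = ((Finset.univ.filter fun p => P p).erase p₀).card := by
    rw [← Fintype.card_coe, ← Nat.card_eq_fintype_card]
    exact Nat.card_congr (Equiv.subtypeEquivRight fun p => by simp [and_comm])
  have e2 : Nat.card {p : Ω // P p} = (Finset.univ.filter fun p => P p).card := by
    rw [← Fintype.card_coe, ← Nat.card_eq_fintype_card]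
    exact Nat.card_congr (Equiv.subtypeEquivRight fun p => by simp)
  rw [e1, e2, Finset.card_erase_of_mem (by simp [h₀])]

variable {a b : Ω} {u w : ℕ} {z v : G} (h : Conf G Ω a b u w)
include h

theorem Conf.card_stab : Nat.card ↥(stabilizer G a) = (Nat.card Ω - 1) * (4 * u) := by
  rw [card_orbit_stab (stabilizer G a) (stabilizer G a ⊓ stabilizer G b) b (fun p => True ∧ p ≠ a) ?_ ?_,
    card_ne (fun _ : Ω => True) (p₀ := a) trivial, h.card, Nat.card_congr (Equiv.subtypeUnivEquiv fun _ => trivial)]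
  · intro p
    refine ⟨fun hp => ?_, ?_⟩
    · obtain ⟨g, g1, g2⟩ := h.pairs a b a p h.ne hp.2.symm
      exact ⟨g, mem_stabilizer_iff.mpr g1, g2⟩
    · rintro ⟨g, hg, rfl⟩
      exact ⟨trivial, fun e => h.ne (smul_left_cancel g ((mem_stabilizer_iff.mp hg).trans e.symm))⟩
  · exact fun g => by simp [Subgroup.mem_inf, mem_stabilizer_iff]

omit h in
theorem KleinV.card (k : KleinV a b z v) : Nat.card ↥(CL G a z ⊓ stabilizer G b) = 4 := by
  classical
  have e : ((CL G a z ⊓ stabilizer G b : Subgroup G) : Set G) = ↑({1, z, v, z * v} : Finset G) := by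
    ext g
    simp only [Subgroup.coe_inf, Set.mem_inter_iff, SetLike.mem_coe, mem_stabilizer_iff, mem_cen,
      Finset.coe_insert, Finset.coe_singleton, Set.mem_insert_iff, Set.mem_singleton_iff]
    constructor
    · exact fun H => k.all g H.1.1 H.2 H.1.2
    · rintro (rfl | rfl | rfl | rfl)
      · simp
      · exact ⟨⟨k.hz.fa, rfl⟩, k.hz.fb⟩
      · exact ⟨⟨k.hv.fa, k.comm⟩, k.hv.fb⟩
      · exact ⟨⟨k.inv2_mul.fa, by rw [mul_assoc, k.comm, ← mul_assoc]⟩, k.inv2_mul.fb⟩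
  rw [← SetLike.coe_sort_coe, e, Nat.card_coe_set_eq, Set.ncard_coe_finset,
    Finset.card_insert_of_notMem, Finset.card_insert_of_notMem, Finset.card_pair]
  · exact fun e => k.hz.ne_one (mul_eq_right.mp e.symm)
  · simp [k.ne.symm, k.hv.ne_one, eq_comm]
  · simp [Ne.symm k.hz.ne_one, Ne.symm k.hv.ne_one, Ne.symm k.inv2_mul.ne_one]

omit h in
theorem KleinV.comm_v (k : KleinV a b z v) {g : G} (ga : g • a = a) (gb : g • b = b) (gz : g * z = z * g) :
    g * v = v * g := by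
  rcases k.all g ga gb gz with rfl | rfl | rfl | rfl
  · rw [one_mul, mul_one]
  · exact k.comm.symm
  · rfl
  · rw [← mul_assoc v, k.comm]

theorem Conf.card_cen_stab (k : KleinV a b z v) : Nat.card ↥(CL G a z) = (fix Ω z - 1) * 4 := by
  rw [card_orbit_stab (CL G a z) (CL G a z ⊓ stabilizer G b) b (fun p => z • p = p ∧ p ≠ a) ?_ ?_, k.card,
    card_ne (fun p : Ω => z • p = p) (p₀ := a) k.hz.fa]
  · rfl
  · intro p
    refine ⟨fun hp => ?_, ?_⟩
    · obtain ⟨g, g1, g2, g3⟩ := h.cen_to k.hz hp.2.symm k.hz.fa hp.1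
      exact ⟨g, mem_CL.mpr ⟨g1, g3⟩, g2⟩
    · rintro ⟨g, hg, rfl⟩
      obtain ⟨g1, g3⟩ := mem_CL.mp hg
      exact ⟨fix_of_comm g3 k.hz.fb, fun e => h.ne (smul_left_cancel g (g1.trans e.symm))⟩
  · exact fun g => by rw [Subgroup.mem_inf, mem_stabilizer_iff]

/-- No element of `C_L(z)` exchanges `v` and `z v`. -/
theorem Conf.no_flip (k : KleinV a b z v) (heven : Nat.card Ω % 2 = 0) {g : G} (hg : g ∈ CL G a z)
    (hgv : g * v * g⁻¹ = v ∨ g * v * g⁻¹ = z * v) : g * v = v * g := by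
  refine hgv.elim (fun e => mul_inv_eq_iff_eq_mul.mp e) fun hflip => False.elim ?_
  have hzz := k.hz.sq
  have hconj : ∀ {x : G}, x * z = z * x → ∀ y, x * (z * y) * x⁻¹ = z * (x * y * x⁻¹) := fun {x} hx y => by
    rw [← mul_assoc x z y, hx]; group
  let M : Subgroup G :=
    { carrier := {x | x ∈ CL G a z ∧ (x * v * x⁻¹ = v ∨ x * v * x⁻¹ = z * v)}
      one_mem' := ⟨one_mem _, Or.inl (by group)⟩
      mul_mem' := by
        rintro x y ⟨hx, hx'⟩ ⟨hy, hy'⟩
        refine ⟨mul_mem hx hy, ?_⟩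
        rw [show x * y * v * (x * y)⁻¹ = x * (y * v * y⁻¹) * x⁻¹ by group]
        rcases hy' with e | e <;> rw [e]
        · exact hx'
        · rw [hconj (mem_CL.mp hx).2]
          rcases hx' with e | e <;> rw [e]
          · exact Or.inr rfl
          · exact Or.inl (by rw [← mul_assoc, hzz, one_mul])
      inv_mem' := by
        rintro x ⟨hx, hx'⟩
        refine ⟨inv_mem hx, ?_⟩
        rw [inv_inv]
        rcases hx' with e | e
        · exact Or.inl (by nth_rw 1 [← e]; group)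
        · right
          have hxi := (mem_CL.mp (inv_mem hx)).2
          calc x⁻¹ * v * x = x⁻¹ * (z * (x * v * x⁻¹)) * x := by rw [e, ← mul_assoc z, hzz, one_mul]
            _ = x⁻¹ * z * x * v := by group
            _ = z * v := by rw [hxi]; group }
  set C := CL G a z ⊓ Subgroup.centralizer ({v} : Set G) with hC
  have hCM : C ≤ M := fun x hx => ⟨hx.1, Or.inl (mul_inv_eq_iff_eq_mul.mpr (mem_cen.mp hx.2))⟩
  have hz2 : z * v ≠ v := fun e => k.hz.ne_one (mul_eq_right.mp e)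
  have hidx : (C.subgroupOf M).index = 2 := by
    refine Subgroup.index_eq_two_iff.mpr ⟨⟨g, hg, Or.inr hflip⟩, fun x => ?_⟩
    have hmem : ∀ y : ↥M, y ∈ C.subgroupOf M ↔ (y : G) * v * (y : G)⁻¹ = v := fun y => by
      rw [Subgroup.mem_subgroupOf]
      exact ⟨fun H => mul_inv_eq_iff_eq_mul.mpr (mem_cen.mp H.2),
        fun H => ⟨y.2.1, mem_cen.mpr (mul_inv_eq_iff_eq_mul.mp H)⟩⟩
    rw [hmem, hmem]
    have hxg : (x : G) * g * v * ((x : G) * g)⁻¹ = z * ((x : G) * v * (x : G)⁻¹) := by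
      rw [show (x : G) * g * v * ((x : G) * g)⁻¹ = (x : G) * (g * v * g⁻¹) * (x : G)⁻¹ by group, hflip,
        hconj (mem_CL.mp x.2.1).2]
    show Xor' ((x : G) * g * v * ((x : G) * g)⁻¹ = v) _
    rw [hxg]
    rcases x.2.2 with e | e <;> rw [e]
    · exact Or.inr ⟨rfl, hz2⟩
    · exact Or.inl ⟨by rw [← mul_assoc, hzz, one_mul], hz2⟩
  have h4 : 4 ∣ Nat.card ↥C := k.card ▸ Subgroup.card_dvd_of_le (fun x hx => ⟨hx.1, mem_cen.mpr
    (k.comm_v (mem_CL.mp hx.1).1 (mem_stabilizer_iff.mp hx.2) (mem_CL.mp hx.1).2)⟩)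
  have hM : Nat.card ↥M = 2 * Nat.card ↥C := by
    rw [← (C.subgroupOf M).index_mul_card, hidx, Nat.card_congr (Subgroup.subgroupOfEquivOfLe hCM).toEquiv]
  have hd : Nat.card ↥M ∣ Nat.card ↥(CL G a z) := Subgroup.card_dvd_of_le fun x hx => hx.1
  rw [h.card_cen_stab k] at hd
  obtain ⟨e, he⟩ := h4
  rw [hM, he] at hd
  obtain ⟨e', he'⟩ := hd
  have hf := two_le_fix h.ne k.hz
  have hp := fix_parity (Ω := Ω) k.hz.sq
  have he'' : fix Ω z - 1 = 2 * (e * e') := Nat.eq_of_mul_eq_mul_left (show 0 < 4 by norm_num) (by linarith)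
  omega

theorem Conf.full_comm (k : KleinV a b z v) (heven : Nat.card Ω % 2 = 0) (hfull : Full Ω z v) :
    CL G a z ⊓ Subgroup.centralizer ({v} : Set G) = CL G a z := by
  refine inf_eq_left.mpr fun g hg => mem_cen.mpr (h.no_flip k heven hg ?_)
  obtain ⟨ga, gz⟩ := mem_CL.mp hg
  have gi : g⁻¹ * z = z * g⁻¹ := by rw [inv_mul_eq_iff_eq_mul, ← mul_assoc, gz, mul_inv_cancel_right]
  rcases k.all (g * v * g⁻¹) (h.full_conj k hfull gz k.hz.fa) (h.full_conj k hfull gz k.hz.fb) (by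
      rw [mul_assoc, gi, ← mul_assoc, mul_assoc g, k.comm, ← mul_assoc, gz, mul_assoc z, mul_assoc z])
    with e | e | e | e
  · exact absurd (conj_eq_one_iff.mp e) k.hv.ne_one
  · exact absurd (mul_left_cancel (mul_inv_eq_iff_eq_mul.mp e |>.trans gz.symm)) k.ne
  · exact Or.inl e
  · exact Or.inr e

theorem Conf.card_cen_two (k : KleinV a b z v) (heven : Nat.card Ω % 2 = 0) :
    Nat.card ↥(CL G a z ⊓ Subgroup.centralizer ({v} : Set G)) =
      (Nat.card {p : Ω // z • p = p ∧ v • p = p} - 1) * 4 := by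
  rw [card_orbit_stab (CL G a z ⊓ Subgroup.centralizer ({v} : Set G)) (CL G a z ⊓ stabilizer G b) b
      (fun p => (z • p = p ∧ v • p = p) ∧ p ≠ a) ?_ ?_, k.card,
    card_ne (fun p : Ω => z • p = p ∧ v • p = p) (p₀ := a) ⟨k.hz.fa, k.hv.fa⟩]
  · intro p
    refine ⟨fun hp => ?_, ?_⟩
    · obtain ⟨g, g1, g2, g3, hall⟩ := h.cen_level k hp.2.symm k.hz.fa hp.1.1
      refine ⟨g, ⟨mem_CL.mpr ⟨g1, g3⟩, mem_cen.mpr (h.no_flip k heven (mem_CL.mpr ⟨g1, g3⟩) ?_)⟩, g2⟩
      rcases hall v k.hv.fa hp.1.2 k.comm with e | e | e | e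
      · exact absurd e k.hv.ne_one
      · exact absurd e k.ne
      · exact Or.inl e.symm
      · exact Or.inr (by nth_rw 2 [e]; rw [← mul_assoc, k.hz.sq, one_mul])
    · rintro ⟨g, hg, rfl⟩
      obtain ⟨g1, g3⟩ := mem_CL.mp hg.1
      exact ⟨⟨fix_of_comm g3 k.hz.fb, fix_of_comm (mem_cen.mp hg.2) k.hv.fb⟩,
        fun e => h.ne (smul_left_cancel g (g1.trans e.symm))⟩
  · refine fun g => ⟨fun hg => ⟨⟨hg.1, mem_cen.mpr ?_⟩, mem_stabilizer_iff.mp hg.2⟩,
      fun hg => ⟨hg.1.1, mem_stabilizer_iff.mpr hg.2⟩⟩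
    exact k.comm_v (mem_CL.mp hg.1).1 (mem_stabilizer_iff.mp hg.2) (mem_CL.mp hg.1).2

/-- The order formula on the point stabiliser. -/
theorem Conf.even_block (k : KleinV a b z v) (heven : Nat.card Ω % 2 = 0) {N P : ℕ}
    (hN : u * (Nat.card Ω - 1) = (fix Ω z - 1) * N)
    (hP : Nat.card ↥(CL G a z) = Nat.card ↥(CL G a z ⊓ Subgroup.centralizer ({v} : Set G)) * P) :
    BlockEq N P := by
  haveI := Fact.mk Nat.prime_two
  set H := ↥(stabilizer G a)
  let V : Subgroup H := (CL G a z ⊓ stabilizer G b).subgroupOf (stabilizer G a)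
  have hle : CL G a z ⊓ stabilizer G b ≤ stabilizer G a := inf_le_left.trans inf_le_left
  have hV4 : Nat.card ↥V = 4 := by rw [Nat.card_congr (Subgroup.subgroupOfEquivOfLe hle).toEquiv, k.card]
  have hmemV : ∀ {x : H}, x ∈ V → ((x : G) = 1 ∨ (x : G) = z ∨ (x : G) = v ∨ (x : G) = z * v) := fun {x} hx => by
    obtain ⟨h1, h2⟩ := Subgroup.mem_inf.mp (Subgroup.mem_subgroupOf.mp hx)
    exact k.all _ (mem_CL.mp h1).1 (mem_stabilizer_iff.mp h2) (mem_CL.mp h1).2
  have hidx : V.index = (Nat.card Ω - 1) * u := by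
    have e := V.index_mul_card
    rw [hV4, h.card_stab] at e
    exact Nat.eq_of_mul_eq_mul_right (show 0 < 4 by norm_num) (e.trans (by ring))
  have hVp : IsPGroup 2 ↥V := IsPGroup.of_card (n := 2) (by rw [hV4]; norm_num)
  have hodd : ¬ 2 ∣ V.index := by
    rw [hidx, Nat.prime_two.dvd_mul]
    have := h.vals
    have hf := two_le_fix h.ne k.hz
    have := (h.count k.hz).2
    omega
  let S : Sylow 2 H := hVp.toSylow hodd
  have hS : (S : Subgroup H) = V := rfl
  have hklein : IsKleinFour (S : Subgroup H) := by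
    rw [hS]
    haveI : Nontrivial ↥V := Finite.one_lt_card_iff_nontrivial.mp (by rw [hV4]; norm_num)
    refine ⟨hV4, ?_⟩
    have hdvd : Monoid.exponent ↥V ∣ 2 := Monoid.exponent_dvd_of_forall_pow_eq_one fun x => by
      refine Subtype.ext (Subtype.ext ?_)
      show ((x : H) : G) ^ 2 = 1
      rw [pow_two]
      rcases hmemV x.2 with e | e | e | e <;> rw [e]
      · exact one_mul 1
      · exact k.hz.sq
      · exact k.hv.sq
      · exact k.inv2_mul.sq
    rcases (Nat.dvd_prime Nat.prime_two).mp hdvd with e | e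
    · exact absurd (Monoid.exp_eq_one_iff.mp e) (not_subsingleton _)
    · exact e
  have hzV : (⟨z, mem_stabilizer_iff.mpr k.hz.fa⟩ : H) ∈ V :=
    Subgroup.mem_subgroupOf.mpr ⟨mem_CL.mpr ⟨k.hz.fa, rfl⟩, mem_stabilizer_iff.mpr k.hz.fb⟩
  have hvV : (⟨v, mem_stabilizer_iff.mpr k.hv.fa⟩ : H) ∈ V :=
    Subgroup.mem_subgroupOf.mpr ⟨mem_CL.mpr ⟨k.hv.fa, k.comm⟩, mem_stabilizer_iff.mpr k.hv.fb⟩
  set J : H := ⟨z, mem_stabilizer_iff.mpr k.hz.fa⟩ with hJdef
  have hJo : orderOf J = 2 := by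
    rw [← Subgroup.orderOf_coe]
    exact orderOf_eq_prime (by rw [pow_two]; exact k.hz.sq) k.hz.ne_one
  have hconjJ : ∀ s : H, orderOf s = 2 → IsConj J s := fun s hs => by
    have hs2 : (s : G) * s = 1 := by
      rw [← Subgroup.coe_mul, ← pow_two, ← hs, pow_orderOf_eq_one]; rfl
    have hs1 : (s : G) ≠ 1 := fun e => by
      rw [show s = 1 from Subtype.ext e, orderOf_one] at hs; omega
    have hf : 2 ≤ fix Ω (s : G) := by
      have hp := fix_parity (Ω := Ω) hs2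
      have : 0 < fix Ω (s : G) := Nat.card_pos_iff.mpr ⟨⟨⟨a, mem_stabilizer_iff.mp s.2⟩⟩, inferInstance⟩
      omega
    obtain ⟨g, ga, hg⟩ := h.conj_stab k.hz hs2 hs1 (mem_stabilizer_iff.mp s.2) hf
    exact isConj_iff.mpr ⟨⟨g, mem_stabilizer_iff.mpr ga⟩, Subtype.ext hg⟩
  have hcJ : Nat.card ↥(Subgroup.centralizer ({J} : Set H)) = Nat.card ↥(CL G a z) := Nat.card_congr
    { toFun := fun x => ⟨(x : H), mem_CL.mpr ⟨mem_stabilizer_iff.mp x.1.2, congrArg Subtype.val (mem_cen.mp x.2)⟩⟩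
      invFun := fun x => ⟨⟨x, x.2.1⟩, mem_cen.mpr (Subtype.ext (mem_CL.mp x.2).2)⟩
      left_inv := fun _ => rfl
      right_inv := fun _ => rfl }
  have hcP : Nat.card ↥(Subgroup.centralizer ((S : Subgroup H) : Set H)) =
      Nat.card ↥(CL G a z ⊓ Subgroup.centralizer ({v} : Set G)) := Nat.card_congr
    { toFun := fun x => ⟨(x : H), mem_CL.mpr ⟨mem_stabilizer_iff.mp x.1.2,
          (congrArg Subtype.val (Subgroup.mem_centralizer_iff.mp x.2 J hzV)).symm⟩,
        mem_cen.mpr (congrArg Subtype.val (Subgroup.mem_centralizer_iff.mp x.2 _ hvV)).symm⟩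
      invFun := fun x => ⟨⟨x, x.2.1.1⟩, Subgroup.mem_centralizer_iff.mpr fun y hy => Subtype.ext (by
        show (y : G) * x = x * y
        have hz' := (mem_CL.mp x.2.1).2
        have hv' := mem_cen.mp x.2.2
        rcases hmemV hy with e | e | e | e <;> rw [e]
        · rw [one_mul, mul_one]
        · exact hz'.symm
        · exact hv'.symm
        · rw [mul_assoc, ← hv', ← mul_assoc, ← hz', mul_assoc])⟩
      left_inv := fun _ => rfl
      right_inv := fun _ => rfl }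
  exact klein_shape S hklein (fun s t hs ht => (hconjJ s hs).symm.trans (hconjJ t ht)) (J := J) hzV hJo
    (n := P) (k := N) (by rw [hcJ, hcP, hP])
    (by rw [hcJ, h.card_cen_stab k, h.card_stab,
      show (Nat.card Ω - 1) * (4 * u) = 4 * (u * (Nat.card Ω - 1)) by ring, hN]; ring)

/-- **The degrees possible when `n` is even.** -/
theorem Conf.even_cases (k : KleinV a b z v) (heven : Nat.card Ω % 2 = 0) :
    (u = 3 ∧ Nat.card Ω = 6) ∨
    (u = 3 ∧ Nat.card Ω = 16 ∧ fix Ω z = 4 ∧ Full Ω z v ∧ ∃ t : G, Swap a b t ∧ t * t = 1 ∧ fix Ω t = 0 ∧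
      ∀ x : G, Swap a b x → x * x = 1 → fix Ω x = 0 → x = t) ∨
    (u = 3 ∧ Nat.card Ω = 28 ∧ fix Ω z = 4 ∧ ∀ x : G, x * x = 1 → x ≠ 1 → 2 ≤ fix Ω x) ∨
    (u = 15 ∧ Nat.card Ω = 12) ∨
    (u = 15 ∧ Nat.card Ω = 26 ∧ fix Ω z = 6 ∧ ∀ x : G, x * x = 1 → x ≠ 1 → 2 ≤ fix Ω x) := by
  obtain ⟨c, hc, hlt, htypes⟩ := h.swap_types k.hz
  have hvals := h.vals
  have hall : ∀ x : G, c = w → c ≠ u → c ≠ 1 → c ≠ u + 1 → x * x = 1 → x ≠ 1 → 2 ≤ fix Ω x := by
    intro x e1 e2 e3 e4 hx hx1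
    obtain ⟨-, hsw, -⟩ : c = w ∧ (∀ y : G, Swap a b y → y * y = 1 → 2 ≤ fix Ω y) ∧ True := by
      rcases htypes with ⟨t, -, -, -, -, e⟩ | ⟨t, -, -, -, -, -, e⟩ | ⟨e, hsw, -⟩
      · omega
      · omega
      · exact ⟨e, hsw, trivial⟩
    obtain ⟨p, hp⟩ : ∃ p : Ω, x • p ≠ p := by
      by_contra h0; push Not at h0; exact hx1 (h.faithful x h0)
    obtain ⟨g, hg1, hg2⟩ := h.pairs a b p (x • p) h.ne (Ne.symm hp)
    rw [← fix_conj g⁻¹ x]
    refine hsw _ ⟨?_, ?_⟩ (mul_self_conj hx)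
    · rw [inv_inv, mul_smul, mul_smul, hg1, inv_smul_eq_iff, hg2]
    · rw [inv_inv, mul_smul, mul_smul, hg2, swap_back hx rfl, inv_smul_eq_iff, hg1]
  have hv : SwapVals u c := by
    unfold SwapVals
    rcases htypes with ⟨t, -, -, -, -, e⟩ | ⟨t, -, -, -, -, -, e⟩ | ⟨e, -⟩ <;> omega
  have hf2 := two_le_fix h.ne k.hz
  have hfe : fix Ω z % 2 = 0 := (fix_parity (Ω := Ω) k.hz.sq).trans heven
  set f := fix Ω z with hfdef
  set n := Nat.card Ω
  set N := u + c * f with hNdef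
  have hN : u * (n - 1) = (f - 1) * N := by
    rw [hNdef, show n - 1 = (n - f) + (f - 1) by omega, mul_add, hc]; ring
  by_cases hfull : Full Ω z v
  · obtain ⟨j, hj⟩ : ∃ j, f = 2 ^ j :=
      (img_sharp (h.cen_pairs k.hz) (h.full_fixes k hfull) hf2).two_power hfe
    have hj1 : 1 ≤ j := by
      rcases Nat.eq_zero_or_pos j with rfl | hj'
      · rw [pow_zero] at hj; omega
      · exact hj'
    obtain ⟨hu, hcases⟩ := arith_full hv hj1 ⟨n - f, by rw [hc, ← hj]; ring⟩ (by rw [hNdef, hj])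
      (h.even_block k heven hN (by rw [h.full_comm k heven hfull, mul_one]))
    rcases hcases with ⟨hc6, hf'⟩ | ⟨hc3, hf'⟩
    · rw [hu, hc6, hj, hf'] at hc
      exact Or.inl ⟨hu, by omega⟩
    · have hf4 : f = 4 := hj.trans hf'
      rw [hu, hc3, hf4] at hc
      refine Or.inr (Or.inl ⟨hu, by omega, hf4, hfull, ?_⟩)
      rcases htypes with ⟨t, -, -, -, -, e⟩ | ⟨t, ht, ht2, htf, -, huniq, -⟩ | ⟨e, -⟩
      · omega
      · have hp := fix_parity (Ω := Ω) ht2
        exact ⟨t, ht, ht2, by omega, fun x hx hx2 hxf => huniq x hx hx2 (by omega)⟩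
      · omega
  · have hH := h.half_img k hfull
    obtain ⟨hax, hfix⟩ := h.half_axis k hfull
    set f' := Nat.card {p : Ω // z • p = p ∧ v • p = p} with hf'def
    have hf'2 : 2 ≤ f' := hfix ▸ hH.two_le_fix hax
    obtain ⟨j, hj⟩ := hH.fix_two_power hax hfe
    rw [hfix] at hj
    have hj1 : 1 ≤ j := by
      rcases Nat.eq_zero_or_pos j with rfl | hj'
      · rw [pow_zero] at hj; omega
      · exact hj'
    have hCL := h.card_cen_stab k
    have hCLV := h.card_cen_two k heven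
    rw [← hf'def] at hCLV
    rw [← hfdef] at hCL
    rcases hH.shape hax with ⟨hsq, -⟩ | ⟨htw, -⟩
    · rw [hfix, show Nat.card ↥(fixedBy Ω z) = f from rfl] at hsq
      have hP : f - 1 = (f' - 1) * (f' + 1) := by
        rw [hsq, mul_comm (f' - 1), ← Nat.sq_sub_sq, one_pow, pow_two]
      obtain ⟨hg, hres⟩ := arith_square (N := N) hv hj1 (by rw [hNdef, hsq, hj])
        (by
          rw [← hj]
          exact h.even_block k heven hN (by rw [hCL, hCLV, hP]; ring))
      rcases hres with ⟨hu, hc6⟩ | ⟨hu, hc10⟩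
      · rw [hu, hc6, hsq, hj, hg] at hc
        exact Or.inr (Or.inr (Or.inl ⟨hu, by omega, by rw [hsq, hj, hg],
          fun x => hall x (by omega) (by omega) (by omega) (by omega)⟩))
      · rw [hu, hc10, hsq, hj, hg] at hc
        exact Or.inr (Or.inr (Or.inr (Or.inl ⟨hu, by omega⟩)))
    · rw [hfix, show Nat.card ↥(fixedBy Ω z) = f from rfl] at htw
      have hP : f - 1 = (f' - 1) * (2 * f' + 1) := by
        obtain ⟨e, he⟩ : ∃ e, f' = e + 2 := ⟨f' - 2, by omega⟩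
        rw [he] at htw ⊢
        rw [show e + 2 - 1 = e + 1 by omega]
        have : f + (e + 2) = (e + 1) * (2 * (e + 2) + 1) + 1 + (e + 2) := by rw [htw]; ring
        omega
      obtain ⟨hu, hc10, hg⟩ := arith_twisted (N := N) (f := f) hv hj1 (by rw [← hj]; exact htw) hNdef
        (by
          rw [← hj]
          exact h.even_block k heven hN (by rw [hCL, hCLV, hP]; ring))
      rw [hj, hg] at htw
      rw [hu, hc10, show f = 6 by omega] at hc
      exact Or.inr (Or.inr (Or.inr (Or.inr ⟨hu, by omega, by omega,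
        fun x => hall x (by omega) (by omega) (by omega) (by omega)⟩)))

end CfsgLib.TwoPointStab
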