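import Cfsg.Agent.Lib.TwoPointStab.Even

/-!
# Two-point stabilisers of order two, odd degree
-/

set_option autoImplicit false
set_option linter.unusedSectionVars false

namespace CfsgLib.TwoPointStab

open MulAction

/-- An element exchanging `w` and `s * w` gives a subgroup of index two. -/
theorem half_cen {X : Type*} [Group X] [Finite X] (H : Subgroup X) {s w g : X} (hs2 : s * s = 1) (hs1 : s ≠ 1)
    (hs : ∀ x ∈ H, x * s = s * x) (hall : ∀ x ∈ H, x * w * x⁻¹ = w ∨ x * w * x⁻¹ = s * w) (hg : g ∈ H)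
    (hflip : g * w * g⁻¹ = s * w) :
    Nat.card ↥H = 2 * Nat.card ↥(H ⊓ Subgroup.centralizer ({w} : Set X)) := by
  set C := H ⊓ Subgroup.centralizer ({w} : Set X) with hC
  have hidx : (C.subgroupOf H).index = 2 := by
    refine Subgroup.index_eq_two_iff.mpr ⟨⟨g, hg⟩, fun x => ?_⟩
    have hmem : ∀ y : ↥H, y ∈ C.subgroupOf H ↔ (y : X) * w * (y : X)⁻¹ = w := fun y => by
      rw [Subgroup.mem_subgroupOf]
      exact ⟨fun h => mul_inv_eq_iff_eq_mul.mpr (mem_cen.mp h.2),
        fun h => ⟨y.2, mem_cen.mpr (mul_inv_eq_iff_eq_mul.mp h)⟩⟩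
    rw [hmem, hmem]
    have hxg : (x : X) * g * w * ((x : X) * g)⁻¹ = s * ((x : X) * w * (x : X)⁻¹) := by
      rw [show (x : X) * g * w * ((x : X) * g)⁻¹ = (x : X) * (g * w * g⁻¹) * (x : X)⁻¹ by group, hflip,
        ← mul_assoc (x : X) s w, hs x x.2]
      group
    show Xor' ((x : X) * g * w * ((x : X) * g)⁻¹ = w) _
    rw [hxg]
    have hsw : s * w ≠ w := fun e => hs1 (mul_eq_right.mp e)
    rcases hall x x.2 with e | e <;> rw [e]
    · exact Or.inr ⟨rfl, hsw⟩
    · exact Or.inl ⟨by rw [← mul_assoc, hs2, one_mul], hsw⟩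
  rw [← (C.subgroupOf H).index_mul_card, hidx,
    Nat.card_congr (Subgroup.subgroupOfEquivOfLe (inf_le_left : C ≤ H)).toEquiv]

/-- A Klein four subgroup given by two commuting involutions. -/
theorem exists_klein {X : Type*} [Group X] [Finite X] {s w : X} (hs : s * s = 1) (hw : w * w = 1)
    (hs1 : s ≠ 1) (hw1 : w ≠ 1) (hne : w ≠ s) (hc : w * s = s * w) :
    ∃ E : Subgroup X, IsKleinFour E ∧ s ∈ E ∧ w ∈ E ∧ ∀ x, x ∈ E ↔ x = 1 ∨ x = s ∨ x = w ∨ x = s * w := by
  classical
  let E : Subgroup X :=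
    { carrier := {x | x = 1 ∨ x = s ∨ x = w ∨ x = s * w}
      one_mem' := Or.inl rfl
      mul_mem' := by
        have e1 : ∀ y, s * (s * y) = y := fun y => by rw [← mul_assoc, hs, one_mul]
        have e2 : ∀ y, w * (w * y) = y := fun y => by rw [← mul_assoc, hw, one_mul]
        have e4 : ∀ y, w * (s * y) = s * (w * y) := fun y => by rw [← mul_assoc, hc, mul_assoc]
        rintro x y (rfl | rfl | rfl | rfl) (rfl | rfl | rfl | rfl) <;>
          simp [mul_assoc, hs, hw, e1, e2, e4, hc]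
      inv_mem' := by
        rintro x (rfl | rfl | rfl | rfl)
        · left; simp
        · right; left; exact inv_eq_of_mul_eq_one_right hs
        · right; right; left; exact inv_eq_of_mul_eq_one_right hw
        · right; right; right
          rw [mul_inv_rev, inv_eq_of_mul_eq_one_right hs, inv_eq_of_mul_eq_one_right hw, hc] }
  have hsw : s * w ≠ 1 := fun e => hne ((inv_eq_of_mul_eq_one_right e).symm.trans (inv_eq_of_mul_eq_one_right hs))
  refine ⟨E, ⟨?_, ?_⟩, Or.inr (Or.inl rfl), Or.inr (Or.inr (Or.inl rfl)), fun x => Iff.rfl⟩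
  · have e : (E : Set X) = ↑({1, s, w, s * w} : Finset X) := by ext x; simp [E]
    rw [← SetLike.coe_sort_coe, e, Nat.card_coe_set_eq, Set.ncard_coe_finset,
      Finset.card_insert_of_notMem, Finset.card_insert_of_notMem, Finset.card_pair]
    · exact fun e => hs1 (mul_eq_right.mp e.symm)
    · simp [hne.symm, hw1, eq_comm]
    · simp [Ne.symm hs1, Ne.symm hw1, Ne.symm hsw]
  · have hdvd : Monoid.exponent E ∣ 2 := Monoid.exponent_dvd_of_forall_pow_eq_one fun ⟨x, hx⟩ => by
      refine Subtype.ext ?_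
      show x ^ 2 = 1
      rw [pow_two]
      rcases hx with rfl | rfl | rfl | rfl
      · exact one_mul 1
      · exact hs
      · exact hw
      · rw [show s * w * (s * w) = s * (w * s) * w by group, hc, show s * (s * w) * w = (s * s) * (w * w) by group,
          hs, hw, one_mul]
    rcases (Nat.dvd_prime Nat.prime_two).mp hdvd with h | h
    · haveI := Monoid.exp_eq_one_iff.mp h
      exact absurd (congrArg Subtype.val (Subsingleton.elim (⟨s, Or.inr (Or.inl rfl)⟩ : E) 1)) hs1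
    · exact h

variable {X : Type*} [Group X] [Finite X] {Ω : Type*} [MulAction X Ω] [Finite Ω]

namespace Half

variable (H : Half X Ω) {s : X} {a b : Ω}
include H

theorem conj_stab (A : Axis s a b) {x : X} (hx : x ≠ 1) (hxa : x • a = a) (hf : 2 ≤ fix Ω x) :
    ∃ g : X, g • a = a ∧ g * s * g⁻¹ = x := by
  obtain ⟨⟨c, hc⟩, hca⟩ : ∃ c : fixedBy Ω x, c ≠ ⟨a, hxa⟩ := by
    haveI := (Finite.one_lt_card_iff_nontrivial.mp hf : Nontrivial (fixedBy Ω x))
    exact exists_ne _
  have A' : Axis x a c := ⟨fun e => hca (Subtype.ext e.symm), hx, hxa, hc⟩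
  obtain ⟨g, hga, hgb⟩ := H.pairs a b a c A.ne A'.ne
  refine ⟨g, hga, (H.eq_one_or A' (g := g * s * g⁻¹) ?_ ?_).resolve_left fun e => A.ne_one (conj_eq_one_iff.mp e)⟩
  · nth_rw 1 [← hga]
    rw [smul_conj_smul, A.fa, hga]
  · nth_rw 1 [← hgb]
    rw [smul_conj_smul, A.fb, hgb]

theorem axis_at (A : Axis s a b) {c : Ω} (hc : s • c = c) : ∃ d, Axis s c d := by
  by_cases hca : c = a
  · exact ⟨b, hca ▸ A⟩
  · exact ⟨a, hca, A.ne_one, hc, A.fa⟩

theorem axis_of_fixed {x : X} (hx : x ≠ 1) (hf : 2 ≤ fix Ω x) {c : Ω} (hc : x • c = c) : ∃ d, Axis x c d := by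
  obtain ⟨p, q, A⟩ := H.axis_of_two_le hx hf
  exact H.axis_at A hc

theorem card_stab (A : Axis s a b) : Nat.card ↥(stabilizer X a) = (Nat.card Ω - 1) * 2 := by
  obtain ⟨E, hE⟩ : ∃ E : Subgroup X, E = stabilizer X a ⊓ stabilizer X b := ⟨_, rfl⟩
  have h2 : Nat.card ↥E = 2 := by
    classical
    have e : (E : Set X) = ↑({1, s} : Finset X) := by
      ext g
      rw [hE]
      simp only [Subgroup.coe_inf, Set.mem_inter_iff, SetLike.mem_coe, mem_stabilizer_iff, Finset.coe_insert,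
        Finset.coe_singleton, Set.mem_insert_iff, Set.mem_singleton_iff]
      exact ⟨fun h => H.eq_one_or A h.1 h.2, by rintro (rfl | rfl); · simp
                                                · exact ⟨A.fa, A.fb⟩⟩
    rw [← SetLike.coe_sort_coe, e, Nat.card_coe_set_eq, Set.ncard_coe_finset, Finset.card_pair A.ne_one.symm]
  rw [card_orbit_stab (stabilizer X a) E b (fun p => True ∧ p ≠ a) ?_ ?_, h2,
    card_ne (fun _ : Ω => True) (p₀ := a) trivial, Nat.card_congr (Equiv.subtypeUnivEquiv fun _ => trivial)]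
  · intro p
    refine ⟨fun hp => ?_, ?_⟩
    · obtain ⟨g, g1, g2⟩ := H.pairs a b a p A.ne hp.2.symm
      exact ⟨g, mem_stabilizer_iff.mpr g1, g2⟩
    · rintro ⟨g, hg, rfl⟩
      exact ⟨trivial, fun e => A.ne (smul_left_cancel g ((mem_stabilizer_iff.mp hg).trans e.symm))⟩
  · exact fun g => by rw [hE]; simp [Subgroup.mem_inf, mem_stabilizer_iff]

theorem card_cen_stab (A : Axis s a b) : Nat.card ↥(CL X a s) = (fix Ω s - 1) * 2 := by
  classical
  have h2 : Nat.card ↥(CL X a s ⊓ stabilizer X b) = 2 := by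
    have e : ((CL X a s ⊓ stabilizer X b : Subgroup X) : Set X) = ↑({1, s} : Finset X) := by
      ext g
      simp only [Subgroup.coe_inf, Set.mem_inter_iff, SetLike.mem_coe, mem_stabilizer_iff, mem_cen,
        Finset.coe_insert, Finset.coe_singleton, Set.mem_insert_iff, Set.mem_singleton_iff]
      exact ⟨fun h => H.eq_one_or A h.1.1 h.2, by rintro (rfl | rfl); · simp
                                                  · exact ⟨⟨A.fa, rfl⟩, A.fb⟩⟩
    rw [← SetLike.coe_sort_coe, e, Nat.card_coe_set_eq, Set.ncard_coe_finset, Finset.card_pair A.ne_one.symm]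
  rw [card_orbit_stab (CL X a s) (CL X a s ⊓ stabilizer X b) b (fun p => s • p = p ∧ p ≠ a) ?_ ?_, h2,
    card_ne (fun p : Ω => s • p = p) (p₀ := a) A.fa]
  · rfl
  · intro p
    refine ⟨fun hp => ?_, ?_⟩
    · obtain ⟨g, g1, g2⟩ := H.level_pairs A (⟨a, A.fa⟩ : ↥(fixedBy Ω s)) ⟨b, A.fb⟩ ⟨a, A.fa⟩ ⟨p, hp.1⟩
        (fun e => A.ne (congrArg Subtype.val e)) (fun e => hp.2 (congrArg Subtype.val e).symm)
      exact ⟨g, mem_CL.mpr ⟨congrArg Subtype.val g1, mem_cen.mp g.2⟩, congrArg Subtype.val g2⟩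
    · rintro ⟨g, hg, rfl⟩
      obtain ⟨g1, g3⟩ := mem_CL.mp hg
      exact ⟨fix_of_comm g3 A.fb, fun e => A.ne (smul_left_cancel g (g1.trans e.symm))⟩
  · exact fun g => by rw [Subgroup.mem_inf, mem_stabilizer_iff]

theorem card_cen (A : Axis s a b) :
    Nat.card ↥(Subgroup.centralizer ({s} : Set X)) = fix Ω s * ((fix Ω s - 1) * 2) := by
  rw [card_orbit_stab (Subgroup.centralizer ({s} : Set X)) (CL X a s) a (fun p => s • p = p) ?_ ?_,
    H.card_cen_stab A]
  · rfl
  · intro p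
    refine ⟨fun hp => ?_, ?_⟩
    · by_cases hpa : p = a
      · exact ⟨1, one_mem _, by rw [one_smul, hpa]⟩
      · obtain ⟨g, g1, -⟩ := H.level_pairs A (⟨a, A.fa⟩ : ↥(fixedBy Ω s)) ⟨b, A.fb⟩ ⟨p, hp⟩ ⟨a, A.fa⟩
          (fun e => A.ne (congrArg Subtype.val e)) (fun e => hpa (congrArg Subtype.val e))
        exact ⟨g, g.2, congrArg Subtype.val g1⟩
    · rintro ⟨g, hg, rfl⟩
      exact fix_of_comm (mem_cen.mp hg) A.fa
  · exact fun g => by rw [mem_CL, mem_cen, and_comm]

theorem card_group (A : Axis s a b) : Nat.card X = Nat.card Ω * ((Nat.card Ω - 1) * 2) := by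
  rw [← Nat.card_congr (Equiv.Set.univ X), ← H.card_stab A]
  show Nat.card ↥(⊤ : Subgroup X) = _
  rw [card_orbit_stab ⊤ (stabilizer X a) a (fun _ => True) ?_ ?_,
    Nat.card_congr (Equiv.subtypeUnivEquiv fun _ => trivial)]
  · intro p
    refine ⟨fun _ => ?_, fun _ => trivial⟩
    by_cases hpa : p = a
    · exact ⟨1, trivial, by rw [one_smul, hpa]⟩
    · obtain ⟨g, g1, -⟩ := H.pairs a b p a A.ne hpa
      exact ⟨g, trivial, g1⟩
  · exact fun g => by simp [mem_stabilizer_iff]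

/-- With one orbit of fixed-point-free swappers, no Klein group fixing a point consists of axes. -/
theorem square_false (hodd : Nat.card Ω % 2 = 1)
    (hshape : ∀ c d : Ω, c ≠ d → ∃ t : X, t * t = 1 ∧ t ≠ 1 ∧ fix Ω t ≤ 1 ∧ t • c = d ∧ t • d = c ∧
      ∀ x : X, x * x = 1 → fix Ω x ≤ 1 → x • c = d → x • d = c → x = t)
    {c : Ω} {x y : X} (hx : x * x = 1) (hy : y * y = 1) (hx1 : x ≠ 1) (hy1 : y ≠ 1) (hne : y ≠ x)
    (hcom : y * x = x * y) (hxc : x • c = c) (hyc : y • c = c)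
    (hsame : fix Ω y = fix Ω x ∧ fix Ω (x * y) = fix Ω x) : False := by
  haveI : Nontrivial Ω := Finite.one_lt_card_iff_nontrivial.mp H.big
  have hP1 : ∀ t : X, t * t = 1 → fix Ω t ≤ 1 → fix Ω t = 1 := fun t ht htf => by
    have := fix_parity (Ω := Ω) ht
    omega
  obtain ⟨T, ⟨hT, hTf⟩, hTc, huniq⟩ := one_each (X := X) (Ω := Ω) H.pairs (fun t => t * t = 1 ∧ fix Ω t = 1)
    (fun g t ht => ⟨mul_self_conj ht.1, (fix_conj g t).trans ht.2⟩) (fun _ ht => ht)
    (fun p q hpq => by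
      obtain ⟨t, ht, -, htf, htp, htq, hu⟩ := hshape p q hpq
      exact ⟨t, ⟨ht, hP1 t ht htf⟩, htp, htq, fun r hr hrp hrq => hu r hr.1 hr.2.le hrp hrq⟩) c
  by_cases hf : 2 ≤ fix Ω x
  · obtain ⟨d, A⟩ := H.axis_of_fixed hx1 hf hxc
    have hTx : T * x = x * T := by
      have e := huniq (x * T * x⁻¹) ⟨mul_self_conj hT, (fix_conj x T).trans hTf⟩
        (by nth_rw 1 [← hxc]; rw [smul_conj_smul, hTc, hxc])
      exact (mul_inv_eq_iff_eq_mul.mp e).symm
    have hfodd : fix Ω x % 2 = 1 := (fix_parity (H.sq A)).trans hodd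
    have hTx' : T ≠ x := fun e => by rw [e] at hTf; omega
    have hT1 : T ≠ 1 := fun e => by
      have h1 : fix Ω (1 : X) = Nat.card Ω := Nat.card_congr (Equiv.subtypeUnivEquiv fun p => one_smul X p)
      rw [e, h1] at hTf
      have := H.big
      omega
    rcases H.level_unique A hfodd hcom hTx (Or.inl hy) (Or.inl hT) hy1 hne hT1 hTx' hxc hyc hTc with e | e
    · rw [e, hsame.1] at hTf; omega
    · rw [e, hcom, hsame.2] at hTf; omega
  · exact hne ((huniq y ⟨hy, hP1 y hy (by omega)⟩ hyc).trans (huniq x ⟨hx, hP1 x hx (by omega)⟩ hxc).symm)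

/-- With two orbits of swappers with two fixed points no involution commutes with an axis and fixes one
of its fixed points. -/
theorem twisted_false (hodd : Nat.card Ω % 2 = 1) (A : Axis s a b)
    (hf : Nat.card Ω + fix Ω s = 2 * (fix Ω s * fix Ω s)) (hall : ∀ x : X, x * x = 1 → x ≠ 1 → 2 ≤ fix Ω x)
    {w : X} (hw : w * w = 1) (hw1 : w ≠ 1) (hws : w ≠ s) (hcom : w * s = s * w) (hwa : w • a = a) : False := by
  haveI := Fact.mk Nat.prime_two
  have hss := H.sq A
  have hfodd : fix Ω s % 2 = 1 := (fix_parity hss).trans hodd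
  have hf2 := H.two_le_fix A
  have hsw2 : s * w * (s * w) = 1 := by
    rw [show s * w * (s * w) = s * (w * s) * w by group, hcom,
      show s * (s * w) * w = (s * s) * (w * w) by group, hss, hw, one_mul]
  have hswa : (s * w) • a = a := by rw [mul_smul, hwa, A.fa]
  have hsw1 : s * w ≠ 1 := fun e =>
    hws ((inv_eq_of_mul_eq_one_right e).symm.trans (inv_eq_of_mul_eq_one_right hss))
  -- the involutions of the centraliser
  have hinv : ∀ x : X, x ∈ CL X a s → (x * x = 1 ∨ x * x = s) → x = 1 ∨ x = s ∨ x = w ∨ x = s * w := by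
    intro x hx hx2
    obtain ⟨hxa, hxs⟩ := mem_CL.mp hx
    by_cases h1 : x = 1
    · exact Or.inl h1
    by_cases h2 : x = s
    · exact Or.inr (Or.inl h2)
    rcases H.level_unique A hfodd hcom hxs (Or.inl hw) hx2 hw1 hws h1 h2 A.fa hwa hxa with e | e
    · exact Or.inr (Or.inr (Or.inl e))
    · exact Or.inr (Or.inr (Or.inr (e.trans hcom)))
  have hinv2 : ∀ x : X, x ∈ CL X a s → (x * x = 1 ∨ x * x = s) → x * x = 1 := fun x hx hx2 => by
    rcases hinv x hx hx2 with rfl | rfl | rfl | rfl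
    · exact one_mul 1
    · exact hss
    · exact hw
    · exact hsw2
  have hnosq : ∀ x : X, x ∈ CL X a s → ∀ e : X, (e = s ∨ e = w ∨ e = s * w) → x * x = e → False := by
    intro x hx e he hxe
    have he2 : e * e = 1 := by rcases he with rfl | rfl | rfl; exacts [hss, hw, hsw2]
    have he1 : e ≠ 1 := by rcases he with rfl | rfl | rfl; exacts [A.ne_one, hw1, hsw1]
    obtain ⟨hxa, hxs⟩ := mem_CL.mp hx
    have hea : e • a = a := by rw [← hxe, mul_smul, hxa, hxa]
    obtain ⟨g, hga, hg⟩ := H.conj_stab A he1 hea (hall e he2 he1)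
    have hmem : g⁻¹ * x * g ∈ CL X a s := mem_CL.mpr ⟨by
      rw [mul_smul, mul_smul, hga, hxa, inv_smul_eq_iff, hga], by
      have hgs : s = g⁻¹ * e * g := by rw [← hg]; group
      rw [hgs, show g⁻¹ * x * g * (g⁻¹ * e * g) = g⁻¹ * (x * e) * g by group,
        show g⁻¹ * e * g * (g⁻¹ * x * g) = g⁻¹ * (e * x) * g by group, ← hxe, ← mul_assoc x x x]⟩
    have hsq : g⁻¹ * x * g * (g⁻¹ * x * g) = s := by
      rw [show g⁻¹ * x * g * (g⁻¹ * x * g) = g⁻¹ * (x * x) * g by group, hxe, ← hg]; group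
    exact A.ne_one (hsq.symm.trans (hinv2 _ hmem (Or.inr hsq)))
  obtain ⟨E, hE, hsE, hwE, hEmem⟩ := exists_klein hss hw A.ne_one hw1 hws hcom
  have hEC : E ≤ CL X a s := fun x hx => by
    rcases (hEmem x).mp hx with rfl | rfl | rfl | rfl
    · exact one_mem _
    · exact mem_CL.mpr ⟨A.fa, rfl⟩
    · exact mem_CL.mpr ⟨hwa, hcom⟩
    · exact mem_CL.mpr ⟨hswa, by rw [mul_assoc, hcom]⟩
  have hE4 : Nat.card ↥E = 4 := hE.card_four
  -- the two part of the centraliser is four
  have h8 : ¬ 8 ∣ Nat.card ↥(CL X a s) := by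
    intro h8
    obtain ⟨Q, hQ⟩ := Sylow.exists_subgroup_card_pow_prime 2 (show 2 ^ 3 ∣ Nat.card ↥(CL X a s) from h8)
    have hinvQ : ∀ x : ↥(CL X a s), x * x = 1 → (x : X) ∈ E := fun x hx =>
      (hEmem _).mpr (hinv x x.2 (Or.inl (congrArg Subtype.val hx)))
    have hle : Q.map (CL X a s).subtype ≤ E := by
      rintro _ ⟨x, hx, rfl⟩
      have hp : (⟨x, hx⟩ : ↥Q) ^ (2 ^ 3) = 1 := hQ ▸ pow_card_eq_one'
      have hx8 : x ^ 8 = 1 := by simpa using congrArg Subtype.val hp
      have hstep : ∀ y : ↥(CL X a s), (y * y) * (y * y) = 1 → y * y = 1 := fun y hy => by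
        by_contra hne
        rcases (hEmem _).mp (hinvQ _ hy) with e | e | e | e
        · exact hne (Subtype.ext e)
        · exact hnosq y y.2 _ (Or.inl rfl) e
        · exact hnosq y y.2 _ (Or.inr (Or.inl rfl)) e
        · exact hnosq y y.2 _ (Or.inr (Or.inr rfl)) e
      have h4 : (x * x) * (x * x) = 1 := hstep (x * x) (by simpa [pow_succ, mul_assoc] using hx8)
      exact hinvQ x (hstep x h4)
    have h1 := Subgroup.card_dvd_of_le hle
    rw [Subgroup.card_map_of_injective (CL X a s).subtype_injective, hQ, hE4] at h1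
    norm_num at h1
  have hcenw : ∀ x ∈ CL X a s, x * w = w * x := by
    have hall' : ∀ x ∈ CL X a s, x * w * x⁻¹ = w ∨ x * w * x⁻¹ = s * w := fun x hx => by
      rcases hinv (x * w * x⁻¹) (mul_mem (mul_mem hx (hEC hwE)) (inv_mem hx)) (Or.inl (mul_self_conj hw)) with
        e | e | e | e
      · exact absurd (conj_eq_one_iff.mp e) hw1
      · exact absurd (mul_left_cancel ((mul_inv_eq_iff_eq_mul.mp e).trans (mem_CL.mp hx).2.symm)) hws
      · exact Or.inl e
      · exact Or.inr e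
    intro x hx
    rcases hall' x hx with e | e
    · exact mul_inv_eq_iff_eq_mul.mp e
    · exfalso
      have h2 := half_cen (CL X a s) hss A.ne_one (fun y hy => (mem_CL.mp hy).2) hall' hx e
      have h4 : 4 ∣ Nat.card ↥(CL X a s ⊓ Subgroup.centralizer ({w} : Set X)) :=
        hE4 ▸ Subgroup.card_dvd_of_le (fun y hy => ⟨hEC hy, mem_cen.mpr (by
          rcases (hEmem y).mp hy with rfl | rfl | rfl | rfl
          · rw [one_mul, mul_one]
          · exact hcom.symm
          · rfl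
          · rw [← mul_assoc w, hcom])⟩)
      exact h8 (by rw [h2, show 8 = 2 * 4 by norm_num]; exact Nat.mul_dvd_mul_left 2 h4)
  have hCLcard := H.card_cen_stab A
  have h4' : 4 ∣ Nat.card ↥(CL X a s) := hE4 ▸ Subgroup.card_dvd_of_le hEC
  rw [hCLcard] at h4' h8
  have hmod : fix Ω s % 4 = 3 := by omega
  obtain ⟨q, hq⟩ : ∃ q, Nat.card Ω = q := ⟨_, rfl⟩
  have hstab := H.card_stab A
  have hq1 : q - 1 = (fix Ω s - 1) * (2 * fix Ω s + 1) := by
    obtain ⟨e, he⟩ : ∃ e, fix Ω s = e + 2 := ⟨fix Ω s - 2, by omega⟩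
    rw [he, hq] at hf
    rw [he, show e + 2 - 1 = e + 1 by omega]
    have : q + (e + 2) = (e + 1) * (2 * (e + 2) + 1) + 1 + (e + 2) := by rw [hf]; ring
    omega
  -- the point stabiliser
  set L := stabilizer X a
  have hEL : E ≤ L := hEC.trans inf_le_left
  have hEL4 : Nat.card ↥(E.subgroupOf L) = 4 := by
    rw [Nat.card_congr (Subgroup.subgroupOfEquivOfLe hEL).toEquiv, hE4]
  have hodd2 : ¬ 2 ∣ (E.subgroupOf L).index := by
    intro hd
    have e := (E.subgroupOf L).index_mul_card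
    rw [hEL4, hstab, hq, hq1] at e
    obtain ⟨i, hi⟩ := hd
    rw [hi] at e
    have h1 : 8 ∣ ((fix Ω s - 1) * 2) * (2 * fix Ω s + 1) := ⟨i, by linarith⟩
    exact h8 ((Nat.Coprime.dvd_of_dvd_mul_right (by
      rw [show (8 : ℕ) = 2 ^ 3 by norm_num]
      exact Nat.Coprime.pow_left 3 (Nat.coprime_two_left.mpr ⟨fix Ω s, rfl⟩)) h1))
  let S : Sylow 2 ↥L := (IsPGroup.of_card (n := 2) (by rw [hEL4]; norm_num)).toSylow hodd2
  have hS : (S : Subgroup ↥L) = E.subgroupOf L := rfl
  have hSk : IsKleinFour (S : Subgroup ↥L) := by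
    rw [hS]
    exact ⟨hEL4, by
      rw [Monoid.exponent_eq_of_mulEquiv (Subgroup.subgroupOfEquivOfLe hEL)]; exact hE.exponent_two⟩
  set J : ↥L := ⟨s, mem_stabilizer_iff.mpr A.fa⟩
  have hJo : orderOf J = 2 := by
    rw [← Subgroup.orderOf_coe]
    exact orderOf_eq_prime (by rw [pow_two]; exact hss) A.ne_one
  have hJS : J ∈ (S : Subgroup ↥L) := Subgroup.mem_subgroupOf.mpr hsE
  have hone : ∀ x : ↥L, orderOf x = 2 → IsConj J x := fun x hx => by
    have hx2 : (x : X) * x = 1 := by rw [← Subgroup.coe_mul, ← pow_two, ← hx, pow_orderOf_eq_one]; rfl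
    have hx1 : (x : X) ≠ 1 := fun e => by rw [show x = 1 from Subtype.ext e, orderOf_one] at hx; omega
    obtain ⟨g, hga, hg⟩ := H.conj_stab A hx1 (mem_stabilizer_iff.mp x.2) (hall _ hx2 hx1)
    exact isConj_iff.mpr ⟨⟨g, mem_stabilizer_iff.mpr hga⟩, Subtype.ext hg⟩
  have hCE : CL X a s ⊓ Subgroup.centralizer ({w} : Set X) = CL X a s :=
    inf_eq_left.mpr fun x hx => mem_cen.mpr (hcenw x hx)
  have hcJ : Nat.card ↥(Subgroup.centralizer ({J} : Set ↥L)) = Nat.card ↥(CL X a s) := Nat.card_congr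
    { toFun := fun x => ⟨(x : ↥L), mem_CL.mpr ⟨mem_stabilizer_iff.mp x.1.2, congrArg Subtype.val (mem_cen.mp x.2)⟩⟩
      invFun := fun x => ⟨⟨x, x.2.1⟩, mem_cen.mpr (Subtype.ext (mem_CL.mp x.2).2)⟩
      left_inv := fun _ => rfl
      right_inv := fun _ => rfl }
  have hcomE : ∀ {x : X}, x ∈ CL X a s → ∀ y ∈ E, y * x = x * y := fun {x} hx y hy => by
    have hxs := (mem_CL.mp hx).2
    have hxw := hcenw x hx
    rcases (hEmem y).mp hy with rfl | rfl | rfl | rfl
    · rw [one_mul, mul_one]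
    · exact hxs.symm
    · exact hxw.symm
    · rw [mul_assoc, ← hxw, ← mul_assoc, ← hxs, mul_assoc]
  have hcS : Nat.card ↥(Subgroup.centralizer ((S : Subgroup ↥L) : Set ↥L)) = Nat.card ↥(CL X a s) := Nat.card_congr
    { toFun := fun x => ⟨(x : ↥L), mem_CL.mpr ⟨mem_stabilizer_iff.mp x.1.2,
        (congrArg Subtype.val (Subgroup.mem_centralizer_iff.mp x.2 J hJS)).symm⟩⟩
      invFun := fun x => ⟨⟨x, x.2.1⟩, Subgroup.mem_centralizer_iff.mpr fun y hy =>
        Subtype.ext (hcomE x.2 _ (Subgroup.mem_subgroupOf.mp hy))⟩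
      left_inv := fun _ => rfl
      right_inv := fun _ => rfl }
  have hblock : BlockEq (2 * fix Ω s + 1) 1 := klein_shape S hSk (fun x y hx hy => (hone x hx).symm.trans (hone y hy))
    (J := J) hJS hJo (n := 1) (k := 2 * fix Ω s + 1) (by rw [hcJ, hcS, mul_one])
    (by rw [hcJ, hCLcard, hstab, hq, hq1]; ring)
  have h7 : fix Ω s = 7 := by
    rcases hblock with ⟨m, hm, he⟩ | ⟨d₁, d₂, h1, h2, hle, he⟩
    · rw [Nat.dvd_one.mp hm] at he
      omega
    · obtain ⟨-, hpos, hb, hb', -⟩ := caseB_bound h1 h2 hle (by omega) he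
      push_cast at hpos hb hb'
      have hd3 : (3 : ℤ) ≤ d₁ := by exact_mod_cast (show 3 ≤ d₁ by omega)
      have hlow : 4 ≤ fix Ω s := by
        by_contra hc
        have := mul_le_mul_of_nonneg_right (show 2 * (fix Ω s : ℤ) + 1 ≤ 8 by omega)
          (show (0 : ℤ) ≤ (d₁ : ℤ) - 1 by linarith)
        linarith
      have hup : fix Ω s ≤ 7 := by
        by_contra hc
        rcases (show d₁ = 3 ∨ 7 ≤ d₁ by omega) with rfl | h7
        · norm_num at hb; omega
        · have := mul_le_mul_of_nonneg_right (show (13 : ℤ) ≤ 2 * d₁ - 1 by omega)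
            (show (0 : ℤ) ≤ 2 * (fix Ω s : ℤ) + 1 - 8 by omega)
          omega
      omega
  -- the whole group
  rw [h7] at hq1
  have hq91 : q = 91 := by omega
  have hX := H.card_group A
  rw [hq, hq91] at hX
  have hodd3 : ¬ 2 ∣ E.index := by
    intro hd
    have e := E.index_mul_card
    rw [hE4, hX] at e
    omega
  let T : Sylow 2 X := (IsPGroup.of_card (n := 2) (by rw [hE4]; norm_num)).toSylow hodd3
  have hT : (T : Subgroup X) = E := rfl
  have honeX : ∀ x : X, orderOf x = 2 → IsConj s x := fun x hx => by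
    have hx2 : x * x = 1 := by rw [← pow_two, ← hx, pow_orderOf_eq_one]
    have hx1 : x ≠ 1 := fun e => by rw [e, orderOf_one] at hx; omega
    obtain ⟨c, d, A'⟩ := H.axis_of_two_le hx1 (hall x hx2 hx1)
    obtain ⟨g, hg⟩ := H.conj_axis A A'
    exact isConj_iff.mpr ⟨g, hg⟩
  have hcT : Nat.card ↥(Subgroup.centralizer ((T : Subgroup X) : Set X)) = Nat.card ↥(CL X a s) := by
    refine congrArg (fun K : Subgroup X => Nat.card ↥K) (le_antisymm (fun g hg => ?_) fun g hg => ?_)
    · rw [Subgroup.mem_centralizer_iff] at hg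
      have hgs : g * s = s * g := (hg s hsE).symm
      have hgw : g * w = w * g := (hg w hwE).symm
      refine mem_CL.mpr ⟨by_contra fun hne => ?_, hgs⟩
      rcases H.eq_one_or (s := s) (a := a) (b := g • a) ⟨Ne.symm hne, A.ne_one, A.fa, fix_of_comm hgs A.fa⟩
        (g := w) hwa (fix_of_comm hgw hwa) with e | e
      · exact hw1 e
      · exact hws e
    · exact Subgroup.mem_centralizer_iff.mpr fun y hy => hcomE hg y hy
  have hblock2 : BlockEq 195 7 := klein_shape T hE (fun x y hx hy => (honeX x hx).symm.trans (honeX y hy))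
    (J := s) hsE (orderOf_eq_prime (by rw [pow_two]; exact hss) A.ne_one) (n := 7) (k := 195)
    (by rw [H.card_cen A, hcT, hCLcard, h7]) (by rw [H.card_cen A, hX, h7])
  rcases hblock2 with ⟨m, hm, he⟩ | ⟨d₁, d₂, h1, h2, hle, he⟩
  · rcases (Nat.dvd_prime (by norm_num : Nat.Prime 7)).mp hm with rfl | rfl <;> omega
  · obtain ⟨-, hpos, -, -, -⟩ := caseB_bound h1 h2 hle (by norm_num) he
    norm_num at hpos
    omega

end Half

end CfsgLib.TwoPointStab
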