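import Cfsg.Agent.Lib.TwoPointStab.HalfOdd
import Cfsg.Agent.Lib.TwoPointStab.Dihedral
import Cfsg.Agent.Lib.TwoPointStab.Regular
import Cfsg.Agent.Lib.Invol.SwapPair

/-!
# Odd degree
-/

set_option autoImplicit false
set_option linter.unusedSectionVars false
set_option linter.style.haveILetI false

namespace CfsgLib.TwoPointStab

open MulAction

theorem exists_fix_of_odd {α : Type*} [Finite α] (σ : α → α) (hσ : ∀ x, σ (σ x) = x)
    (hodd : Nat.card α % 2 = 1) : ∃ x, σ x = x := by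
  classical
  haveI := Fintype.ofFinite α
  have h := Equiv.Perm.card_fixedPoints_modEq (α := α) (f := (σ : Function.End α)) (p := 2) (n := 1)
    ((congrArg (fun n => HPow.hPow (α := Function.End α) σ n) (pow_one 2)).trans
      ((sq (M := Function.End α) σ).trans (funext hσ)))
  rw [← Nat.card_eq_fintype_card, ← Nat.card_eq_fintype_card] at h
  have h' : 0 < Nat.card (Function.fixedPoints (σ : Function.End α)) := by
    rw [Nat.ModEq] at h; omega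
  obtain ⟨⟨x, hx⟩⟩ := (Nat.card_pos_iff.mp h').1
  exact ⟨x, hx⟩

theorem odd_arith {g N d : ℕ} {δ : ℤ} (hg : 0 < g) (hd : 0 < d) (hδ : δ = 1 ∨ δ = -1) (hne : (d : ℤ) ≠ δ)
    (hN : N % 2 = 1)
    (h : (N : ℤ) * ((d : ℤ) - δ) ^ 2 = 32 * (g : ℤ) ^ 2 * (d * ((d : ℤ) + δ))) :
    ∃ s : ℕ, s % 2 = 1 ∧ s ∣ 8 * g ∧ (N : ℤ) = 32 * (g : ℤ) ^ 2 + 12 * δ * g * s + (s : ℤ) ^ 2 := by
  obtain ⟨x, hx⟩ : ∃ x : ℕ, (x : ℤ) = (d : ℤ) - δ := ⟨((d : ℤ) - δ).toNat, Int.toNat_of_nonneg (by omega)⟩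
  have hx0 : 0 < x := by omega
  have hδ2 : δ * δ = 1 := by rcases hδ with rfl | rfl <;> rfl
  have key : (N : ℤ) * (x : ℤ) ^ 2 = 32 * (g : ℤ) ^ 2 * ((x : ℤ) ^ 2 + 3 * δ * x + 2) := by
    rw [hx, h]; linear_combination (64 * (g : ℤ) ^ 2) * hδ2
  obtain ⟨e, x', g', he, hcop, hxe, hge⟩ :
      ∃ e x' g' : ℕ, 0 < e ∧ Nat.Coprime x' g' ∧ x = x' * e ∧ 8 * g = g' * e := by
    obtain ⟨x', g', h1, h2, h3⟩ := Nat.exists_coprime x (8 * g)
    exact ⟨_, x', g', Nat.gcd_pos_of_pos_left _ hx0, h1, h2, h3⟩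
  have hgz : 8 * (g : ℤ) = g' * e := by exact_mod_cast hge
  have hxz : (x : ℤ) = x' * e := by exact_mod_cast hxe
  have key2 : 2 * (N : ℤ) * (x' : ℤ) ^ 2 = (g' : ℤ) ^ 2 * ((x : ℤ) ^ 2 + 3 * δ * x + 2) := by
    refine mul_right_cancel₀ (show ((e : ℤ) ^ 2) ≠ 0 by positivity) ?_
    calc 2 * (N : ℤ) * (x' : ℤ) ^ 2 * (e : ℤ) ^ 2 = 2 * ((N : ℤ) * (x : ℤ) ^ 2) := by rw [hxz]; ring
      _ = (8 * (g : ℤ)) ^ 2 * ((x : ℤ) ^ 2 + 3 * δ * x + 2) := by rw [key]; ring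
      _ = (g' : ℤ) ^ 2 * ((x : ℤ) ^ 2 + 3 * δ * x + 2) * (e : ℤ) ^ 2 := by rw [hgz]; ring
  have hc : IsCoprime ((x' : ℤ) ^ 2) ((g' : ℤ) ^ 2) := (Int.isCoprime_iff_nat_coprime.mpr (by simpa using hcop)).pow
  obtain ⟨r, hr⟩ : (x' : ℤ) ^ 2 ∣ (x : ℤ) ^ 2 + 3 * δ * x + 2 :=
    hc.dvd_of_dvd_mul_left ⟨2 * N, by rw [← key2]; ring⟩
  have hx'2 : x' ∣ 2 := Int.natCast_dvd_natCast.mp
    ⟨(x' : ℤ) * r - (x : ℤ) * e - 3 * δ * e, by push_cast; linear_combination hr - ((x : ℤ) + 3 * δ) * hxz⟩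
  rcases (Nat.dvd_prime Nat.prime_two).mp hx'2 with rfl | rfl
  · -- `x` divides `8 g`
    push_cast at key2
    norm_num at key2 hxz
    have hN' : (N : ℤ) = 32 * (g : ℤ) ^ 2 + 12 * δ * g * g' + (g' : ℤ) ^ 2 := by
      have h2 : 2 * (N : ℤ) = 2 * (32 * (g : ℤ) ^ 2 + 12 * δ * g * g' + (g' : ℤ) ^ 2) := by
        rw [hxz] at key2
        linear_combination key2 + (-(8 * (g : ℤ) + g' * e) - 3 * δ * g') * hgz
      linarith
    refine ⟨g', ?_, ⟨e, hge⟩, hN'⟩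
    by_contra hg'
    obtain ⟨t, ht⟩ : ∃ t, g' = 2 * t := ⟨g' / 2, by omega⟩
    rw [ht] at hN'
    push_cast at hN'
    obtain ⟨q, hq⟩ : ∃ q : ℤ, (N : ℤ) = 2 * q :=
      ⟨16 * (g : ℤ) ^ 2 + 12 * δ * g * t + 2 * (t : ℤ) ^ 2, by rw [hN']; ring⟩
    omega
  · exfalso
    have hg'odd : g' % 2 = 1 := by
      rcases Nat.mod_two_eq_zero_or_one g' with h0 | h0
      · exact absurd (Nat.dvd_gcd (dvd_refl 2) (Nat.dvd_of_mod_eq_zero h0)) (by rw [hcop]; norm_num)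
      · exact h0
    obtain ⟨e2, rfl⟩ : 2 ∣ e := (Nat.Coprime.dvd_of_dvd_mul_left
      (show Nat.Coprime 2 g' from hcop) ⟨4 * g, by rw [← hge]; ring⟩)
    obtain ⟨q, hq⟩ : ∃ q : ℤ, (g' : ℤ) = 2 * q + 1 := ⟨(g' : ℤ) / 2, by omega⟩
    have h4 : (4 : ℤ) ∣ 1 := by
      push_cast at hxz key2
      rw [hxz, hq] at key2
      refine Int.dvd_iff_emod_eq_zero.mpr ?_
      have h3 : 4 * (N : ℤ) = (2 * q + 1) ^ 2 * (8 * (e2 : ℤ) ^ 2 + 6 * δ * e2 + 1) := by linarith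
      exfalso
      have hodd : ((2 * q + 1) ^ 2 * (8 * (e2 : ℤ) ^ 2 + 6 * δ * e2 + 1)) % 2 = 1 := by
        rw [show (2 * q + 1) ^ 2 * (8 * (e2 : ℤ) ^ 2 + 6 * δ * e2 + 1) =
          2 * ((2 * q ^ 2 + 2 * q) * (8 * (e2 : ℤ) ^ 2 + 6 * δ * e2 + 1) + (4 * (e2 : ℤ) ^ 2 + 3 * δ * e2)) + 1
            by ring]
        omega
      omega
    norm_num at h4

variable {G : Type*} [Group G] [Finite G] {Ω : Type*} [MulAction G Ω] [Finite Ω]

theorem KleinV.mem_CL_inf {a b : Ω} {z v : G} (k : KleinV a b z v) {e : G}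
    (he : e = 1 ∨ e = z ∨ e = v ∨ e = z * v) :
    e ∈ CL G a z ∧ e * v = v * e ∧ e * z = z * e ∧ e • a = a ∧ e • b = b ∧ e * e = 1 := by
  rcases he with rfl | rfl | rfl | rfl
  · exact ⟨one_mem _, by simp, by simp, one_smul _ _, one_smul _ _, one_mul 1⟩
  · exact ⟨mem_CL.mpr ⟨k.hz.fa, rfl⟩, k.comm.symm, rfl, k.hz.fa, k.hz.fb, k.hz.sq⟩
  · exact ⟨mem_CL.mpr ⟨k.hv.fa, k.comm⟩, rfl, k.comm, k.hv.fa, k.hv.fb, k.hv.sq⟩
  · have hz' : z * v * z = z * (z * v) := by rw [mul_assoc, k.comm]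
    exact ⟨mem_CL.mpr ⟨k.inv2_mul.fa, hz'⟩, by rw [← mul_assoc v, k.comm], hz', k.inv2_mul.fa, k.inv2_mul.fb,
      k.inv2_mul.sq⟩

theorem not_eight {a b : Ω} {z v : G} (k : KleinV a b z v)
    (hsmall : ∀ x : G, x ∈ CL G a z → x * v = v * x →
      (x * x = 1 ∨ x * x = z ∨ x * x = v ∨ x * x = z * v) → x = 1 ∨ x = z ∨ x = v ∨ x = z * v)
    {x : G} (hx : x ∈ CL G a z) (hxv : x * v = v * x) : ∀ j : ℕ, x ^ 2 ^ j = 1 →
      x = 1 ∨ x = z ∨ x = v ∨ x = z * v := by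
  intro j
  induction j generalizing x with
  | zero => intro h; exact Or.inl (by simpa using h)
  | succ j ih =>
    intro h
    refine hsmall x hx hxv (ih (mul_mem hx hx) ((Commute.mul_left hxv hxv).eq) ?_)
    rw [← pow_two, ← pow_mul, ← h, pow_succ, mul_comm]

variable {a b : Ω} {u w : ℕ} {z v : G} (h : Conf G Ω a b u w)
include h

/-- The order formula for the point stabiliser with dihedral Sylow subgroups. -/
theorem Conf.dihedral_count (k : KleinV a b z v)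
    (hall : ∀ x : G, x * x = 1 → x ≠ 1 → 2 ≤ fix Ω x) {N c : ℕ}
    (hN : u * (Nat.card Ω - 1) = (fix Ω z - 1) * N) (hNodd : N % 2 = 1)
    (hsmall : ∀ x : G, x ∈ CL G a z → x * v = v * x →
      (x * x = 1 ∨ x * x = z ∨ x * x = v ∨ x * x = z * v) → x = 1 ∨ x = z ∨ x = v ∨ x = z * v)
    {w₀ : G} (hsq : ∀ x : G, x ∈ CL G a z → x * x = z → x = w₀ ∨ x = z * w₀)
    (h8 : 8 ∣ Nat.card ↥(CL G a z))
    (hc : ∀ x : G, x ∈ CL G a z → x * x = 1 → x ≠ 1 → x ≠ z →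
      Nat.card ↥(CL G a z ⊓ Subgroup.centralizer ({x} : Set G)) = c) :
    ∃ (d : ℕ) (δ : ℤ), 0 < d ∧ (δ = 1 ∨ δ = -1) ∧ (d : ℤ) ≠ δ ∧
      (N : ℤ) * c ^ 2 * ((d : ℤ) - δ) ^ 2 = 8 * d * ((d : ℤ) + δ) * (Nat.card ↥(CL G a z) : ℤ) ^ 2 := by
  classical
  haveI := Fact.mk Nat.prime_two
  have hzCL : z ∈ CL G a z := (k.mem_CL_inf (Or.inr (Or.inl rfl))).1
  have hvCL : v ∈ CL G a z := (k.mem_CL_inf (Or.inr (Or.inr (Or.inl rfl)))).1
  obtain ⟨E, hE, hzE, hvE, -⟩ := CfsgLib.TwoPointStab.exists_klein (s := (⟨z, hzCL⟩ : ↥(CL G a z))) (w := ⟨v, hvCL⟩)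
    (Subtype.ext k.hz.sq) (Subtype.ext k.hv.sq) (fun e => k.hz.ne_one (congrArg Subtype.val e))
    (fun e => k.hv.ne_one (congrArg Subtype.val e)) (fun e => k.ne (congrArg Subtype.val e)) (Subtype.ext k.comm)
  obtain ⟨S₀, hES⟩ := (IsPGroup.of_card (p := 2) (n := 2) (G := ↥E) (by rw [hE.card_four]; norm_num)).exists_le_sylow
  set H := ↥(CL G a z)
  have hSp : IsPGroup 2 ↥(S₀ : Subgroup H) := S₀.2
  have h8S : 8 ≤ Nat.card ↥(S₀ : Subgroup H) := Nat.le_of_dvd Nat.card_pos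
    (S₀.pow_dvd_card_of_pow_dvd_card (n := 3) h8)
  have hmemV : ∀ x : ↥(S₀ : Subgroup H), ((x : H) : G) * v = v * ((x : H) : G) →
      ((x : H) : G) = 1 ∨ ((x : H) : G) = z ∨ ((x : H) : G) = v ∨ ((x : H) : G) = z * v := fun x hx => by
    obtain ⟨j, hj⟩ := hSp x
    refine not_eight k hsmall (x : H).2 hx j ?_
    have := congrArg (fun y : ↥(S₀ : Subgroup H) => ((y : H) : G)) hj
    simpa using this
  have hvS : (⟨v, hvCL⟩ : H) ∈ (S₀ : Subgroup H) := hES hvE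
  have hzS : (⟨z, hzCL⟩ : H) ∈ (S₀ : Subgroup H) := hES hzE
  set vS : ↥(S₀ : Subgroup H) := ⟨⟨v, hvCL⟩, hvS⟩ with hvSdef
  set zS : ↥(S₀ : Subgroup H) := ⟨⟨z, hzCL⟩, hzS⟩ with hzSdef
  have hcoe : ∀ {x y : ↥(S₀ : Subgroup H)}, ((x : H) : G) = ((y : H) : G) → x = y := fun e =>
    Subtype.ext (Subtype.ext e)
  obtain ⟨w₁, hw₁⟩ : ∃ w₁ : ↥(S₀ : Subgroup H), ∀ x : ↥(S₀ : Subgroup H), x * x = zS → x = w₁ ∨ x = zS * w₁ := by
    by_cases hw : ∃ x₀ : ↥(S₀ : Subgroup H), x₀ * x₀ = zS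
    · obtain ⟨x₀, hx₀⟩ := hw
      refine ⟨x₀, fun x hx => ?_⟩
      have e₀ := hsq _ (x₀ : H).2 (congrArg (fun y : ↥(S₀ : Subgroup H) => ((y : H) : G)) hx₀)
      have e := hsq _ (x : H).2 (congrArg (fun y : ↥(S₀ : Subgroup H) => ((y : H) : G)) hx)
      rcases e with e | e <;> rcases e₀ with e₀ | e₀
      · exact Or.inl (hcoe (e.trans e₀.symm))
      · refine Or.inr (hcoe ?_)
        show ((x : H) : G) = z * ((x₀ : H) : G)
        rw [e, e₀, ← mul_assoc, k.hz.sq, one_mul]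
      · refine Or.inr (hcoe ?_)
        show ((x : H) : G) = z * ((x₀ : H) : G)
        rw [e, e₀]
      · exact Or.inl (hcoe (e.trans e₀.symm))
    · exact ⟨1, fun x hx => absurd ⟨x, hx⟩ hw⟩
  obtain ⟨m, hm, σ, τ, hσo, hττ, hrel, hcard, hcases, hzσ, hτz, hστz, hστ2, hτ1, hστ1⟩ :=
    dihedral_of_small_centralizer hSp (z := zS) (v := vS) (w := w₁) (hcoe k.hv.sq)
      (fun e => k.hv.ne_one (congrArg (fun y : ↥(S₀ : Subgroup H) => ((y : H) : G)) e)) (hcoe k.hz.sq)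
      (fun e => k.hz.ne_one (congrArg (fun y : ↥(S₀ : Subgroup H) => ((y : H) : G)) e))
      (fun e => k.ne (congrArg (fun y : ↥(S₀ : Subgroup H) => ((y : H) : G)) e))
      (fun x => hcoe (mem_CL.mp (x : H).2).2)
      (fun x hx => by
        rcases hmemV x (congrArg (fun y : ↥(S₀ : Subgroup H) => ((y : H) : G)) hx) with e | e | e | e
        · exact Or.inl (hcoe e)
        · exact Or.inr (Or.inl (hcoe e))
        · exact Or.inr (Or.inr (Or.inl (hcoe e)))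
        · exact Or.inr (Or.inr (Or.inr (hcoe e)))) h8S hw₁
  -- inside the point stabiliser
  set L := ↥(stabilizer G a)
  let ι : H →* L := Subgroup.inclusion inf_le_left
  have hι : Function.Injective ι := Subgroup.inclusion_injective _
  let T : Subgroup L := (S₀ : Subgroup H).map ι
  have hTcard : Nat.card ↥T = 4 * m := by rw [Subgroup.card_map_of_injective hι, hcard]
  have hTp : IsPGroup 2 ↥T := S₀.2.map ι
  have hL : Nat.card L = Nat.card H * N := by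
    rw [h.card_stab, h.card_cen_stab k, show (Nat.card Ω - 1) * (4 * u) = 4 * (u * (Nat.card Ω - 1)) by ring, hN]
    ring
  have hidx : T.index = (S₀ : Subgroup H).index * N := by
    refine Nat.eq_of_mul_eq_mul_right (show 0 < 4 * m from hTcard ▸ Nat.card_pos) ?_
    calc T.index * (4 * m) = Nat.card L := by rw [← hTcard, Subgroup.index_mul_card]
      _ = (S₀ : Subgroup H).index * N * (4 * m) := by
        rw [hL, ← (S₀ : Subgroup H).index_mul_card, hcard]; ring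
  have hTodd : ¬ 2 ∣ T.index := by
    rw [hidx, Nat.prime_two.dvd_mul]
    have := S₀.not_dvd_index
    omega
  let P : Sylow 2 L := hTp.toSylow hTodd
  let ι₂ : ↥(S₀ : Subgroup H) →* L := ι.comp (S₀ : Subgroup H).subtype
  have hι₂ : Function.Injective ι₂ := hι.comp Subtype.val_injective
  have hmemP : ∀ x : ↥(S₀ : Subgroup H), ι₂ x ∈ (P : Subgroup L) := fun x => ⟨x, x.2, rfl⟩
  have D : DihBlock.Data P (ι₂ σ) (ι₂ τ) m :=
    { pow_two := hm
      memσ := hmemP σ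
      memτ := hmemP τ
      ordσ := by rw [orderOf_injective ι₂ hι₂, hσo]
      sqτ := by rw [← map_mul, hττ, map_one]
      rel := by rw [← map_inv, ← map_mul, ← map_mul, hrel, map_inv]
      card := hTcard
      cases := fun x hx => by
        obtain ⟨y, hy, rfl⟩ := hx
        obtain ⟨i, e | e⟩ := hcases ⟨y, hy⟩
        · exact ⟨i, Or.inl (show ι₂ ⟨y, hy⟩ = _ by rw [e, map_pow])⟩
        · exact ⟨i, Or.inr (show ι₂ ⟨y, hy⟩ = _ by rw [e, map_mul, map_pow])⟩ }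
  have hzm : (((ι₂ σ) ^ m : L) : G) = z := by rw [← map_pow, hzσ]; rfl
  have hone : ∀ s : L, orderOf s = 2 → IsConj (⟨z, mem_stabilizer_iff.mpr k.hz.fa⟩ : L) s := fun s hs => by
    have hs2 : (s : G) * s = 1 := by rw [← Subgroup.coe_mul, ← pow_two, ← hs, pow_orderOf_eq_one]; rfl
    have hs1 : (s : G) ≠ 1 := fun e => by rw [show s = 1 from Subtype.ext e, orderOf_one] at hs; omega
    obtain ⟨g, ga, hg⟩ := h.conj_stab k.hz hs2 hs1 (mem_stabilizer_iff.mp s.2) (hall _ hs2 hs1)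
    exact isConj_iff.mpr ⟨⟨g, mem_stabilizer_iff.mpr ga⟩, Subtype.ext hg⟩
  have hcent : ∀ t : ↥(S₀ : Subgroup H), t * t = 1 → t ≠ 1 → t ≠ zS →
      Nat.card ↥(Subgroup.centralizer ({(ι₂ σ) ^ m, ι₂ t} : Set L)) = c := fun t ht ht1 htz => by
    rw [← hc ((t : H) : G) (t : H).2 (congrArg (fun y : ↥(S₀ : Subgroup H) => ((y : H) : G)) ht)
      (fun e => ht1 (hcoe e)) (fun e => htz (hcoe e))]
    refine Nat.card_congr
      { toFun := fun x => ⟨(x : L), ⟨x.1.2, mem_cen.mpr ?_⟩, mem_cen.mpr ?_⟩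
        invFun := fun x => ⟨⟨x, x.2.1.1⟩, Subgroup.mem_centralizer_iff.mpr ?_⟩
        left_inv := fun _ => rfl
        right_inv := fun _ => rfl }
    · have e := congrArg Subtype.val (Subgroup.mem_centralizer_iff.mp x.2 _ (Set.mem_insert _ _))
      rw [Subgroup.coe_mul, Subgroup.coe_mul, hzm] at e
      exact e.symm
    · exact (congrArg Subtype.val (Subgroup.mem_centralizer_iff.mp x.2 _
        (Set.mem_insert_of_mem _ (Set.mem_singleton _)))).symm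
    · rintro y (rfl | rfl)
      · refine Subtype.ext ?_
        rw [Subgroup.coe_mul, Subgroup.coe_mul, hzm]
        exact (mem_CL.mp x.2.1).2.symm
      · exact Subtype.ext (mem_cen.mp x.2.2).symm
  have hcz : Nat.card ↥(Subgroup.centralizer ({(ι₂ σ) ^ m} : Set L)) = Nat.card H := Nat.card_congr
    { toFun := fun x => ⟨(x : L), x.1.2, mem_cen.mpr (by
        have e := congrArg Subtype.val (mem_cen.mp x.2)
        rw [Subgroup.coe_mul, Subgroup.coe_mul, hzm] at e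
        exact e)⟩
      invFun := fun x => ⟨⟨x, x.2.1⟩, mem_cen.mpr (Subtype.ext (by
        rw [Subgroup.coe_mul, Subgroup.coe_mul, hzm]
        exact (mem_CL.mp x.2).2))⟩
      left_inv := fun _ => rfl
      right_inv := fun _ => rfl }
  have hres := dihedral_shape P D (fun s t hs ht => (hone s hs).symm.trans (hone t ht)) (c := c) (N := N)
    (hcent τ hττ hτ1 hτz) (by rw [← map_mul]; exact hcent (σ * τ) hστ2 hστ1 hστz) (by rw [hcz, hL])
  rw [hcz] at hres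
  exact hres

end CfsgLib.TwoPointStab
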