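import Cfsg.Agent.Lib.TwoPointStab.Common
import Cfsg.Agent.Lib.M11Unique.Recognize
import Cfsg.Agent.Lib.ThompsonWielandt.CubicOrbit
import Cfsg.Agent.Lib.Classical.A8Subgroups
import Cfsg.Agent.S3035
import Cfsg.Agent.S0984

/-!
# Recognition in degrees 6, 7, 12 and 15
-/

set_option autoImplicit false
set_option linter.unusedSectionVars false
set_option linter.style.haveILetI false

namespace CfsgLib.TwoPointStab

open MulAction

/-- A faithful permutation group of index two in the symmetric group is the alternating group. -/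
theorem alt_of_card {G : Type*} [Group G] [Finite G] {Ω : Type*} [MulAction G Ω] [Finite Ω]
    (hf : ∀ g : G, (∀ p : Ω, g • p = p) → g = 1) {n : ℕ} (hn : Nat.card Ω = n)
    (hG : Nat.card G * 2 = n.factorial) : Nonempty (G ≃* ↥(alternatingGroup (Fin n))) := by
  classical
  letI := Fintype.ofFinite Ω
  let φ := MulAction.toPermHom G Ω
  have hinj : Function.Injective φ := (injective_iff_map_eq_one φ).mpr fun g hg => hf g fun p => by
    exact congrArg (fun σ : Equiv.Perm Ω => σ p) hg
  have hc : Nat.card ↥φ.range = Nat.card G := Nat.card_congr (MonoidHom.ofInjective hinj).toEquiv.symm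
  have hidx : φ.range.index = 2 := by
    have e := φ.range.index_mul_card
    rw [hc, Nat.card_perm, hn, ← hG, mul_comm (Nat.card G)] at e
    exact Nat.eq_of_mul_eq_mul_right Nat.card_pos e
  have e2 := Equiv.Perm.eq_alternatingGroup_of_index_eq_two hidx
  exact ⟨((MonoidHom.ofInjective hinj).trans (MulEquiv.subgroupCongr e2)).trans
    (Equiv.altCongrHom (Fintype.equivFinOfCardEq (by rw [← Nat.card_eq_fintype_card, hn])))⟩

variable {G : Type*} [Group G] [Finite G] {Ω : Type*} [MulAction G Ω] [Finite Ω] {a b : Ω} {u w : ℕ} {z v : G}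
variable (h : Conf G Ω a b u w)
include h

/-- In degree twelve the group is the Mathieu group. -/
theorem Conf.twelve (hu : u = 15) (hn : Nat.card Ω = 12)
    (hK : IsSimpleGroup ↥(stabilizer G a ⊓ stabilizer G b))
    (hnr : ∀ N : Subgroup G, N.Normal → MulAction.IsPretransitive ↥N Ω → (∀ x : Ω, stabilizer ↥N x = ⊥) → False) :
    Cfsg.Spor.IsoM11 G := by
  classical
  haveI : Fact (Nat.Prime 11) := ⟨by norm_num⟩
  have hG : Nat.card G = 7920 := by rw [h.card_group, hn, hu]
  haveI : Nontrivial G := Finite.one_lt_card_iff_nontrivial.mp (by rw [hG]; norm_num)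
  haveI : IsSimpleGroup G := by
    refine ⟨fun N hN => (eq_or_ne N ⊥).imp_right fun hne => ?_⟩
    haveI := hN
    set K := stabilizer G a ⊓ stabilizer G b with hKdef
    set M := N ⊓ stabilizer G a with hM
    have hNcard := h.normal_card (N := N) hne
    rw [← hM] at hNcard
    -- orbits of `M` on the points other than `a`
    have hMn : ∀ l ∈ stabilizer G a, ∀ m ∈ M, l * m * l⁻¹ ∈ M := fun l hl m hm =>
      Subgroup.mem_inf.mpr ⟨hN.conj_mem m hm.1 l,
        (stabilizer G a).mul_mem ((stabilizer G a).mul_mem hl hm.2) ((stabilizer G a).inv_mem hl)⟩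
    have horb : Nat.card ↥M = Nat.card {p : Ω // ∃ g ∈ M, g • b = p} * Nat.card ↥(N ⊓ K) := by
      refine card_orbit_stab M (N ⊓ K) b _ (fun p => Iff.rfl) fun g => ?_
      rw [hM, hKdef]
      simp only [Subgroup.mem_inf, mem_stabilizer_iff, and_assoc]
    have hKN : N ⊓ K = ⊥ ∨ N ⊓ K = K := by
      haveI : (N.subgroupOf K).Normal := hN.subgroupOf K
      rcases IsSimpleGroup.eq_bot_or_eq_top_of_normal (N.subgroupOf K) inferInstance with e | e
      · exact Or.inl (Subgroup.subgroupOf_eq_bot.mp e).eq_bot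
      · exact Or.inr (inf_eq_right.mpr (Subgroup.subgroupOf_eq_top.mp e))
    -- `M` is transitive or fixes every point
    have hsize : Nat.card {p : Ω // ∃ g ∈ M, g • b = p} = 1 ∨ Nat.card {p : Ω // ∃ g ∈ M, g • b = p} = 11 := by
      by_cases hfix : ∀ g ∈ M, g • b = b
      · left
        exact Nat.card_eq_one_iff_unique.mpr ⟨⟨fun ⟨p, g, hg, hp⟩ ⟨q, g', hg', hq⟩ => Subtype.ext (by
          show p = q
          rw [← hp, ← hq, hfix g hg, hfix g' hg'])⟩, ⟨⟨b, 1, one_mem _, one_smul _ _⟩⟩⟩
      · right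
        set S := {p : Ω // ∃ g ∈ M, g • b = p}
        -- all orbits on the other points are translates of this one
        have hdiv : Nat.card S ∣ 11 := by
          have hS : Nat.card S = (stabilizer ↥M b).index := by
            rw [index_stabilizer]
            exact Nat.card_congr (Equiv.subtypeEquivRight fun p =>
              ⟨fun ⟨g, hg, e⟩ => ⟨⟨g, hg⟩, e⟩, fun ⟨g, e⟩ => ⟨g, g.2, e⟩⟩)
          let R : Setoid {p : Ω // True ∧ p ≠ a} :=
            { r := fun p q => ∃ g ∈ M, g • (p : Ω) = q
              iseqv := ⟨fun p => ⟨1, one_mem _, one_smul _ _⟩,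
                fun ⟨g, hg, e⟩ => ⟨g⁻¹, inv_mem hg, by rw [← e, inv_smul_smul]⟩,
                fun ⟨g, hg, e⟩ ⟨g', hg', e'⟩ => ⟨g' * g, mul_mem hg' hg, by rw [mul_smul, e, e']⟩⟩ }
          haveI : Finite {p : Ω // True ∧ p ≠ a} := inferInstance
          letI := Fintype.ofFinite (Quotient R)
          have hfib : ∀ x : Quotient R, Nat.card {p // Quotient.mk R p = x} = Nat.card S := by
            intro x
            induction x using Quotient.inductionOn with
            | _ p =>
              obtain ⟨l, la, lb⟩ := h.pairs a b a p h.ne p.2.2.symm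
              refine (Nat.card_congr (Equiv.ofBijective (fun q : S => (⟨⟨l • (q : Ω), trivial, ?_⟩, ?_⟩ :
                {r // Quotient.mk R r = Quotient.mk R p})) ⟨?_, ?_⟩)).symm
              · obtain ⟨g, hg, e⟩ := q.2
                intro hla
                refine h.ne (smul_left_cancel g ((mem_stabilizer_iff.mp hg.2).trans ?_))
                rw [e]
                exact smul_left_cancel l (la.trans hla.symm)
              · obtain ⟨g, hg, e⟩ := q.2
                refine Quotient.sound ⟨l * g⁻¹ * l⁻¹, hMn l la _ (inv_mem hg), ?_⟩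
                show (l * g⁻¹ * l⁻¹) • l • (q : Ω) = p
                rw [smul_conj_smul, ← e, inv_smul_smul, lb]
              · exact fun q q' e => Subtype.ext (smul_left_cancel l (congrArg (fun r => (r.1 : Ω)) e :))
              · rintro ⟨r, hr⟩
                obtain ⟨g, hg, e⟩ := Quotient.exact hr.symm
                refine ⟨⟨l⁻¹ • (r : Ω), l⁻¹ * g * l, ?_, ?_⟩, Subtype.ext (Subtype.ext (smul_inv_smul l _))⟩
                · have := hMn l⁻¹ (inv_mem la) g hg
                  rwa [inv_inv] at this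
                · rw [mul_smul, mul_smul, lb, e]
          have e := Nat.card_congr (Equiv.sigmaFiberEquiv (Quotient.mk R)).symm
          rw [Nat.card_sigma, Finset.sum_congr rfl (fun x _ => hfib x), Finset.sum_const, smul_eq_mul,
            card_ne (fun _ : Ω => True) (p₀ := a) trivial,
            Nat.card_congr (Equiv.subtypeUnivEquiv fun _ => trivial), hn] at e
          exact Dvd.intro_left _ e.symm
        rcases (Nat.dvd_prime (Fact.out : Nat.Prime 11)).mp hdiv with e | e
        · exfalso
          apply hfix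
          intro g hg
          haveI := (Nat.card_eq_one_iff_unique.mp e).1
          exact congrArg Subtype.val (Subsingleton.elim (⟨g • b, g, hg, rfl⟩ : S) ⟨b, 1, one_mem _, one_smul _ _⟩)
        · exact e
    rcases hKN with e | e
    · rw [e, Subgroup.card_bot, mul_one] at horb
      rcases hsize with e1 | e11
      · exfalso
        rw [e1] at horb
        have hMbot : M = ⊥ := Subgroup.eq_bot_of_card_eq _ horb
        refine hnr N hN ⟨fun p q => ?_⟩ fun x => (Subgroup.eq_bot_iff_forall _).mpr fun g hg => ?_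
        · obtain ⟨m, hm, e'⟩ := h.normal_move (N := N) hne p q
          exact ⟨⟨m, hm⟩, e'⟩
        · obtain ⟨l, hl⟩ := h.move (p := x)
          have : l⁻¹ * (g : G) * l ∈ M := ⟨by
            have := hN.conj_mem _ g.2 l⁻¹
            rwa [inv_inv] at this, mem_stabilizer_iff.mpr (by
              rw [mul_smul, mul_smul, hl, show (g : G) • x = x from hg, inv_smul_eq_iff, hl])⟩
          rw [hMbot, Subgroup.mem_bot] at this
          exact Subtype.ext (show (g : G) = 1 by rw [show (g : G) = l * (l⁻¹ * g * l) * l⁻¹ by group, this]; group)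
      · -- `K` would centralise a group of order eleven moving `b`
        exfalso
        rw [e11] at horb
        obtain ⟨g, hg⟩ := exists_prime_orderOf_dvd_card' (G := ↥M) 11 (dvd_of_eq horb.symm)
        haveI : IsCyclic ↥M := isCyclic_of_prime_card horb
        have hKN' : K ≤ Subgroup.normalizer (M : Set G) := fun x hx => by
          rw [Subgroup.mem_normalizer_iff]
          refine fun y => ⟨fun hy => hMn x hx.1 y hy, fun hy => ?_⟩
          have := hMn x⁻¹ (inv_mem hx.1) _ hy
          rwa [inv_inv, show x⁻¹ * (x * y * x⁻¹) * x = y by group] at this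
        let ψ : ↥K →* MulAut ↥M := M.normalizerMonoidHom.comp (Subgroup.inclusion hKN')
        have hker : ψ.ker = ⊤ := by
          rcases IsSimpleGroup.eq_bot_or_eq_top_of_normal ψ.ker inferInstance with e' | e'
          · have hd := Subgroup.card_dvd_of_injective ψ ((MonoidHom.ker_eq_bot_iff ψ).mp e')
            rw [h.card, hu, IsCyclic.card_mulAut, horb, Nat.totient_prime (Fact.out : Nat.Prime 11)] at hd
            norm_num at hd
          · exact e'
        have hcomm : ∀ x ∈ K, ∀ m ∈ M, x * m = m * x := fun x hx m hm => by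
          have hx' : (⟨x, hx⟩ : ↥K) ∈ ψ.ker := hker ▸ trivial
          rw [MonoidHom.mem_ker] at hx'
          exact mul_inv_eq_iff_eq_mul.mp (congrArg Subtype.val (congrArg (fun f : MulAut ↥M => f ⟨m, hm⟩) hx'))
        -- a nontrivial element of `K` then fixes everything
        obtain ⟨⟨x, hx⟩, hx1⟩ : ∃ x : ↥K, x ≠ 1 := exists_ne 1
        refine hx1 (Subtype.ext (h.faithful x fun p => ?_))
        by_cases hpa : p = a
        · rw [hpa]; exact mem_stabilizer_iff.mp hx.1
        · obtain ⟨⟨m, hm⟩, hmp⟩ : ∃ m : ↥M, (m : G) • b = p := by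
            have hall : (fun q : {q : Ω // ∃ g ∈ M, g • b = q} => (⟨q, trivial, by
                obtain ⟨m, hm, e'⟩ := q.2
                intro hqa
                exact h.ne (smul_left_cancel m ((mem_stabilizer_iff.mp hm.2).trans (e'.trans hqa).symm))⟩ :
                  {q : Ω // True ∧ q ≠ a})).Bijective := by
              refine (Nat.bijective_iff_injective_and_card _).mpr
                ⟨fun q q' e' => Subtype.ext (congrArg (fun r => (r.1 : Ω)) e' :), ?_⟩
              rw [e11, card_ne (fun _ : Ω => True) (p₀ := a) trivial,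
                Nat.card_congr (Equiv.subtypeUnivEquiv fun _ => trivial), hn]
            obtain ⟨⟨q, m, hm, e'⟩, hq⟩ := hall.2 ⟨p, trivial, hpa⟩
            exact ⟨⟨m, hm⟩, e'.trans (congrArg (fun r => (r.1 : Ω)) hq :)⟩
          rw [← hmp, ← mul_smul, hcomm x hx m hm, mul_smul, mem_stabilizer_iff.mp hx.2]
    · rw [e, h.card, hu] at horb
      rcases hsize with e1 | e11
      · exfalso
        -- then `M` fixes every point
        obtain ⟨⟨x, hx⟩, hx1⟩ : ∃ x : ↥K, x ≠ 1 := exists_ne 1
        refine hx1 (Subtype.ext (h.faithful x fun p => ?_))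
        haveI := (Nat.card_eq_one_iff_unique.mp e1).1
        have hMb : ∀ g ∈ M, g • b = b := fun g hg => congrArg Subtype.val
          (Subsingleton.elim (⟨g • b, g, hg, rfl⟩ : {p : Ω // ∃ g ∈ M, g • b = p}) ⟨b, 1, one_mem _, one_smul _ _⟩)
        have hxM : x ∈ M := ⟨(e.symm ▸ hx : x ∈ N ⊓ K).1, hx.1⟩
        by_cases hpa : p = a
        · rw [hpa]; exact mem_stabilizer_iff.mp hx.1
        · obtain ⟨l, la, lb⟩ := h.pairs a b a p h.ne (Ne.symm hpa)
          have := hMb _ (hMn l⁻¹ (inv_mem (mem_stabilizer_iff.mpr la)) x hxM)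
          rwa [inv_inv, mul_smul, mul_smul, lb, inv_smul_eq_iff, lb] at this
      · rw [e11] at horb
        exact Subgroup.eq_top_of_card_eq _ (by rw [hNcard, horb, hn, hG])
  exact CfsgLib.M11Unique.nonempty_equiv_spor hG

/-- In degree fifteen the group is the alternating group of degree seven. -/
theorem Conf.fifteen (k : KleinV a b z v) (hu : u = 3) (hn : Nat.card Ω = 15) (hf : fix Ω z = 3)
    (hy : ∃ y' : G, y' ∈ CL G a z ∧ y' * y' = 1 ∧ y' * v * y' = z * v) :
    Nonempty (G ≃* ↥(alternatingGroup (Fin 7))) := by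
  classical
  obtain ⟨y, hyCL, hy2, hyv⟩ := hy
  have hG : Nat.card G = 2520 := by rw [h.card_group, hn, hu]
  have hL : Nat.card ↥(stabilizer G a) = 168 := by rw [h.card_stab, hn, hu]
  set zL : ↥(stabilizer G a) := ⟨z, mem_stabilizer_iff.mpr k.hz.fa⟩ with hzL
  set vL : ↥(stabilizer G a) := ⟨v, mem_stabilizer_iff.mpr k.hv.fa⟩ with hvL
  set yL : ↥(stabilizer G a) := ⟨y, hyCL.1⟩ with hyL
  have hzo : orderOf zL = 2 := by
    rw [← Subgroup.orderOf_coe]
    exact orderOf_eq_prime (by rw [pow_two]; exact k.hz.sq) k.hz.ne_one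
  obtain ⟨hya, hyz⟩ := mem_CL.mp hyCL
  have hyv' : v * y = y * (z * v) := by
    rw [← hyv, ← mul_assoc y, ← mul_assoc y, hy2, one_mul]
  -- the centralizer of `z` in the point stabiliser is dihedral
  set C := Subgroup.centralizer ({zL} : Set ↥(stabilizer G a)) with hC
  have hC8 : Nat.card ↥C = 8 := by
    have e : Nat.card ↥C = Nat.card ↥(CL G a z) := Nat.card_congr
      { toFun := fun x => ⟨(x : ↥(stabilizer G a)), x.1.2, mem_cen.mpr (congrArg Subtype.val (mem_cen.mp x.2) :)⟩
        invFun := fun x => ⟨⟨x, x.2.1⟩, mem_cen.mpr (Subtype.ext (mem_CL.mp x.2).2)⟩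
        left_inv := fun _ => rfl
        right_inv := fun _ => rfl }
    rw [e, h.card_cen_stab k, hf]
  set s : ↥C := ⟨vL * yL, mem_cen.mpr (Subtype.ext (Commute.mul_left (show Commute v z from k.comm) hyz).eq)⟩
  set t : ↥C := ⟨yL, mem_cen.mpr (Subtype.ext hyz)⟩
  have hs2 : (v * y) ^ 2 = z := by
    rw [pow_two, show v * y * (v * y) = v * (y * v * y) by group, hyv, ← mul_assoc, k.comm, mul_assoc, k.hv.sq,
      mul_one]
  have hso : orderOf s = 2 ^ (1 + 1) := by
    refine orderOf_eq_prime_pow ?_ ?_
    · intro e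
      have e' := congrArg (fun x : ↥C => ((x : ↥(stabilizer G a)) : G)) e
      exact k.hz.ne_one (hs2.symm.trans (show (v * y) ^ 2 = 1 from
        (show ((v * y : G)) ^ (2 ^ 1) = 1 from e')))
    · refine Subtype.ext (Subtype.ext ?_)
      show (v * y) ^ 2 ^ (1 + 1) = 1
      rw [show (2 ^ (1 + 1) : ℕ) = 2 * 2 by norm_num, pow_mul, hs2, pow_two, k.hz.sq]
  have hts : t ∉ Subgroup.zpowers s := by
    rintro ⟨i, hi⟩
    have hc : t * s = s * t := by
      simp only at hi
      rw [← hi]; exact ((Commute.refl s).zpow_left i).eq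
    have hc' : y * (v * y) = v * y * y := congrArg (fun x : ↥C => ((x : ↥(stabilizer G a)) : G)) hc
    rw [← mul_assoc, hyv, mul_assoc v y y, hy2, mul_one] at hc'
    exact k.hz.ne_one (mul_eq_right.mp hc')
  have hts' : t * s * t⁻¹ = s⁻¹ := by
    refine Subtype.ext (Subtype.ext ?_)
    show y * (v * y) * y⁻¹ = (v * y)⁻¹
    rw [← mul_assoc, mul_inv_cancel_right, mul_inv_rev, inv_eq_of_mul_eq_one_right k.hv.sq,
      inv_eq_of_mul_eq_one_right hy2]
  haveI : NeZero 4 := ⟨by norm_num⟩
  obtain ⟨eD⟩ := CfsgLib.ThompsonWielandt.equiv_dihedralGroup (n := 4) (by rw [hC8]) hso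
    (Subtype.ext (Subtype.ext hy2)) hts hts'
  -- the two involutions `z` and `v` are conjugate in the stabiliser
  obtain ⟨g, ga, -, hg⟩ := h.conj z v k.hz k.hv
  set gL : ↥(stabilizer G a) := ⟨g, mem_stabilizer_iff.mpr ga⟩
  have hgL : gL * zL = vL * gL := Subtype.ext hg
  haveI hLsimp : IsSimpleGroup ↥(stabilizer G a) := by
    rcases Cfsg.Agent.S3035.result zL hzo ⟨eD⟩ with htop | ⟨⟨e⟩⟩ | ⟨⟨e⟩⟩ | ⟨⟨e⟩⟩ | ⟨⟨e⟩⟩
    · exfalso
      haveI : (Cfsg.oddCore ↥(stabilizer G a)).Normal := Transfer.pPrimeCore_normal 2 ↥(stabilizer G a)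
      have hmem : gL ∈ Subgroup.centralizer ({zL} : Set ↥(stabilizer G a)) ⊔ Cfsg.oddCore ↥(stabilizer G a) := by rw [htop]; trivial
      obtain ⟨c, hc, o, ho, hco⟩ := Subgroup.mem_sup_of_normal_right.mp hmem
      rw [← hco] at hgL
      have hcz := mem_cen.mp hc
      have h1 : zL⁻¹ * (o * zL * o⁻¹) ∈ Cfsg.oddCore ↥(stabilizer G a) := by
        rw [show zL⁻¹ * (o * zL * o⁻¹) = (zL⁻¹ * o * zL⁻¹⁻¹) * o⁻¹ by group]
        exact mul_mem (Subgroup.Normal.conj_mem inferInstance o ho zL⁻¹) (inv_mem ho)
      have h2 : o * zL * o⁻¹ = c⁻¹ * vL * c := by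
        calc o * zL * o⁻¹ = c⁻¹ * (c * o * zL) * o⁻¹ := by group
          _ = c⁻¹ * (vL * (c * o)) * o⁻¹ := by rw [hgL]
          _ = c⁻¹ * vL * c := by group
      rw [h2] at h1
      set r := c⁻¹ * vL * c with hr
      have hrz : r * zL = zL * r := by
        have hvz : vL * zL = zL * vL := Subtype.ext k.comm
        exact (Commute.mul_left (Commute.mul_left (Commute.inv_left hcz) hvz) hcz).eq
      have hr2 : r * r = 1 := by
        have : vL * vL = 1 := Subtype.ext k.hv.sq
        rw [hr, show c⁻¹ * vL * c * (c⁻¹ * vL * c) = c⁻¹ * (vL * vL) * c by group, this]; group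
      have hz2 : zL * zL = 1 := Subtype.ext k.hz.sq
      have hzi : zL⁻¹ = zL := inv_eq_of_mul_eq_one_right hz2
      rw [hzi] at h1
      have hsq : zL * r * (zL * r) = 1 := by
        rw [show zL * r * (zL * r) = zL * (r * zL) * r by group, hrz,
          show zL * (zL * r) * r = (zL * zL) * (r * r) by group, hz2, hr2, one_mul]
      by_cases e : zL * r = 1
      · refine k.ne ?_
        have hrz' : r = zL := by
          rw [← one_mul r, ← hz2, mul_assoc, e, mul_one]
        have : vL = zL := by
          rw [hr] at hrz'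
          calc vL = c * (c⁻¹ * vL * c) * c⁻¹ := by group
            _ = c * zL * c⁻¹ := by rw [hrz']
            _ = zL := by rw [hcz]; group
        exact congrArg Subtype.val this
      · have hord : orderOf (zL * r) = 2 := orderOf_eq_prime (by rw [pow_two, hsq]) e
        have hd := orderOf_dvd_natCard (⟨zL * r, h1⟩ : ↥(Cfsg.oddCore ↥(stabilizer G a)))
        rw [← Subgroup.orderOf_coe, hord] at hd
        have hodd : Odd (Nat.card ↥(Cfsg.pPrimeCore 2 ↥(stabilizer G a))) := ZStar.odd_card_core
        exact (Nat.not_even_iff_odd.mpr hodd) (even_iff_two_dvd.mpr hd)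
    · have := Nat.card_congr e.toEquiv
      rw [hL, Nat.card_perm, Nat.card_fin] at this
      simp [Nat.factorial] at this
    · have := Nat.card_congr e.toEquiv
      rw [hL, Nat.card_perm, Nat.card_fin] at this
      simp [Nat.factorial] at this
    · obtain ⟨hs, -⟩ := CfsgLib.AEightSub.gl_three_two
      haveI := hs
      have hdet : ∀ g : GL (Fin 3) (ZMod 2), (g : Matrix (Fin 3) (Fin 3) (ZMod 2)).det = 1 := fun g => by
        have h' : ∀ x : ZMod 2, x ≠ 0 → x = 1 := by decide
        exact h' _ (Matrix.GeneralLinearGroup.det g).ne_zero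
      let toG : Matrix.SpecialLinearGroup (Fin 3) (ZMod 2) →* GL (Fin 3) (ZMod 2) :=
        Matrix.SpecialLinearGroup.toGL
      have hbij : Function.Bijective toG := ⟨fun x y e => Subtype.ext (congrArg Units.val e),
        fun g => ⟨⟨g, hdet g⟩, Units.ext rfl⟩⟩
      exact (e.trans (MulEquiv.ofBijective toG hbij)).isSimpleGroup
    · have := Nat.card_congr e.toEquiv
      rw [hL, nat_card_alternatingGroup, Nat.card_fin] at this
      simp [Nat.factorial] at this
  haveI : Nontrivial G := Finite.one_lt_card_iff_nontrivial.mp (by rw [hG]; norm_num)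
  haveI : IsSimpleGroup G := by
    refine ⟨fun N hN => (eq_or_ne N ⊥).imp_right fun hne => ?_⟩
    haveI := hN
    have hNcard := h.normal_card (N := N) hne
    haveI : (N.subgroupOf (stabilizer G a)).Normal := hN.subgroupOf _
    have hsub : Nat.card ↥(N ⊓ stabilizer G a) = Nat.card ↥(N.subgroupOf (stabilizer G a)) := by
      rw [← Subgroup.inf_subgroupOf_right N (stabilizer G a),
        Nat.card_congr (Subgroup.subgroupOfEquivOfLe (inf_le_right : N ⊓ stabilizer G a ≤ stabilizer G a)).toEquiv]
    rcases IsSimpleGroup.eq_bot_or_eq_top_of_normal (N.subgroupOf (stabilizer G a)) inferInstance with e | e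
    · exfalso
      rw [hsub, e, Subgroup.card_bot, mul_one, hn] at hNcard
      haveI : Fact (Nat.Prime 3) := ⟨by norm_num⟩
      haveI : Fact (Nat.Prime 5) := ⟨by norm_num⟩
      obtain ⟨r, hr⟩ := exists_prime_orderOf_dvd_card' (G := ↥N) 3 (by rw [hNcard]; norm_num)
      obtain ⟨q, hq⟩ := exists_prime_orderOf_dvd_card' (G := ↥N) 5 (by rw [hNcard]; norm_num)
      rw [← Subgroup.orderOf_coe] at hr hq
      have hfree : ∀ m ∈ N, m • a = a → m = 1 := fun m hm hma => by
        have : (⟨m, mem_stabilizer_iff.mpr hma⟩ : ↥(stabilizer G a)) ∈ N.subgroupOf (stabilizer G a) := hm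
        rw [e, Subgroup.mem_bot] at this
        exact congrArg Subtype.val this
      have hr0 : (r : G) • a ≠ a := fun e' => by
        rw [hfree r r.2 e', orderOf_one] at hr; omega
      have hq0 : (q : G) • a ≠ a := fun e' => by
        rw [hfree q q.2 e', orderOf_one] at hq; omega
      obtain ⟨l, la, lr⟩ := h.pairs a ((r : G) • a) a ((q : G) • a) (Ne.symm hr0) (Ne.symm hq0)
      have hmem : (q : G)⁻¹ * (l * r * l⁻¹) ∈ N := mul_mem (inv_mem q.2) (hN.conj_mem r r.2 l)
      have hone := hfree _ hmem (by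
        rw [mul_smul, inv_smul_eq_iff]
        nth_rw 1 [← la]
        rw [smul_conj_smul, lr])
      rw [inv_mul_eq_one] at hone
      rw [hone, CfsgLib.Transfer.orderOf_conj, hr] at hq
      omega
    · rw [hsub, e, Subgroup.card_top, hL, hn] at hNcard
      exact Subgroup.eq_top_of_card_eq _ (by rw [hNcard, hG])
  exact Cfsg.Agent.S0984.result hG

end CfsgLib.TwoPointStab
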