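import Cfsg.Agent.Lib.TwoPointStab.Count
import Cfsg.Agent.Lib.Perm.AutAlternating

/-!
# Two-point stabilisers isomorphic to the alternating groups of degree 4 and 5
-/

set_option autoImplicit false
set_option linter.unusedSectionVars false
set_option synthInstance.maxSize 2000
set_option synthInstance.maxHeartbeats 400000

namespace CfsgLib.TwoPointStab

open MulAction Equiv

/-- The facts used about the alternating and symmetric group of degree `k`. -/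
structure AltFacts (k u w : ℕ) : Prop where
  four_le : 4 ≤ k
  ne_six : k ≠ 6
  fact : Nat.factorial k = 8 * u
  invol : (Finset.univ.filter fun x : Perm (Fin k) => Perm.sign x = 1 ∧ x * x = 1 ∧ x ≠ 1).card = u
  odd_invol : (Finset.univ.filter fun x : Perm (Fin k) => Perm.sign x = -1 ∧ x * x = 1).card = w
  conj : ∀ x : Perm (Fin k), Perm.sign x = 1 → x * x = 1 → x ≠ 1 → ∀ y : Perm (Fin k), Perm.sign y = 1 →
    y * y = 1 → y ≠ 1 → ∃ g : Perm (Fin k), Perm.sign g = 1 ∧ g * x = y * g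
  klein : ∀ x : Perm (Fin k), Perm.sign x = 1 → x * x = 1 → x ≠ 1 → ∃ v : Perm (Fin k), Perm.sign v = 1 ∧
    v * v = 1 ∧ v ≠ 1 ∧ v ≠ x ∧ v * x = x * v ∧
      ∀ g : Perm (Fin k), Perm.sign g = 1 → g * x = x * g → g = 1 ∨ g = x ∨ g = v ∨ g = x * v
  odd_conj : ∀ x : Perm (Fin k), Perm.sign x = -1 → x * x = 1 → ∀ y : Perm (Fin k), Perm.sign y = -1 →
    y * y = 1 → ∃ g : Perm (Fin k), Perm.sign g = 1 ∧ g * x = y * g
  odd_klein : ∀ z : Perm (Fin k), Perm.sign z = 1 → z * z = 1 → z ≠ 1 → ∃ τ : Perm (Fin k),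
    Perm.sign τ = -1 ∧ τ * τ = 1 ∧ τ * z = z * τ ∧ ∃ v : Perm (Fin k), Perm.sign v = 1 ∧ v * v = 1 ∧ v ≠ 1 ∧
      v * z = z * v ∧ τ * v * τ = z * v

theorem altFacts_four : AltFacts 4 3 6 where
  four_le := by norm_num
  ne_six := by norm_num
  fact := rfl
  invol := by decide +kernel
  odd_invol := by decide +kernel
  conj := by decide +kernel
  klein := by decide +kernel
  odd_conj := by decide +kernel
  odd_klein := by decide +kernel

theorem altFacts_five : AltFacts 5 15 10 where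
  four_le := by norm_num
  ne_six := by norm_num
  fact := rfl
  invol := by decide +kernel
  odd_invol := by decide +kernel
  conj := by decide +kernel
  klein := by decide +kernel
  odd_conj := by decide +kernel
  odd_klein := by decide +kernel

variable {G : Type*} [Group G] {Ω : Type*} [MulAction G Ω]

/-- An involution fixing both points. -/
structure Inv2 (a b : Ω) (x : G) : Prop where
  fa : x • a = a
  fb : x • b = b
  sq : x * x = 1
  ne_one : x ≠ 1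

/-- An element exchanging the two points. -/
def Swap (a b : Ω) (x : G) : Prop := x • a = b ∧ x • b = a

/-- The hypotheses in usable form. -/
structure Conf (G Ω : Type*) [Group G] [MulAction G Ω] (a b : Ω) (u w : ℕ) : Prop where
  pairs : Pairs G Ω
  faithful : ∀ g : G, (∀ p : Ω, g • p = p) → g = 1
  ne : a ≠ b
  vals : (u = 3 ∧ w = 6) ∨ (u = 15 ∧ w = 10)
  card : Nat.card ↥(stabilizer G a ⊓ stabilizer G b) = 4 * u
  invol : Nat.card {x : G // Inv2 a b x} = u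
  conj : ∀ x y : G, Inv2 a b x → Inv2 a b y → ∃ g : G, g • a = a ∧ g • b = b ∧ g * x = y * g
  klein : ∀ z : G, Inv2 a b z → ∃ v : G, Inv2 a b v ∧ v ≠ z ∧ v * z = z * v ∧
    ∀ g : G, g • a = a → g • b = b → g * z = z * g → g = 1 ∨ g = z ∨ g = v ∨ g = z * v
  swap : (∃ t : G, Swap a b t ∧ t * t = 1 ∧ ∀ g : G, g • a = a → g • b = b → g * t = t * g) ∨
    (Nat.card {x : G // Swap a b x ∧ x * x = 1} = w ∧
      (∀ x y : G, Swap a b x → x * x = 1 → Swap a b y → y * y = 1 → ∃ g : G, g * x = y * g) ∧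
      ∀ z : G, Inv2 a b z → ∃ y : G, Swap a b y ∧ y * y = 1 ∧ y * z = z * y ∧
        ∃ v : G, Inv2 a b v ∧ v * z = z * v ∧ y * v * y = z * v)

theorem mem_inf_stab {a b : Ω} {x : G} :
    x ∈ stabilizer G a ⊓ stabilizer G b ↔ x • a = a ∧ x • b = b := by
  simp [Subgroup.mem_inf, mem_stabilizer_iff]

theorem conf_of_iso [Finite G] (hP : Pairs G Ω) (hfaith : ∀ g : G, (∀ p : Ω, g • p = p) → g = 1)
    {a b : Ω} (hab : a ≠ b) {k u w : ℕ} (F : AltFacts k u w) (hv : (u = 3 ∧ w = 6) ∨ (u = 15 ∧ w = 10))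
    (e : ↥(stabilizer G a ⊓ stabilizer G b) ≃* ↥(alternatingGroup (Fin k))) : Conf G Ω a b u w := by
  classical
  set K := stabilizer G a ⊓ stabilizer G b with hK
  let ι : ↥K →* Perm (Fin k) := (alternatingGroup (Fin k)).subtype.comp e.toMonoidHom
  have hι : Function.Injective ι := fun x y h => e.injective (Subtype.ext h)
  have hsign : ∀ h : ↥K, Perm.sign (ι h) = 1 := fun h => Perm.mem_alternatingGroup.mp (e h).2
  have hsurj : ∀ π : Perm (Fin k), Perm.sign π = 1 → ∃ h : ↥K, ι h = π := fun π hπ =>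
    ⟨e.symm ⟨π, Perm.mem_alternatingGroup.mpr hπ⟩, congrArg Subtype.val (e.apply_symm_apply _)⟩
  have hInv : ∀ h : ↥K, Inv2 a b (h : G) ↔ ι h * ι h = 1 ∧ ι h ≠ 1 := fun h => by
    rw [← map_mul, map_eq_one_iff ι hι, map_ne_one_iff ι hι]
    exact ⟨fun H => ⟨Subtype.ext H.sq, fun e => H.ne_one (congrArg Subtype.val e)⟩,
      fun H => ⟨(mem_inf_stab.mp h.2).1, (mem_inf_stab.mp h.2).2, congrArg Subtype.val H.1,
        fun e => H.2 (Subtype.ext e)⟩⟩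
  have mk : ∀ {x : G}, Inv2 a b x → x ∈ K := fun H => mem_inf_stab.mpr ⟨H.fa, H.fb⟩
  have toG : ∀ h h' : ↥K, ι h = ι h' → (h : G) = h' := fun h h' e => congrArg Subtype.val (hι e)
  refine ⟨hP, hfaith, hab, hv, ?_, ?_, ?_, ?_, ?_⟩
  · haveI : Nontrivial (Fin k) := Fin.nontrivial_iff_two_le.mpr (by have := F.four_le; omega)
    rw [Nat.card_congr e.toEquiv, nat_card_alternatingGroup, Nat.card_fin, F.fact]
    omega
  · refine Eq.trans ?_ F.invol
    rw [← Fintype.card_coe, ← Nat.card_eq_fintype_card]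
    refine Nat.card_congr (Equiv.ofBijective (fun x => ⟨ι ⟨x.1, mk x.2⟩, by
      simpa [hsign] using (hInv ⟨x.1, mk x.2⟩).mp x.2⟩) ⟨?_, ?_⟩)
    · intro x y h
      exact Subtype.ext (toG ⟨x.1, mk x.2⟩ ⟨y.1, mk y.2⟩ (Subtype.ext_iff.mp h :))
    · rintro ⟨π, hπ⟩
      rw [Finset.mem_filter] at hπ
      obtain ⟨h, rfl⟩ := hsurj π hπ.2.1
      exact ⟨⟨h, (hInv h).mpr hπ.2.2⟩, Subtype.ext rfl⟩
  · intro x y hx hy
    obtain ⟨h1, h2⟩ := (hInv ⟨x, mk hx⟩).mp hx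
    obtain ⟨h3, h4⟩ := (hInv ⟨y, mk hy⟩).mp hy
    obtain ⟨π, hπ, he⟩ := F.conj _ (hsign _) h1 h2 _ (hsign _) h3 h4
    obtain ⟨g, rfl⟩ := hsurj π hπ
    exact ⟨g, (mem_inf_stab.mp g.2).1, (mem_inf_stab.mp g.2).2,
      toG (g * ⟨x, mk hx⟩) (⟨y, mk hy⟩ * g) (by rw [map_mul, map_mul, he])⟩
  · intro z hz
    obtain ⟨h1, h2⟩ := (hInv ⟨z, mk hz⟩).mp hz
    obtain ⟨v, hv1, hv2, hv3, hv4, hv5, hall⟩ := F.klein _ (hsign _) h1 h2
    obtain ⟨v, rfl⟩ := hsurj v hv1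
    refine ⟨v, (hInv v).mpr ⟨hv2, hv3⟩, fun e => hv4 (congrArg ι (Subtype.ext e : v = ⟨z, mk hz⟩)),
      toG (v * ⟨z, mk hz⟩) (⟨z, mk hz⟩ * v) (by rw [map_mul, map_mul, hv5]), fun g ga gb hg => ?_⟩
    have hg' : (⟨g, mem_inf_stab.mpr ⟨ga, gb⟩⟩ : ↥K) * ⟨z, mk hz⟩ = ⟨z, mk hz⟩ * ⟨g, mem_inf_stab.mpr ⟨ga, gb⟩⟩ :=
      Subtype.ext hg
    rcases hall (ι ⟨g, mem_inf_stab.mpr ⟨ga, gb⟩⟩) (hsign _) (by rw [← map_mul, ← map_mul, hg']) with h | h | h | h
    · exact Or.inl (toG _ 1 (h.trans (map_one ι).symm))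
    · exact Or.inr (Or.inl (toG _ _ h))
    · exact Or.inr (Or.inr (Or.inl (toG _ _ h)))
    · exact Or.inr (Or.inr (Or.inr (toG _ (⟨z, mk hz⟩ * v) (h.trans (map_mul ι _ _).symm))))
  -- the swappers
  have hnorm : ∀ {x : G}, Swap a b x → ∀ h : ↥K, x * h * x⁻¹ ∈ K := fun {x} hx h => by
    refine mem_inf_stab.mpr ⟨?_, ?_⟩
    · rw [← hx.2, smul_conj_smul, (mem_inf_stab.mp h.2).2]
    · rw [← hx.1, smul_conj_smul, (mem_inf_stab.mp h.2).1]
  let Ind : G → Perm (Fin k) → Prop := fun x π =>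
    ∃ hx : Swap a b x, ∀ h : ↥K, ι ⟨x * h * x⁻¹, hnorm hx h⟩ = π * ι h * π⁻¹
  have hswinv : ∀ {x : G}, Swap a b x → Swap a b x⁻¹ := fun {x} hx =>
    ⟨inv_smul_eq_iff.mpr hx.2.symm, inv_smul_eq_iff.mpr hx.1.symm⟩
  have hcinj := CfsgLib.AutAlternating.conjNormal_injective F.four_le
  have cancel : ∀ π π' : Perm (Fin k), (∀ h : ↥K, π * ι h * π⁻¹ = π' * ι h * π'⁻¹) → π = π' := by
    intro π π' h
    refine hcinj (MulEquiv.ext fun x => Subtype.ext ?_)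
    obtain ⟨y, hy⟩ := hsurj x (Perm.mem_alternatingGroup.mp x.2)
    rw [MulAut.conjNormal_apply, MulAut.conjNormal_apply, ← hy, h y]
  have exInd : ∀ {x : G}, Swap a b x → ∃ π, Ind x π := fun {x} hx => by
    let φ : ↥K ≃* ↥K :=
      { toFun := fun h => ⟨x * h * x⁻¹, hnorm hx h⟩
        invFun := fun h => ⟨x⁻¹ * h * x, by simpa using hnorm (hswinv hx) h⟩
        left_inv := fun h => Subtype.ext (show x⁻¹ * (x * h * x⁻¹) * x = h by group)
        right_inv := fun h => Subtype.ext (show x * (x⁻¹ * h * x) * x⁻¹ = h by group)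
        map_mul' := fun h h' => Subtype.ext (show x * (h * h' : G) * x⁻¹ = (x * h * x⁻¹) * (x * h' * x⁻¹) by
          group) }
    obtain ⟨π, hπ⟩ := CfsgLib.AutAlternating.eq_conj F.four_le F.ne_six ((e.symm.trans φ).trans e)
    refine ⟨π, hx, fun h => ?_⟩
    have h' := congrArg (fun f : MulAut ↥(alternatingGroup (Fin k)) => ((f (e h) : _) : Perm (Fin k))) hπ
    simp only [MulAut.conjNormal_apply, MulEquiv.trans_apply, MulEquiv.symm_apply_apply] at h'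
    exact h'.symm
  have uniq : ∀ {x π π'}, Ind x π → Ind x π' → π = π' := fun {x π π'} h h' =>
    cancel _ _ fun y => (h.2 y).symm.trans (h'.2 y)
  have indMulL : ∀ {x π} (h : ↥K), Ind x π → Ind ((h : G) * x) (ι h * π) := fun {x π} h hx => by
    have hhx : Swap a b ((h : G) * x) := ⟨by rw [mul_smul, hx.1.1, (mem_inf_stab.mp h.2).2],
      by rw [mul_smul, hx.1.2, (mem_inf_stab.mp h.2).1]⟩
    refine ⟨hhx, fun y => ?_⟩
    have hh : (⟨(h : G) * x * y * ((h : G) * x)⁻¹, hnorm hhx y⟩ : ↥K) = h * ⟨x * y * x⁻¹, hnorm hx.1 y⟩ * h⁻¹ :=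
      Subtype.ext (show (h : G) * x * y * ((h : G) * x)⁻¹ = (h : G) * (x * y * x⁻¹) * (h : G)⁻¹ by group)
    rw [hh, map_mul, map_mul, map_inv, hx.2 y]
    simp [mul_assoc]
  have inj : ∀ {x x' π}, Ind x π → Ind x' π → x = x' := fun {x x' π} hx hx' => by
    have hm : x' * x⁻¹ ∈ K := mem_inf_stab.mpr
      ⟨by rw [mul_smul, (hswinv hx.1).1, hx'.1.2], by rw [mul_smul, (hswinv hx.1).2, hx'.1.1]⟩
    have h1 := indMulL ⟨_, hm⟩ hx
    rw [show ((⟨x' * x⁻¹, hm⟩ : ↥K) : G) * x = x' from inv_mul_cancel_right x' x] at h1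
    have h2 := uniq h1 hx'
    exact (mul_inv_eq_one.mp (toG _ 1 ((mul_eq_right.mp h2).trans (map_one ι).symm))).symm
  have indMulR : ∀ {x π} (h : ↥K), Ind x π → Ind (x * h) (π * ι h) := fun {x π} h hx => by
    have h1 := indMulL ⟨x * h * x⁻¹, hnorm hx.1 h⟩ hx
    rw [hx.2 h] at h1
    rwa [show ((⟨x * h * x⁻¹, hnorm hx.1 h⟩ : ↥K) : G) * x = x * h from inv_mul_cancel_right (x * h) x,
      inv_mul_cancel_right] at h1
  have hsq : ∀ {x π}, Ind x π → x * x ∈ K ∧ ∀ hm : x * x ∈ K, ι ⟨x * x, hm⟩ = π * π := fun {x π} hx => by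
    have hm : x * x ∈ K := mem_inf_stab.mpr ⟨by rw [mul_smul, hx.1.1, hx.1.2], by rw [mul_smul, hx.1.2, hx.1.1]⟩
    refine ⟨hm, fun _ => cancel _ _ fun y => ?_⟩
    rw [← map_inv, ← map_mul, ← map_mul,
      show (⟨x * x, hm⟩ : ↥K) * y * (⟨x * x, hm⟩ : ↥K)⁻¹ = ⟨x * (⟨x * y * x⁻¹, hnorm hx.1 y⟩ : ↥K) * x⁻¹,
        hnorm hx.1 _⟩ from Subtype.ext (show x * x * y * (x * x)⁻¹ = x * (x * y * x⁻¹) * x⁻¹ by group),
      hx.2, hx.2]
    group
  have sq_iff : ∀ {x π}, Ind x π → (x * x = 1 ↔ π * π = 1) := fun {x π} hx => by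
    obtain ⟨hm, h⟩ := hsq hx
    rw [← h hm, map_eq_one_iff ι hι, Subtype.ext_iff]
    rfl
  obtain ⟨g0, hg0⟩ : ∃ g : G, Swap a b g := hP a b b a hab hab.symm
  obtain ⟨π0, hI0⟩ := exInd hg0
  by_cases hev : ∃ x π, Ind x π ∧ Perm.sign π = 1
  · obtain ⟨x, π, hx, hπ⟩ := hev
    obtain ⟨h, hh⟩ := hsurj π⁻¹ (by rw [map_inv, hπ, inv_one])
    have ht := indMulL h hx
    rw [hh, inv_mul_cancel] at ht
    refine Or.inl ⟨_, ht.1, (sq_iff ht).mpr (one_mul 1), fun g ga gb => ?_⟩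
    have h2 := ht.2 ⟨g, mem_inf_stab.mpr ⟨ga, gb⟩⟩
    rw [one_mul, inv_one, mul_one] at h2
    exact (mul_inv_eq_iff_eq_mul.mp (toG _ _ h2)).symm
  · push Not at hev
    have hodd : ∀ {x π}, Ind x π → Perm.sign π = -1 := fun {x π} hx =>
      (Int.units_eq_one_or _).resolve_left (hev x π hx)
    have hex : ∀ π : Perm (Fin k), Perm.sign π = -1 → ∃ x, Ind x π := fun π hπ => by
      obtain ⟨h, hh⟩ := hsurj (π * π0⁻¹) (by rw [map_mul, map_inv, hπ, hodd hI0]; rfl)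
      have h1 := indMulL h hI0
      rw [hh, inv_mul_cancel_right] at h1
      exact ⟨_, h1⟩
    refine Or.inr ⟨?_, ?_, ?_⟩
    · refine Eq.trans ?_ F.odd_invol
      rw [← Fintype.card_coe, ← Nat.card_eq_fintype_card]
      refine Nat.card_congr (Equiv.ofBijective (fun x => ⟨(exInd x.2.1).choose, Finset.mem_filter.mpr
        ⟨Finset.mem_univ _, hodd (exInd x.2.1).choose_spec, (sq_iff (exInd x.2.1).choose_spec).mp x.2.2⟩⟩)
        ⟨?_, ?_⟩)
      · intro x y h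
        refine Subtype.ext (inj (exInd x.2.1).choose_spec ?_)
        rw [show (exInd x.2.1).choose = (exInd y.2.1).choose from congrArg Subtype.val h]
        exact (exInd y.2.1).choose_spec
      · rintro ⟨π, hπ⟩
        rw [Finset.mem_filter] at hπ
        obtain ⟨x, hx⟩ := hex π hπ.2.1
        exact ⟨⟨x, hx.1, (sq_iff hx).mpr hπ.2.2⟩, Subtype.ext (uniq (exInd hx.1).choose_spec hx)⟩
    · intro x y hx hx2 hy hy2
      obtain ⟨π, hπ⟩ := exInd hx
      obtain ⟨π', hπ'⟩ := exInd hy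
      obtain ⟨γ, hγ, he⟩ := F.odd_conj π (hodd hπ) ((sq_iff hπ).mp hx2) π' (hodd hπ') ((sq_iff hπ').mp hy2)
      obtain ⟨g, rfl⟩ := hsurj γ hγ
      exact ⟨g, inj (indMulL g hπ) (he ▸ indMulR g hπ')⟩
    · intro z hz
      obtain ⟨h1, h2⟩ := (hInv ⟨z, mk hz⟩).mp hz
      obtain ⟨τ, hτ, hτ2, hτz, v, hv1, hv2, hv3, hv4, hv5⟩ := F.odd_klein _ (hsign _) h1 h2
      obtain ⟨y, hy⟩ := hex τ hτ
      obtain ⟨v, rfl⟩ := hsurj v hv1
      have hy2 := (sq_iff hy).mpr hτ2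
      refine ⟨y, hy.1, hy2, inj (indMulR ⟨z, mk hz⟩ hy) (hτz ▸ indMulL ⟨z, mk hz⟩ hy), v,
        (hInv v).mpr ⟨hv2, hv3⟩, toG (v * ⟨z, mk hz⟩) (⟨z, mk hz⟩ * v) (by rw [map_mul, map_mul, hv4]), ?_⟩
      have h3 := hy.2 v
      rw [inv_eq_of_mul_eq_one_right hτ2, hv5, ← map_mul] at h3
      have h4 := toG _ _ h3
      simpa [inv_eq_of_mul_eq_one_right hy2] using h4

end CfsgLib.TwoPointStab
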