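import Cfsg.Agent.Lib.TwoPointStab.Count
import Mathlib.GroupTheory.Perm.Cycle.Type
import Mathlib.Data.Nat.Factorization.Basic

/-!
# Sharply doubly transitive groups: involutions and the degree
-/

set_option autoImplicit false
set_option linter.unusedSectionVars false

namespace CfsgLib.TwoPointStab

open MulAction

/-- Sharp transitivity on ordered pairs of distinct points. -/
structure Sharp (X Ω : Type*) [Group X] [MulAction X Ω] : Prop where
  pairs : Pairs X Ω
  free : ∀ (g : X) (a b : Ω), a ≠ b → g • a = a → g • b = b → g = 1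
  big : 1 < Nat.card Ω

variable {X : Type*} [Group X] [Finite X] {Ω : Type*} [MulAction X Ω] [Finite Ω]

/-- A nontrivial element fixes at most one point. -/
theorem Sharp.fix_le (S : Sharp X Ω) {g : X} (h : g ≠ 1) : fix Ω g ≤ 1 :=
  Finite.card_le_one_iff_subsingleton.mpr
    ⟨fun a b => by_contra fun hab => h (S.free g a b (fun e => hab (Subtype.ext e)) a.2 b.2)⟩

theorem Sharp.pretransitive (S : Sharp X Ω) : IsPretransitive X Ω := by
  haveI : Nontrivial Ω := Finite.one_lt_card_iff_nontrivial.mp S.big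
  refine ⟨fun a c => ?_⟩
  obtain ⟨b, hb⟩ := exists_ne a
  obtain ⟨d, hd⟩ := exists_ne c
  obtain ⟨g, hg, -⟩ := S.pairs a b c d (Ne.symm hb) (Ne.symm hd)
  exact ⟨g, hg⟩

/-- Exactly one involution swaps two given points. -/
theorem Sharp.swapper_card [DecidableEq X] [DecidableEq Ω] [Fintype X] (S : Sharp X Ω) {a b : Ω} (hab : a ≠ b) :
    ((Finset.univ.filter fun x : X => x * x = 1 ∧ x ≠ 1).filter
      fun x : X => x • a = b ∧ x • b = a).card = 1 := by
  obtain ⟨g, hga, hgb⟩ := S.pairs a b b a hab hab.symm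
  have hgg : g * g = 1 := S.free _ a b hab (by rw [mul_smul, hga, hgb]) (by rw [mul_smul, hgb, hga])
  have hg1 : g ≠ 1 := fun e => hab (by rw [← hga, e, one_smul])
  refine Finset.card_eq_one.mpr ⟨g, Finset.eq_singleton_iff_unique_mem.mpr ⟨?_, ?_⟩⟩
  · simp [hgg, hg1, hga, hgb]
  · intro x hx
    simp at hx
    have h := S.free (g⁻¹ * x) a b hab (by rw [mul_smul, hx.2.1, ← hga, inv_smul_smul])
      (by rw [mul_smul, hx.2.2, ← hgb, inv_smul_smul])
    exact (inv_mul_eq_one.mp h).symm

/-- In odd degree two involutions fixing the same point are equal. -/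
theorem Sharp.invol_unique (S : Sharp X Ω) (hodd : Nat.card Ω % 2 = 1) {x y : X} (hx : x * x = 1)
    (hy : y * y = 1) (hx1 : x ≠ 1) (hy1 : y ≠ 1) {c : Ω} (hxc : x • c = c) (hyc : y • c = c) : x = y := by
  classical
  letI := Fintype.ofFinite Ω
  letI := Fintype.ofFinite X
  haveI : Nontrivial Ω := Finite.one_lt_card_iff_nontrivial.mp S.big
  obtain ⟨d, hd⟩ := exists_ne c
  haveI := S.pretransitive
  set I : Finset X := Finset.univ.filter fun x : X => x * x = 1 ∧ x ≠ 1 with hI
  have hIconj : ∀ g : X, ∀ x ∈ I, g * x * g⁻¹ ∈ I := fun g x hx =>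
    Finset.mem_filter.mpr ⟨Finset.mem_univ _, mul_self_conj (Finset.mem_filter.mp hx).2.1,
      fun e => (Finset.mem_filter.mp hx).2.2 (conj_eq_one_iff.mp e)⟩
  have hf : ∀ x ∈ I, fix Ω x = 1 := fun x hx => by
    simp [hI] at hx
    have h1 := S.fix_le hx.2
    have h2 := fix_parity (Ω := Ω) hx.1
    omega
  have h := sum_swapped S.pairs I hIconj (fun x hx => (Finset.mem_filter.mp hx).2.1) (Ne.symm hd)
  rw [S.swapper_card (Ne.symm hd), mul_one,
    Finset.sum_congr rfl (g := fun _ => Fintype.card Ω - 1) (fun x hx => by rw [hf x hx]), Finset.sum_const,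
    smul_eq_mul] at h
  have hn := S.big
  rw [Nat.card_eq_fintype_card] at hn
  have hIn : I.card = Fintype.card Ω := Nat.eq_of_mul_eq_mul_right (by omega) h
  -- the fixed point map is surjective between sets of the same size
  have hex : ∀ x ∈ I, ∃ p : Ω, x • p = p := fun x hx => by
    have h := hf x hx
    obtain ⟨⟨p, hp⟩⟩ := (Nat.card_pos_iff.mp (show 0 < Nat.card (fixedBy Ω x) by rw [← fix, h]; norm_num)).1
    exact ⟨p, hp⟩
  choose φ hφ using hex
  have hφu : ∀ (x : X) (hx : x ∈ I) (p : Ω), x • p = p → φ x hx = p := fun x hx p hp => by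
    by_contra hne
    exact (Finset.mem_filter.mp hx).2.2 (S.free x _ _ hne (hφ x hx) hp)
  have hxI : x ∈ I := by simp [hI, hx, hx1]
  have hyI : y ∈ I := by simp [hI, hy, hy1]
  have hsurj : ∀ p ∈ (Finset.univ : Finset Ω), ∃ (z : X) (hz : z ∈ I), φ z hz = p := fun p _ => by
    obtain ⟨g, hg⟩ := exists_smul_eq X c p
    exact ⟨g * x * g⁻¹, hIconj g x hxI, hφu _ _ p (by rw [← hg, smul_conj_smul, hxc])⟩
  exact Finset.inj_on_of_surj_on_of_card_le (fun x hx => φ x hx) (fun _ _ => Finset.mem_univ _) hsurj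
    (by rw [hIn, Finset.card_univ]) hxI hyI ((hφu x hxI c hxc).trans (hφu y hyI c hyc).symm)

/-- In even degree the degree is a power of two. -/
theorem Sharp.two_power (S : Sharp X Ω) (heven : Nat.card Ω % 2 = 0) : ∃ k, Nat.card Ω = 2 ^ k := by
  classical
  letI := Fintype.ofFinite Ω
  letI := Fintype.ofFinite X
  haveI : Nontrivial Ω := Finite.one_lt_card_iff_nontrivial.mp S.big
  haveI := S.pretransitive
  obtain ⟨c, d, hcd⟩ := exists_pair_ne Ω
  set n := Fintype.card Ω with hn
  have hn2 : 2 ≤ n := Fintype.one_lt_card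
  set I : Finset X := Finset.univ.filter fun x : X => x * x = 1 ∧ x ≠ 1 with hI
  have hIconj : ∀ g : X, ∀ x ∈ I, g * x * g⁻¹ ∈ I := fun g x hx =>
    Finset.mem_filter.mpr ⟨Finset.mem_univ _, mul_self_conj (Finset.mem_filter.mp hx).2.1,
      fun e => (Finset.mem_filter.mp hx).2.2 (conj_eq_one_iff.mp e)⟩
  have hf : ∀ x ∈ I, fix Ω x = 0 := fun x hx => by
    simp [hI] at hx
    have h1 := S.fix_le hx.2
    have h2 := fix_parity (Ω := Ω) hx.1
    omega
  have h := sum_swapped S.pairs I hIconj (fun x hx => (Finset.mem_filter.mp hx).2.1) hcd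
  rw [S.swapper_card hcd, mul_one,
    Finset.sum_congr rfl (g := fun _ => n) (fun x hx => by rw [hf x hx, Nat.sub_zero]), Finset.sum_const,
    smul_eq_mul, Nat.mul_comm n] at h
  have hIn : I.card = n - 1 := Nat.eq_of_mul_eq_mul_right (by omega) h
  -- the elements without fixed point
  set D : Finset X := Finset.univ.filter fun x : X => fix Ω x = 0 with hD
  have hID : I ⊆ D := fun x hx => by simp [hD, hf x hx]
  have hsum : ∑ g : X, fix Ω g = Fintype.card X := by
    have e := sum_card_fixedBy_eq_card_orbits_mul_card_group X Ω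
    haveI : Subsingleton (orbitRel.Quotient X Ω) := (pretransitive_iff_subsingleton_quotient X Ω).mp inferInstance
    haveI : Nonempty (orbitRel.Quotient X Ω) := ⟨Quotient.mk'' c⟩
    have h1 : Nat.card (Quotient (orbitRel X Ω)) = 1 := Nat.card_eq_one_iff_unique.mpr ⟨‹_›, ‹_›⟩
    rw [Fintype.card_eq_nat_card, h1, one_mul, Fintype.card_eq_nat_card] at e
    rw [← Nat.card_eq_fintype_card, ← e]
    exact Finset.sum_congr rfl fun g _ => Nat.card_eq_fintype_card
  have hDn : D.card = n - 1 := by
    have key : ∀ g : X, fix Ω g + (if g ∈ D then 1 else 0) = 1 + (if g = 1 then n - 1 else 0) := by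
      intro g
      by_cases hg : g = 1
      · subst hg
        have h1 : fix Ω (1 : X) = n := by rw [fix]; simp [hn]
        have h2 : (1 : X) ∉ D := by simp [hD, h1]; omega
        rw [if_neg h2, if_pos rfl, h1]
        omega
      · rw [if_neg hg]
        have h1 := S.fix_le hg
        rcases Nat.eq_zero_or_pos (fix Ω g) with h0 | h0
        · rw [if_pos (by simp [hD, h0]), h0]
        · rw [if_neg (by simp [hD]; omega)]
          omega
    have h := Finset.sum_congr (s₁ := (Finset.univ : Finset X)) rfl fun g _ => key g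
    rw [Finset.sum_add_distrib, Finset.sum_add_distrib, hsum, Finset.sum_boole, Finset.sum_const,
      Finset.card_univ, smul_eq_mul, mul_one, Finset.sum_ite_eq' Finset.univ (1 : X),
      if_pos (Finset.mem_univ _), Finset.filter_mem_eq_inter, Finset.univ_inter] at h
    simp at h
    omega
  have hDI : D = I := (Finset.eq_of_subset_of_card_le hID (by rw [hDn, hIn])).symm
  rw [Nat.card_eq_fintype_card] at heven ⊢
  refine ⟨_, Nat.eq_prime_pow_of_unique_prime_dvd (p := 2) (by omega) fun {r} hr hrn => ?_⟩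
  by_contra hr2
  haveI := Fact.mk hr
  obtain ⟨o, ho⟩ := exists_prime_orderOf_dvd_card (G := X) r (by
    refine hrn.trans ?_
    rw [← Nat.card_eq_fintype_card (α := Ω), ← Nat.card_eq_fintype_card (α := X),
      ← index_stabilizer_of_transitive X c]
    exact (stabilizer X c).index_dvd_card)
  have ho1 : o ≠ 1 := fun e => by rw [e, orderOf_one] at ho; exact hr.one_lt.ne ho
  have e := Equiv.Perm.card_fixedPoints_modEq (α := Ω) (f := MulAction.toEndHom (M := X) o) (p := r)
    (n := 1) (by rw [pow_one, ← map_pow, ← ho, pow_orderOf_eq_one, map_one])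
  have h0 : fix Ω o = 0 := by
    have h1 := S.fix_le ho1
    rw [Nat.ModEq, Nat.mod_eq_zero_of_dvd hrn, ← Nat.card_eq_fintype_card] at e
    by_contra h
    have h' : fix Ω o = 1 := by omega
    rw [show Nat.card (Function.fixedPoints (MulAction.toEndHom (M := X) (α := Ω) o)) = fix Ω o from rfl, h',
      Nat.mod_eq_of_lt hr.one_lt] at e
    omega
  have : o ∈ D := by simp [hD, h0]
  rw [hDI] at this
  simp [hI] at this
  exact hr2 ((Nat.prime_dvd_prime_iff_eq hr Nat.prime_two).mp
    (ho ▸ orderOf_dvd_of_pow_eq_one (by rw [pow_two, this.1])))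

end CfsgLib.TwoPointStab
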