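import Cfsg.Agent.Lib.TwoPointStab.Common
import Mathlib.LinearAlgebra.AffineSpace.AffineEquiv
import Mathlib.LinearAlgebra.Matrix.GeneralLinearGroup.Card
import Mathlib.RingTheory.AdjoinRoot
import Mathlib.FieldTheory.Finiteness

/-!
# Degree sixteen: the affine group of the plane over the field with four elements
-/

set_option autoImplicit false
set_option linter.unusedSectionVars false
set_option linter.style.haveILetI false

namespace CfsgLib.TwoPointStab

open MulAction Polynomial

/-- An endomorphism with `Φ² + Φ + 1 = 0` of an elementary abelian group of order sixteen makes it a plane over a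
field with four elements, and everything commuting with it is linear. -/
theorem plane_of_cube {V : Type*} [AddCommGroup V] [Finite V] (h2 : ∀ x : V, x + x = 0) (hV : Nat.card V = 16)
    (Φ : V →+ V) (hΦ : ∀ x, Φ (Φ x) + Φ x + x = 0) :
    ∃ (F : Type) (_ : Field F) (_ : Fintype F), Fintype.card F = 4 ∧ ∃ e : V ≃+ (Fin 2 → F),
      ∀ ψ : V →+ V, (∀ x, ψ (Φ x) = Φ (ψ x)) → ∀ (s : F) (y : Fin 2 → F),
        e (ψ (e.symm (s • y))) = s • e (ψ (e.symm y)) := by
  classical
  letI : Module (ZMod 2) V := AddCommGroup.zmodModule fun x => by rw [two_nsmul]; exact h2 x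
  set p : (ZMod 2)[X] := X ^ 2 + X + 1 with hp
  have hdeg : p.natDegree = 2 := by rw [hp]; compute_degree!
  have hirr : Irreducible p := by
    refine (irreducible_iff_roots_eq_zero_of_degree_le_three (by omega) (by omega)).mpr
      (Multiset.eq_zero_of_forall_notMem fun x hx => ?_)
    rw [mem_roots (ne_zero_of_natDegree_gt (n := 1) (by omega))] at hx
    have h : ∀ x : ZMod 2, x ^ 2 + x + 1 ≠ 0 := by decide
    exact h x (by simpa [hp] using hx)
  haveI : Fact (Irreducible p) := ⟨hirr⟩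
  let L : Module.End (ZMod 2) V := Φ.toZModLinearMap 2
  have hL : aeval L p = 0 := LinearMap.ext fun x => by
    simp only [hp, map_add, map_mul, aeval_X, map_one, pow_two, LinearMap.add_apply, Module.End.mul_apply,
      Module.End.one_apply, LinearMap.zero_apply]
    exact hΦ x
  let f : AdjoinRoot p →+* Module.End (ZMod 2) V := Ideal.Quotient.lift _ (aeval L).toRingHom fun q hq => by
    obtain ⟨r, rfl⟩ := Ideal.mem_span_singleton.mp hq
    show aeval L (p * r) = 0
    rw [map_mul, hL, zero_mul]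
  letI : Module (AdjoinRoot p) V := Module.compHom V f
  have hpne : p ≠ 0 := hirr.ne_zero
  haveI : Module.Finite (ZMod 2) (AdjoinRoot p) := (AdjoinRoot.powerBasis hpne).finite
  have hF : Nat.card (AdjoinRoot p) = 4 := by
    rw [Module.natCard_eq_pow_finrank (K := ZMod 2), (AdjoinRoot.powerBasis hpne).finrank,
      AdjoinRoot.powerBasis_dim, hdeg, Nat.card_zmod]
    rfl
  haveI : Finite (AdjoinRoot p) := Nat.finite_of_card_ne_zero (by omega)
  letI := Fintype.ofFinite (AdjoinRoot p)
  haveI : Module.Finite (AdjoinRoot p) V := Module.Finite.of_finite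
  have hrank : Module.finrank (AdjoinRoot p) V = 2 := by
    have e := Module.natCard_eq_pow_finrank (K := AdjoinRoot p) (V := V)
    rw [hV, hF] at e
    exact (Nat.pow_right_injective (show 2 ≤ 4 by norm_num) (e.symm.trans (show (16 : ℕ) = 4 ^ 2 by norm_num)) :)
  let el : V ≃ₗ[AdjoinRoot p] (Fin 2 → AdjoinRoot p) := (Module.finBasisOfFinrankEq _ V hrank).equivFun
  refine ⟨AdjoinRoot p, inferInstance, inferInstance, by rw [← Nat.card_eq_fintype_card, hF], el.toAddEquiv,
    fun ψ hψ s y => ?_⟩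
  have key : ∀ (q : (ZMod 2)[X]) (x : V), ψ (aeval L q x) = aeval L q (ψ x) := by
    intro q
    induction q using Polynomial.induction_on' with
    | add q r hq hr => intro x; simp only [map_add, LinearMap.add_apply, hq, hr]
    | monomial n c =>
      intro x
      induction n generalizing x with
      | zero =>
        simp only [monomial_zero_left, aeval_C, Module.algebraMap_end_apply]
        exact ZMod.map_smul ψ c x
      | succ n ih =>
        rw [show monomial (n + 1) c = monomial n c * X by rw [monomial_mul_X], map_mul, aeval_X,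
          Module.End.mul_apply, Module.End.mul_apply, ih]
        exact congrArg _ (hψ x)
  obtain ⟨q, rfl⟩ := AdjoinRoot.mk_surjective s
  show el (ψ (el.symm (AdjoinRoot.mk p q • y))) = AdjoinRoot.mk p q • el (ψ (el.symm y))
  rw [map_smul, show AdjoinRoot.mk p q • el.symm y = aeval L q (el.symm y) from rfl, key,
    ← map_smul el (AdjoinRoot.mk p q)]
  rfl

variable {G : Type*} [Group G] [Finite G] {Ω : Type*} [MulAction G Ω] [Finite Ω] {a b : Ω} {u w : ℕ} {z v : G}
variable (h : Conf G Ω a b u w)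
include h

/-- A point stabiliser has a central element of order three. -/
theorem Conf.central_three (k : KleinV a b z v) (hu : u = 3) (hn : Nat.card Ω = 16) (hf : fix Ω z = 4)
    (hfull : Full Ω z v) :
    ∃ c : G, c • a = a ∧ c * c * c = 1 ∧ c ≠ 1 ∧ c * z = z * c ∧ ∀ l : G, l • a = a → l * c = c * l := by
  classical
  have heven : Nat.card Ω % 2 = 0 := by rw [hn]
  have hL : Nat.card ↥(stabilizer G a) = 180 := by rw [h.card_stab, hn, hu]
  have hCL : Nat.card ↥(CL G a z) = 12 := by rw [h.card_cen_stab k, hf]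
  have hcv : ∀ x ∈ CL G a z, x * v = v * x := fun x hx => by
    have := (h.full_comm k heven hfull).symm ▸ hx
    exact mem_cen.mp this.2
  -- the three involutions
  letI := Fintype.ofFinite G
  have hinv : ∀ x : G, Inv2 a b x → x = z ∨ x = v ∨ x = z * v := by
    have hne1 : z * v ≠ z := fun e => k.hv.ne_one (mul_eq_left.mp e)
    have hne2 : z * v ≠ v := fun e => k.hz.ne_one (mul_eq_right.mp e)
    have e : ({z, v, z * v} : Finset G) = Finset.univ.filter fun x => Inv2 a b x := by
      refine Finset.eq_of_subset_of_card_le ?_ ?_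
      · intro x hx
        simp only [Finset.mem_insert, Finset.mem_singleton] at hx
        rcases hx with rfl | rfl | rfl <;> simp [k.hz, k.hv, k.inv2_mul]
      · rw [Finset.card_eq_three.mpr ⟨z, v, z * v, Ne.symm k.ne, hne1.symm, hne2.symm, rfl⟩, ← Fintype.card_coe,
          ← Nat.card_eq_fintype_card, Nat.card_congr (Equiv.subtypeEquivRight (fun x => by simp) :
            _ ≃ {x : G // Inv2 a b x}), h.invol, hu]
    intro x hx
    have : x ∈ ({z, v, z * v} : Finset G) := by rw [e]; simp [hx]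
    simpa using this
  have hcommI : ∀ x y : G, Inv2 a b x → Inv2 a b y → Commute x y := fun x y hx hy => by
    have c₁ : Commute z v := k.comm.symm
    rcases hinv x hx with rfl | rfl | rfl <;> rcases hinv y hy with rfl | rfl | rfl
    exacts [.refl _, c₁, (Commute.refl _).mul_right c₁, c₁.symm, .refl _, c₁.symm.mul_right (.refl _),
      ((Commute.refl _).mul_right c₁).symm, (c₁.symm.mul_right (.refl _)).symm, .refl _]
  let N : Subgroup G :=
    { carrier := {g | g • a = a ∧ ∀ x : G, Inv2 a b (g * x * g⁻¹) ↔ Inv2 a b x}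
      one_mem' := ⟨one_smul _ _, fun x => by simp⟩
      mul_mem' := by
        rintro g g' ⟨ga, hg⟩ ⟨ga', hg'⟩
        refine ⟨by rw [mul_smul, ga', ga], fun x => ?_⟩
        rw [show g * g' * x * (g * g')⁻¹ = g * (g' * x * g'⁻¹) * g⁻¹ by group, hg, hg']
      inv_mem' := by
        rintro g ⟨ga, hg⟩
        refine ⟨inv_smul_eq_iff.mpr ga.symm, fun x => ?_⟩
        rw [← hg (g⁻¹ * x * g⁻¹⁻¹)]
        group }
  have hNmem : ∀ {g : G}, g ∈ N ↔ g • a = a ∧ ∀ x : G, Inv2 a b (g * x * g⁻¹) ↔ Inv2 a b x := Iff.rfl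
  have hCLN : CL G a z ≤ N := by
    intro g hg
    obtain ⟨ga, gz⟩ := mem_CL.mp hg
    have hfixed : ∀ x, Inv2 a b x → g * x * g⁻¹ = x := fun x hx => by
      rcases hinv x hx with rfl | rfl | rfl
      · exact mul_inv_eq_iff_eq_mul.mpr gz
      · exact mul_inv_eq_iff_eq_mul.mpr (hcv g hg)
      · exact mul_inv_eq_iff_eq_mul.mpr (Commute.mul_right gz (hcv g hg)).eq
    refine hNmem.mpr ⟨ga, fun x => ⟨fun hx => ?_, fun hx => (hfixed x hx).symm ▸ hx⟩⟩
    have := hfixed _ hx
    have e : x = g * x * g⁻¹ := by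
      have e' := mul_left_cancel (mul_right_cancel this)
      calc x = g⁻¹ * (g * x * g⁻¹) * g := by group
        _ = g * x * g⁻¹ := by
          rw [mul_assoc g⁻¹]
          nth_rw 1 [← this]
          group
    rwa [← e] at hx
  let ψ : ↥N →* Equiv.Perm {x : G // Inv2 a b x} :=
    { toFun := fun g =>
        { toFun := fun x => ⟨(g : G) * x * (g : G)⁻¹, (g.2.2 x).mpr x.2⟩
          invFun := fun x => ⟨(g : G)⁻¹ * x * (g : G), (g.2.2 _).mp (by
            rw [show (g : G) * ((g : G)⁻¹ * x * g) * (g : G)⁻¹ = x by group]; exact x.2)⟩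
          left_inv := fun x => Subtype.ext (show (g : G)⁻¹ * ((g : G) * x * (g : G)⁻¹) * g = x by group)
          right_inv := fun x => Subtype.ext (show (g : G) * ((g : G)⁻¹ * x * g) * (g : G)⁻¹ = x by group) }
      map_one' := Equiv.ext fun x => Subtype.ext (show ((1 : ↥N) : G) * x * ((1 : ↥N) : G)⁻¹ = x by simp)
      map_mul' := fun g g' => Equiv.ext fun x => Subtype.ext
        (show ((g : G) * g') * x * ((g : G) * g')⁻¹ = (g : G) * ((g' : G) * x * (g' : G)⁻¹) * (g : G)⁻¹ by group) }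
  have hψ : ∀ g : ↥N, ψ g = 1 ↔ (g : G) ∈ CL G a z := fun g => by
    refine ⟨fun e => mem_CL.mpr ⟨g.2.1, ?_⟩, fun hg => Equiv.ext fun x => Subtype.ext ?_⟩
    · exact mul_inv_eq_iff_eq_mul.mp (congrArg Subtype.val (congrArg (fun σ : Equiv.Perm _ => σ ⟨z, k.hz⟩) e) :)
    · show (g : G) * x * (g : G)⁻¹ = x
      rw [mul_inv_eq_iff_eq_mul]
      rcases hinv _ x.2 with e | e | e <;> rw [e]
      · exact (mem_CL.mp hg).2
      · exact hcv _ hg
      · exact (Commute.mul_right (mem_CL.mp hg).2 (hcv _ hg)).eq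
  have hker : Nat.card ↥ψ.ker = 12 := by
    rw [← hCL]
    exact Nat.card_congr
      { toFun := fun g => ⟨g.1.1, (hψ g.1).mp g.2⟩
        invFun := fun g => ⟨⟨g.1, hCLN g.2⟩, (hψ _).mpr g.2⟩
        left_inv := fun _ => rfl
        right_inv := fun _ => rfl }
  have hr6 : Nat.card ↥ψ.range ∣ 6 := by
    have := Subgroup.card_subgroup_dvd_card ψ.range
    rwa [Nat.card_perm, h.invol, hu] at this
  obtain ⟨g, ga, gb, hg⟩ := h.conj z v k.hz k.hv
  have hgN : g ∈ N := by
    refine hNmem.mpr ⟨ga, fun x => ⟨fun H => ?_, fun H => ?_⟩⟩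
    · have e : ∀ {p : Ω}, g • p = p → (g * x * g⁻¹) • p = p → x • p = p := fun {p} gp hp => by
        nth_rw 1 [← gp] at hp
        rw [smul_conj_smul] at hp
        exact smul_left_cancel g (hp.trans gp.symm)
      refine ⟨e ga H.fa, e gb H.fb, ?_, fun e' => H.ne_one (by rw [e']; group)⟩
      calc x * x = g⁻¹ * (g * x * g⁻¹ * (g * x * g⁻¹)) * g := by group
        _ = 1 := by rw [H.sq]; group
    · exact ⟨by nth_rw 1 [← ga]; rw [smul_conj_smul, H.fa, ga], by nth_rw 1 [← gb]; rw [smul_conj_smul, H.fb, gb],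
        mul_self_conj H.sq, fun e => H.ne_one (conj_eq_one_iff.mp e)⟩
  have hNcard : Nat.card ↥N = 12 * Nat.card ↥ψ.range := by
    rw [← Subgroup.index_ker, ← hker, Subgroup.card_mul_index]
  have hNL : N ≤ stabilizer G a := fun x hx => mem_stabilizer_iff.mpr hx.1
  have hr3 : Nat.card ↥ψ.range = 3 := by
    have hd := Subgroup.card_dvd_of_le hNL
    rw [hNcard, hL, show 180 = 12 * 15 by norm_num] at hd
    have hd3 : Nat.card ↥ψ.range ∣ 3 := by
      have := Nat.dvd_gcd hr6 (Nat.dvd_of_mul_dvd_mul_left (by norm_num) hd)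
      simpa using this
    rcases (Nat.dvd_prime (by norm_num : Nat.Prime 3)).mp hd3 with e | e
    · exfalso
      haveI := (Nat.card_eq_one_iff_unique.mp e).1
      have e1 : ψ ⟨g, hgN⟩ = 1 := congrArg Subtype.val (Subsingleton.elim (⟨_, ⟨g, hgN⟩, rfl⟩ : ↥ψ.range) 1)
      have := (mem_CL.mp ((hψ _).mp e1)).2
      exact k.ne (mul_right_cancel (hg.symm.trans this))
    · exact e
  -- involutions of `N`
  have hNinv : ∀ x ∈ N, x * x = 1 → x ≠ 1 → Inv2 a b x := by
    intro x hx hx2 hx1
    have e1 : ψ ⟨x, hx⟩ = 1 := by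
      have e2 : ψ ⟨x, hx⟩ * ψ ⟨x, hx⟩ = 1 := by
        rw [← map_mul, show (⟨x, hx⟩ : ↥N) * ⟨x, hx⟩ = 1 from Subtype.ext hx2, map_one]
      have e3 : (⟨_, ⟨x, hx⟩, rfl⟩ : ↥ψ.range) ^ 3 = 1 := hr3 ▸ pow_card_eq_one'
      have e3' : ψ ⟨x, hx⟩ ^ 3 = 1 := congrArg Subtype.val e3
      rwa [pow_succ, pow_two, e2, one_mul] at e3'
    have hxC := (hψ _).mp e1
    set V := CL G a z ⊓ stabilizer G b
    have hVC : V ≤ CL G a z := inf_le_left
    haveI : (V.subgroupOf (CL G a z)).Normal := ⟨fun m hm y => by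
      have hm' := k.all (m : G) (mem_CL.mp m.2).1 (mem_stabilizer_iff.mp (Subgroup.mem_subgroupOf.mp hm).2)
        (mem_CL.mp m.2).2
      have hc : (y : G) * m = (m : G) * y := by
        rcases hm' with e | e | e | e <;> rw [e]
        · rw [mul_one, one_mul]
        · exact (mem_CL.mp y.2).2
        · exact hcv _ y.2
        · exact (Commute.mul_right (mem_CL.mp y.2).2 (hcv _ y.2)).eq
      rwa [show y * m * y⁻¹ = m from Subtype.ext (mul_inv_eq_iff_eq_mul.mpr hc)]⟩
    have hidx : (V.subgroupOf (CL G a z)).index = 3 := by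
      have e := (V.subgroupOf (CL G a z)).index_mul_card
      rw [Nat.card_congr (Subgroup.subgroupOfEquivOfLe hVC).toEquiv, k.card, hCL] at e
      omega
    have := Subgroup.pow_index_mem (V.subgroupOf (CL G a z)) ⟨x, hxC⟩
    rw [hidx, Subgroup.mem_subgroupOf] at this
    have hxV : x ∈ V := by
      have e : x ^ 3 = x := by rw [pow_succ, pow_two, hx2, one_mul]
      rw [← e]
      exact this
    exact ⟨hxV.1.1, mem_stabilizer_iff.mp hxV.2, hx2, hx1⟩
  -- the kernel of the action on the five conjugates of the four-group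
  set L := stabilizer G a with hLdef
  set N' := N.subgroupOf L with hN'
  have hN'card : Nat.card ↥N' = 36 := by
    rw [Nat.card_congr (Subgroup.subgroupOfEquivOfLe hNL).toEquiv, hNcard, hr3]
  have hN'idx : N'.index = 5 := by
    have := N'.index_mul_card
    rw [hN'card, hL] at this
    omega
  set M := N'.normalCore with hM
  have hMN : ∀ m ∈ M, (m : G) ∈ N := fun m hm => Subgroup.mem_subgroupOf.mp (N'.normalCore_le hm)
  have hMd : M.index ∣ 120 := by
    rw [hM, Subgroup.normalCore_eq_ker, Subgroup.index_ker]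
    have := Subgroup.card_subgroup_dvd_card (MulAction.toPermHom ↥L (↥L ⧸ N')).range
    rwa [Nat.card_perm, ← Subgroup.index_eq_card, hN'idx] at this
  have hMeven : ¬ 2 ∣ Nat.card ↥M := by
    intro h2
    haveI : Fact (Nat.Prime 2) := ⟨Nat.prime_two⟩
    obtain ⟨⟨⟨x, hxa⟩, hxM⟩, hx⟩ := exists_prime_orderOf_dvd_card' (G := ↥M) 2 h2
    rw [← Subgroup.orderOf_coe, ← Subgroup.orderOf_coe] at hx
    have hx2 : x * x = 1 := by
      have := pow_orderOf_eq_one x
      rwa [hx, pow_two] at this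
    have hx1 : x ≠ 1 := fun e => by rw [orderOf_eq_one_iff.mpr e] at hx; omega
    have hxI := hNinv x (hMN _ hxM) hx2 hx1
    have hall : ∀ l ∈ L, ∀ y, Inv2 a b y → Inv2 a b (l * y * l⁻¹) := by
      intro l hl y hy
      obtain ⟨s, sa, -, hs⟩ := h.conj x y hxI hy
      have hmem : (⟨l, hl⟩ * ⟨s, mem_stabilizer_iff.mpr sa⟩ : ↥L) * ⟨x, hxa⟩ *
          (⟨l, hl⟩ * ⟨s, mem_stabilizer_iff.mpr sa⟩)⁻¹ ∈ M :=
        Subgroup.Normal.conj_mem inferInstance _ hxM _
      have hy' : l * y * l⁻¹ = (l * s) * x * (l * s)⁻¹ := by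
        rw [show l * s * x * (l * s)⁻¹ = l * (s * x * s⁻¹) * l⁻¹ by group, mul_inv_eq_iff_eq_mul.mpr hs]
      rw [hy']
      exact hNinv _ (hMN _ hmem) (mul_self_conj hx2) (fun e => hx1 (conj_eq_one_iff.mp e))
    have hle : L ≤ N := fun l hl => hNmem.mpr ⟨mem_stabilizer_iff.mp hl, fun y => ⟨fun H => by
      have := hall l⁻¹ (inv_mem hl) _ H
      rwa [show l⁻¹ * (l * y * l⁻¹) * l⁻¹⁻¹ = y by group] at this, hall l hl y⟩⟩
    have := Subgroup.card_le_of_le hle
    rw [hL, hNcard, hr3] at this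
    omega
  have hMI : ∀ m ∈ M, ∀ y, Inv2 a b y → (m : G) * y = y * (m : G) := by
    intro m hm y hy
    have hyL : y ∈ L := mem_stabilizer_iff.mpr hy.fa
    have hy' := ((hNmem.mp (hMN m hm)).2 y).mpr hy
    have hmem : m * (⟨y, hyL⟩ * m⁻¹ * (⟨y, hyL⟩ : ↥L)⁻¹) ∈ M :=
      mul_mem hm (Subgroup.Normal.conj_mem inferInstance _ (inv_mem hm) _)
    have hval : ((m * (⟨y, hyL⟩ * m⁻¹ * (⟨y, hyL⟩ : ↥L)⁻¹) : ↥L) : G) = (m : G) * y * (m : G)⁻¹ * y := by
      show (m : G) * (y * (m : G)⁻¹ * y⁻¹) = _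
      rw [inv_eq_of_mul_eq_one_right hy.sq]; group
    by_contra hne
    have hne1 : (m : G) * y * (m : G)⁻¹ * y ≠ 1 := fun e =>
      hne (mul_inv_eq_iff_eq_mul.mp ((eq_inv_of_mul_eq_one_left e).trans (inv_eq_of_mul_eq_one_right hy.sq)))
    have hsq : (m : G) * y * (m : G)⁻¹ * y * ((m : G) * y * (m : G)⁻¹ * y) = 1 := by
      have hc : y * ((m : G) * y * (m : G)⁻¹) = (m : G) * y * (m : G)⁻¹ * y := by
        exact (hcommI _ _ hy hy').eq
      set r := (m : G) * y * (m : G)⁻¹
      calc r * y * (r * y) = r * (y * r) * y := by group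
        _ = (r * r) * (y * y) := by rw [hc]; group
        _ = 1 := by rw [hy'.sq, hy.sq, one_mul]
    have ho : orderOf (⟨_, hmem⟩ : ↥M) = 2 := by
      rw [← Subgroup.orderOf_coe, ← Subgroup.orderOf_coe, hval]
      exact orderOf_eq_prime (by rw [pow_two]; exact hsq) hne1
    exact hMeven (ho ▸ orderOf_dvd_natCard _)
  have hM3 : Nat.card ↥M = 3 := by
    have hd36 : Nat.card ↥M ∣ 36 := hN'card ▸ Subgroup.card_dvd_of_le N'.normalCore_le
    have hd12 : Nat.card ↥M ∣ 12 := by
      rw [← hCL]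
      refine dvd_trans (dvd_of_eq ?_) (Subgroup.card_dvd_of_le (?_ : M.map L.subtype ≤ CL G a z))
      · exact (Subgroup.card_map_of_injective L.subtype_injective).symm
      · rintro _ ⟨m, hm, rfl⟩
        exact mem_CL.mpr ⟨mem_stabilizer_iff.mp m.2, hMI m hm z k.hz⟩
    have e := M.index_mul_card
    rw [hL] at e
    have hd3 : 3 ∣ Nat.card ↥M := by
      have h9 : 9 ∣ M.index * Nat.card ↥M := by rw [e]; norm_num
      have h9' : ¬ 9 ∣ M.index := fun hh => absurd (hh.trans hMd) (by norm_num)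
      by_contra h3
      exact h9' ((Nat.Coprime.pow_left 2 ((Nat.Prime.coprime_iff_not_dvd (by norm_num)).mpr h3) :
        Nat.Coprime (3 ^ 2) _).dvd_of_dvd_mul_right h9)
    have : ∀ x < 13, x ∣ 12 → 3 ∣ x → ¬ 2 ∣ x → x = 3 := by decide
    exact this _ (Nat.lt_succ_of_le (Nat.le_of_dvd (by norm_num) hd12)) hd12 hd3 hMeven
  haveI : Fact (Nat.Prime 3) := ⟨by norm_num⟩
  haveI : IsCyclic ↥M := isCyclic_of_prime_card hM3
  obtain ⟨c, hc⟩ : ∃ c : ↥M, c ≠ 1 := by
    haveI : Nontrivial ↥M := Finite.one_lt_card_iff_nontrivial.mp (by omega)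
    exact exists_ne 1
  set χ : ↥L →* MulAut ↥M := MulAut.conjNormal
  have htop : χ.ker = ⊤ := by
    have hd : χ.ker.index ∣ 2 := by
      rw [Subgroup.index_ker]
      have := Subgroup.card_subgroup_dvd_card χ.range
      rwa [IsCyclic.card_mulAut, hM3, Nat.totient_prime (by norm_num : Nat.Prime 3)] at this
    have h4 : 4 ∣ Nat.card ↥χ.ker := by
      refine dvd_trans (dvd_of_eq k.card.symm) (dvd_trans (dvd_of_eq ?_)
        (Subgroup.card_dvd_of_le (?_ : (CL G a z ⊓ stabilizer G b).subgroupOf L ≤ χ.ker)))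
      · exact (Nat.card_congr (Subgroup.subgroupOfEquivOfLe (inf_le_left.trans inf_le_left)).toEquiv).symm
      · intro x hx
        rw [MonoidHom.mem_ker]
        refine MulEquiv.ext fun m => Subtype.ext (Subtype.ext ?_)
        show (x : G) * ((m : ↥L) : G) * (x : G)⁻¹ = ((m : ↥L) : G)
        rw [mul_inv_eq_iff_eq_mul]
        have hx' := Subgroup.mem_subgroupOf.mp hx
        rcases k.all (x : G) (mem_stabilizer_iff.mp x.2) (mem_stabilizer_iff.mp hx'.2) (mem_CL.mp hx'.1).2
          with e | e | e | e <;> rw [e]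
        · rw [one_mul, mul_one]
        · exact (hMI _ m.2 z k.hz).symm
        · exact (hMI _ m.2 v k.hv).symm
        · exact (hMI _ m.2 _ k.inv2_mul).symm
    rcases (Nat.dvd_prime Nat.prime_two).mp hd with e | e
    · exact Subgroup.index_eq_one.mp e
    · exfalso
      have := χ.ker.index_mul_card
      rw [hL, e] at this
      omega
  refine ⟨((c : ↥L) : G), mem_stabilizer_iff.mp (c : ↥L).2, ?_, ?_, hMI _ c.2 z k.hz, fun l hl => ?_⟩
  · have : c ^ 3 = 1 := hM3 ▸ pow_card_eq_one'
    have := congrArg (fun x : ↥M => ((x : ↥L) : G)) this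
    simpa [pow_succ, pow_two] using this
  · exact fun e => hc (Subtype.ext (Subtype.ext e))
  · have hl' : (⟨l, mem_stabilizer_iff.mpr hl⟩ : ↥L) ∈ χ.ker := htop ▸ trivial
    rw [MonoidHom.mem_ker] at hl'
    have := congrArg (fun x : ↥M => ((x : ↥L) : G)) (congrArg (fun f : MulAut ↥M => f c) hl')
    exact mul_inv_eq_iff_eq_mul.mp this

/-- In degree sixteen the group is the affine group of the plane over the field with four elements. -/
theorem Conf.sixteen (k : KleinV a b z v) (hu : u = 3) (hn : Nat.card Ω = 16) (hf : fix Ω z = 4)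
    (hfull : Full Ω z v) (ht : ∃ t : G, Swap a b t ∧ t * t = 1 ∧ fix Ω t = 0 ∧
      ∀ x : G, Swap a b x → x * x = 1 → fix Ω x = 0 → x = t) :
    ∃ (F : Type) (_ : Field F) (_ : Fintype F), Fintype.card F = 4 ∧
      Nonempty (G ≃* ((Fin 2 → F) ≃ᵃ[F] (Fin 2 → F))) := by
  classical
  obtain ⟨c, hca, hc3, hc1, hcz, hcL⟩ := h.central_three k hu hn hf hfull
  obtain ⟨t, hts, ht2, htf, huniq⟩ := ht
  let Tp : G → Prop := fun s => s * s = 1 ∧ ∀ q : Ω, s • q ≠ q
  have hTf : ∀ s : G, Tp s ↔ s * s = 1 ∧ fix Ω s = 0 := fun s => and_congr_right fun _ =>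
    ⟨fun H => Nat.card_eq_zero.mpr (Or.inl ⟨fun q => H q.1 q.2⟩),
      fun H q e => ((Nat.card_eq_zero.mp H).resolve_right (not_infinite_iff_finite.mpr inferInstance)).false ⟨q, e⟩⟩
  have hTt : Tp t := (hTf t).mpr ⟨ht2, htf⟩
  have hTconj : ∀ (g : G) {s : G}, Tp s → Tp (g * s * g⁻¹) := fun g s hs => ⟨mul_self_conj hs.1, fun q e => by
    refine hs.2 (g⁻¹ • q) ?_
    rw [mul_smul, mul_smul] at e
    exact eq_inv_smul_iff.mpr e⟩
  have hTuniq : ∀ {p q : Ω}, p ≠ q → ∀ {s s' : G}, Tp s → Tp s' → s • p = q → s' • p = q → s = s' := by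
    intro p q hpq s s' hs hs' e e'
    obtain ⟨g, g1, g2⟩ := h.pairs p q a b hpq h.ne
    have key : ∀ {s : G}, Tp s → s • p = q → g * s * g⁻¹ = t := fun {s} hs e => by
      have hs2 := (hTf _).mp (hTconj g hs)
      refine huniq _ ⟨?_, ?_⟩ hs2.1 hs2.2
      · rw [← g1, smul_conj_smul, e, g2]
      · rw [← g2, smul_conj_smul, swap_back hs.1 e, g1]
    exact mul_left_cancel (mul_right_cancel ((key hs e).trans (key hs' e').symm))
  -- `c` fixes only `a`
  have hcfree : ∀ p, c • p = p → p = a := by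
    intro p hp
    by_contra hpa
    refine hc1 (h.faithful c fun q => ?_)
    by_cases hqa : q = a
    · rw [hqa, hca]
    · obtain ⟨g, ga, gq⟩ := h.pairs a p a q (Ne.symm hpa) (Ne.symm hqa)
      rw [← gq, ← mul_smul, ← hcL g ga, mul_smul, hp]
  -- elements fixing both points
  have hKc : ∀ g : G, g • a = a → g • b = b → g * c = c * g := fun g ga _ => hcL g ga
  have hKt : ∀ g : G, g • a = a → g • b = b → g * t = t * g := fun g ga gb => by
    refine mul_inv_eq_iff_eq_mul.mp (hTuniq h.ne (hTconj g hTt) hTt ?_ hts.1)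
    nth_rw 1 [← ga]
    rw [smul_conj_smul, hts.1, gb]
  have hKcen : ∀ d : G, d • a = a → d • b = b → (∀ g : G, g • a = a → g • b = b → g * d = d * g) → d = 1 := by
    intro d da db hd
    have hI : ¬ Inv2 a b d := fun H => by
      have e : ∀ y, Inv2 a b y → y = d := fun y hy => by
        obtain ⟨g, ga, gb, hg⟩ := h.conj d y H hy
        exact (mul_right_cancel ((hd g ga gb).symm.trans hg)).symm
      exact k.ne ((e v k.hv).trans (e z k.hz).symm)
    rcases k.all d da db (hd z k.hz.fa k.hz.fb).symm with e | e | e | e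
    · exact e
    all_goals exfalso; apply hI; rw [e]
    exacts [k.hz, k.hv, k.inv2_mul]
  -- the four fixed points
  have hc3' : ∀ p : Ω, c • c • c • p = p := fun p => by
    rw [← mul_smul, ← mul_smul, hc3, one_smul]
  have hcinv : ∀ p : Ω, c⁻¹ • p = c • c • p := fun p => by
    rw [inv_smul_eq_iff, hc3']
  have hcb : c • b ≠ b := fun e => h.ne (hcfree b e).symm
  have hcba : c • b ≠ a := fun e => h.ne (smul_left_cancel c (e.trans hca.symm)).symm
  have hccba : c • c • b ≠ a := fun e => hcba (smul_left_cancel c (e.trans hca.symm))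
  have hccb : c • c • b ≠ b := fun e => hcb (by
    conv_lhs => rw [← e]
    exact hc3' b)
  have hccb2 : c • c • b ≠ c • b := fun e => hcb (smul_left_cancel c e)
  have hzc : ∀ p : Ω, z • p = p → z • c • p = c • p := fun p hp => fix_of_comm hcz hp
  have hfour : ∀ p : Ω, z • p = p → p = a ∨ p = b ∨ p = c • b ∨ p = c • c • b := by
    letI := Fintype.ofFinite Ω
    have e : ({a, b, c • b, c • c • b} : Finset Ω) = Finset.univ.filter fun p => z • p = p := by
      refine Finset.eq_of_subset_of_card_le ?_ ?_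
      · intro p hp
        simp only [Finset.mem_insert, Finset.mem_singleton] at hp
        rcases hp with rfl | rfl | rfl | rfl <;> simp [k.hz.fa, k.hz.fb, hzc]
      · have e4 : ({a, b, c • b, c • c • b} : Finset Ω).card = 4 := Finset.card_eq_four.mpr
          ⟨a, b, c • b, c • c • b, h.ne, hcba.symm, hccba.symm, hcb.symm, hccb.symm, hccb2.symm, rfl⟩
        rw [e4, ← hf, ← Fintype.card_coe, ← Nat.card_eq_fintype_card]
        exact le_of_eq (Nat.card_congr (Equiv.subtypeEquivRight fun p => by simp))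
    intro p hp
    have : p ∈ ({a, b, c • b, c • c • b} : Finset Ω) := by rw [e]; simp [hp]
    simpa using this
  have htcb : t • c • b = c • c • b := by
    rcases hfour _ (fix_of_comm (hKt z k.hz.fa k.hz.fb).symm (hzc b k.hz.fb)) with e | e | e | e
    · exact absurd (smul_left_cancel t (e.trans hts.2.symm)) hcb
    · exact absurd (smul_left_cancel t (e.trans hts.1.symm)) hcba
    · exact absurd e (hTt.2 _)
    · exact e
  have htccb : t • c • c • b = c • b := swap_back ht2 htcb
  -- the product of two conjugates of `t`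
  have hrel : t * (c * t * c⁻¹) = c * c * t * (c * c)⁻¹ := by
    refine (inv_mul_eq_one.mp (hKcen ((c * c * t * (c * c)⁻¹)⁻¹ * (t * (c * t * c⁻¹))) ?_ ?_ ?_)).symm
    · rw [mul_smul, inv_smul_eq_iff]
      simp only [mul_smul, mul_inv_rev, inv_smul_eq_iff.mpr hca.symm, hts.1, htcb]
    · rw [mul_smul, inv_smul_eq_iff]
      simp only [mul_smul, mul_inv_rev, hcinv b, htccb]
      rw [hcinv (c • c • b), hc3', htcb, hc3']
    · intro g ga gb
      have h1 : Commute g c := hKc g ga gb
      have h2 : Commute g t := hKt g ga gb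
      exact ((((h1.mul_right h1).mul_right h2).mul_right (h1.mul_right h1).inv_right).inv_right.mul_right
        (h2.mul_right ((h1.mul_right h2).mul_right h1.inv_right))).eq
  have htinv : t⁻¹ = t := inv_eq_of_mul_eq_one_right ht2
  have hbase : Tp (c * (t * c * t⁻¹)⁻¹) := by
    have e : c * (t * c * t⁻¹)⁻¹ = c * c * t * (c * c)⁻¹ := by
      calc c * (t * c * t⁻¹)⁻¹ = (c * t * c⁻¹) * t⁻¹ := by group
        _ = (t * (c * t⁻¹ * c⁻¹))⁻¹ := by group
        _ = (c * c * t * (c * c)⁻¹)⁻¹ := by rw [htinv, hrel]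
        _ = c * c * t⁻¹ * (c * c)⁻¹ := by simp only [mul_inv_rev, inv_inv, mul_assoc]
        _ = c * c * t * (c * c)⁻¹ := by rw [htinv]
    rw [e]
    exact hTconj _ hTt
  -- the conjugates of `c`
  let cp : Ω → G := fun p => (h.move (p := p)).choose * c * (h.move (p := p)).choose⁻¹
  have hcp : ∀ {g : G} {p : Ω}, g • a = p → g * c * g⁻¹ = cp p := by
    intro g p hg
    show _ = (h.move (p := p)).choose * c * (h.move (p := p)).choose⁻¹
    set g' := (h.move (p := p)).choose with hg'def
    have hg' : g' • a = p := (h.move (p := p)).choose_spec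
    have hl := hcL (g'⁻¹ * g) (by rw [mul_smul, hg, inv_smul_eq_iff, hg'])
    calc g * c * g⁻¹ = g' * (g'⁻¹ * g * c) * g⁻¹ := by group
      _ = g' * c * g'⁻¹ := by rw [hl]; group
  have hcpa : cp a = c := by rw [← hcp (one_smul G a)]; group
  have hcpc : ∀ (g : G) (p : Ω), cp (g • p) = g * cp p * g⁻¹ := fun g p => by
    obtain ⟨s, hs⟩ := h.move (p := p)
    rw [← hcp hs, ← hcp (show (g * s) • a = g • p by rw [mul_smul, hs])]
    group
  have hcpfree : ∀ {p q : Ω}, cp p • q = q → q = p := fun {p q} e => by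
    obtain ⟨s, hs⟩ := h.move (p := p)
    rw [← hcp hs, mul_smul, mul_smul] at e
    have := hcfree _ (eq_inv_smul_iff.mpr e)
    rw [← hs, ← this, smul_inv_smul]
  have hcpfix : ∀ p : Ω, cp p • p = p := fun p => by
    obtain ⟨s, hs⟩ := h.move (p := p)
    rw [← hcp hs]
    nth_rw 1 [← hs]
    rw [smul_conj_smul, hca, hs]
  have hpair : ∀ {p q : Ω}, p ≠ q → Tp (cp p * (cp q)⁻¹) := fun {p q} hpq => by
    obtain ⟨g, g1, g2⟩ := h.pairs a b p q h.ne hpq
    have hb : t * c * t⁻¹ = cp b := hcp hts.1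
    rw [← g1, ← g2, hcpc, hcpc, hcpa, ← hb,
      show g * c * g⁻¹ * (g * (t * c * t⁻¹) * g⁻¹)⁻¹ = g * (c * (t * c * t⁻¹)⁻¹) * g⁻¹ by group]
    exact hTconj g hbase
  have hTall : ∀ {s : G}, Tp s → ∃ p, p ≠ a ∧ s = c * (cp p)⁻¹ := by
    let F1 : {p : Ω // p ≠ a} → {s : G // Tp s} := fun p => ⟨c * (cp p)⁻¹, by
      have := hpair (Ne.symm p.2); rwa [hcpa] at this⟩
    let F2 : {s : G // Tp s} → {p : Ω // p ≠ a} := fun s => ⟨(s : G) • a, s.2.2 a⟩
    have hF1 : Function.Injective F1 := fun p q e => Subtype.ext (by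
      have e' : cp p = cp q := inv_injective (mul_left_cancel (congrArg Subtype.val e :))
      exact hcpfree (e'.symm ▸ hcpfix p : cp q • (p : Ω) = p))
    have hF2 : Function.Injective F2 := fun s s' e => Subtype.ext
      (hTuniq (Ne.symm (s.2.2 a)) s.2 s'.2 rfl (congrArg Subtype.val e :).symm)
    have hbij : Function.Bijective F1 := (Nat.bijective_iff_injective_and_card _).mpr ⟨hF1,
      le_antisymm (Nat.card_le_card_of_injective _ hF1) (Nat.card_le_card_of_injective _ hF2)⟩
    intro s hs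
    obtain ⟨p, hp⟩ := hbij.2 ⟨s, hs⟩
    exact ⟨p, p.2, (congrArg Subtype.val hp).symm⟩
  let R : Subgroup G :=
    { carrier := {s | s = 1 ∨ Tp s}
      one_mem' := Or.inl rfl
      mul_mem' := by
        rintro s s' (rfl | hs) (rfl | hs')
        · exact Or.inl (mul_one 1)
        · rw [one_mul]; exact Or.inr hs'
        · rw [mul_one]; exact Or.inr hs
        · obtain ⟨p, -, e⟩ := hTall hs
          obtain ⟨q, -, e'⟩ := hTall hs'
          have e2 : s * s' = cp p * (cp q)⁻¹ := by
            calc s * s' = s⁻¹ * s' := by rw [inv_eq_of_mul_eq_one_right hs.1]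
              _ = cp p * (cp q)⁻¹ := by rw [e, e']; group
          by_cases hpq : p = q
          · exact Or.inl (by rw [e2, hpq, mul_inv_cancel])
          · exact Or.inr (e2 ▸ hpair hpq)
      inv_mem' := by
        rintro s (rfl | hs)
        · exact Or.inl inv_one
        · exact Or.inr (by rwa [inv_eq_of_mul_eq_one_right hs.1]) }
  haveI hRn : R.Normal := ⟨by
    rintro s (rfl | hs) g
    · exact Or.inl (by group)
    · exact Or.inr (hTconj g hs)⟩
  have hR2 : ∀ s ∈ R, s * s = 1 := by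
    rintro s (rfl | hs)
    · exact one_mul 1
    · exact hs.1
  have hRcomm : ∀ x y : ↥R, x * y = y * x := fun x y => Subtype.ext (by
    show (x : G) * y = (y : G) * x
    have e := inv_eq_of_mul_eq_one_right (hR2 _ (mul_mem x.2 y.2))
    rw [mul_inv_rev, inv_eq_of_mul_eq_one_right (hR2 _ x.2), inv_eq_of_mul_eq_one_right (hR2 _ y.2)] at e
    exact e.symm)
  letI : CommGroup ↥R := { (inferInstance : Group ↥R) with mul_comm := hRcomm }
  have hRfree : ∀ s ∈ R, s • a = a → s = 1 := by
    rintro s (rfl | hs) e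
    · rfl
    · exact absurd e (hs.2 a)
  let π : Additive ↥R → Ω := fun x => ((Additive.toMul x : ↥R) : G) • a
  have hπ : Function.Bijective π := by
    refine ⟨fun x y e => ?_, fun p => ?_⟩
    · refine Additive.toMul.injective (Subtype.ext (inv_mul_eq_one.mp (hRfree _ (mul_mem (inv_mem (Subtype.prop _))
        (Subtype.prop _)) ?_)))
      rw [mul_smul, inv_smul_eq_iff]
      exact e.symm
    · by_cases hpa : p = a
      · exact ⟨0, (one_smul G a).trans hpa.symm⟩
      · obtain ⟨g, g1, g2⟩ := h.pairs a b a p h.ne (Ne.symm hpa)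
        refine ⟨Additive.ofMul ⟨g * t * g⁻¹, Or.inr (hTconj g hTt)⟩, ?_⟩
        show (g * t * g⁻¹) • a = p
        nth_rw 1 [← g1]
        rw [smul_conj_smul, hts.1, g2]
  let cj : G → Additive ↥R →+ Additive ↥R := fun g => MonoidHom.toAdditive (MulAut.conjNormal g).toMonoidHom
  have hcj : ∀ (g : G) (x : Additive ↥R),
      ((Additive.toMul (cj g x) : ↥R) : G) = g * ((Additive.toMul x : ↥R) : G) * g⁻¹ := fun g x => rfl
  have hΦ : ∀ x, cj c (cj c x) + cj c x + x = 0 := by
    intro x
    set y := cj c (cj c x) + cj c x + x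
    have hfix : cj c y = y := by
      have h3 : cj c (cj c (cj c x)) = x := Additive.toMul.injective (Subtype.ext (by
        rw [hcj, hcj, hcj]
        generalize ((Additive.toMul x : ↥R) : G) = s
        rw [show c * (c * (c * s * c⁻¹) * c⁻¹) * c⁻¹ = (c * c * c) * s * (c * c * c)⁻¹ by group, hc3]
        group))
      show cj c (cj c (cj c x) + cj c x + x) = cj c (cj c x) + cj c x + x
      rw [map_add, map_add, h3]
      abel
    have hy := congrArg (fun r : Additive ↥R => ((Additive.toMul r : ↥R) : G)) hfix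
    simp only [hcj] at hy
    refine Additive.toMul.injective (Subtype.ext (hRfree _ (Subtype.prop _) (hcfree _ ?_)))
    rw [← mul_smul, mul_inv_eq_iff_eq_mul.mp hy, mul_smul, hca]
  have hV16 : Nat.card (Additive ↥R) = 16 := by rw [Nat.card_congr (Equiv.ofBijective π hπ), hn]
  obtain ⟨F, iF, iFt, hF4, e, he⟩ := plane_of_cube (V := Additive ↥R)
    (fun x => Additive.toMul.injective (Subtype.ext (hR2 _ (Subtype.prop _)))) hV16 (cj c) hΦ
  refine ⟨F, iF, iFt, hF4, ?_⟩
  have hcjc : ∀ (g : G) (x : Additive ↥R), cj g (cj c x) = cj c (cj g x) := by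
    intro g x
    refine Additive.toMul.injective (Subtype.ext ?_)
    rw [hcj, hcj, hcj, hcj]
    have hr : g * c * g⁻¹ * c⁻¹ ∈ R := by
      rw [hcp (rfl : g • a = g • a)]
      conv in c⁻¹ => rw [← hcpa]
      by_cases hga : g • a = a
      · exact Or.inl (by rw [hga, mul_inv_cancel])
      · exact Or.inr (hpair hga)
    have hcm := congrArg Subtype.val (hRcomm ⟨_, hr⟩ ⟨_, hRn.conj_mem _ (hRn.conj_mem _
      (Subtype.prop (Additive.toMul x)) g) c⟩)
    simp only [Subgroup.coe_mul] at hcm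
    generalize ((Additive.toMul x : ↥R) : G) = s at hcm ⊢
    calc g * (c * s * c⁻¹) * g⁻¹
        = (g * c * g⁻¹ * c⁻¹) * (c * (g * s * g⁻¹) * c⁻¹) * (g * c * g⁻¹ * c⁻¹)⁻¹ := by group
      _ = c * (g * s * g⁻¹) * c⁻¹ := by rw [hcm]; group
  let ε : (Fin 2 → F) ≃ Ω := e.symm.toEquiv.trans (Equiv.ofBijective π hπ)
  have hmove : ∀ (g : G) (x : Additive ↥R),
      g • π x = π (cj g x + (Equiv.ofBijective π hπ).symm (g • a)) := by
    intro g x
    have e0 : π ((Equiv.ofBijective π hπ).symm (g • a)) = g • a :=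
      (Equiv.ofBijective π hπ).apply_symm_apply _
    show g • ((Additive.toMul x : ↥R) : G) • a = (((Additive.toMul (cj g x) : ↥R) : G) * _) • a
    rw [mul_smul, hcj]
    change _ = (g * _ * g⁻¹) • π ((Equiv.ofBijective π hπ).symm (g • a))
    rw [e0, smul_conj_smul]
  let lin : G → ((Fin 2 → F) ≃ₗ[F] (Fin 2 → F)) := fun g =>
    LinearEquiv.ofBijective
      { toFun := fun y => e (cj g (e.symm y))
        map_add' := fun y y' => by rw [map_add, map_add, map_add]
        map_smul' := fun s y => he (cj g) (hcjc g) s y }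
      (e.bijective.comp ((MulEquiv.bijective (MulAut.conjNormal g : ↥R ≃* ↥R) :
        Function.Bijective (cj g)).comp e.symm.bijective))
  let aff : G → ((Fin 2 → F) ≃ᵃ[F] (Fin 2 → F)) := fun g =>
    { toEquiv := (ε.trans (MulAction.toPerm g)).trans ε.symm
      linear := lin g
      map_vadd' := fun p y => by
        show ε.symm (g • ε (y +ᵥ p)) = lin g y +ᵥ ε.symm (g • ε p)
        rw [Equiv.symm_apply_eq]
        have hεa : ∀ q, ε q = π (e.symm q) := fun q => rfl
        have hεs : ∀ q, ε.symm q = e ((Equiv.ofBijective π hπ).symm q) := fun q => rfl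
        rw [hεs, hεa, hεa, hεa, hmove g, hmove g]
        refine congrArg π ?_
        rw [Equiv.ofBijective_symm_apply_apply, vadd_eq_add, vadd_eq_add, map_add, map_add, map_add,
          e.symm_apply_apply]
        show cj g (e.symm y) + _ + _ = e.symm (e (cj g (e.symm y))) + _
        rw [e.symm_apply_apply]
        abel }
  let hom : G →* ((Fin 2 → F) ≃ᵃ[F] (Fin 2 → F)) := MonoidHom.mk' aff fun g g' => AffineEquiv.ext fun y => by
    show ε.symm ((g * g') • ε y) = ε.symm (g • ε (ε.symm (g' • ε y)))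
    rw [Equiv.apply_symm_apply, mul_smul]
  have hinj : Function.Injective hom := (injective_iff_map_eq_one hom).mpr fun g hg => h.faithful g fun q => by
    have e1 : ε.symm (g • ε (ε.symm q)) = ε.symm q := congrArg (fun f : _ ≃ᵃ[F] _ => f (ε.symm q)) hg
    rwa [Equiv.apply_symm_apply, EmbeddingLike.apply_eq_iff_eq] at e1
  have hcardA : Nat.card ((Fin 2 → F) ≃ᵃ[F] (Fin 2 → F)) = 2880 := by
    let eA : ((Fin 2 → F) ≃ᵃ[F] (Fin 2 → F)) ≃ (Fin 2 → F) × ((Fin 2 → F) ≃ₗ[F] (Fin 2 → F)) :=
      { toFun := fun f => (f 0, f.linear)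
        invFun := fun x => x.2.toAffineEquiv.trans (AffineEquiv.constVAdd F (Fin 2 → F) x.1)
        left_inv := fun f => AffineEquiv.ext fun y => by
          show f 0 + f.linear y = f y
          have := f.map_vadd 0 y
          rw [vadd_eq_add, vadd_eq_add, add_zero] at this
          rw [this, add_comm]
        right_inv := fun x => Prod.ext (by
          show x.1 + x.2 0 = x.1
          rw [map_zero, add_zero]) (LinearEquiv.ext fun y => rfl) }
    rw [Nat.card_congr eA, Nat.card_prod, Nat.card_fun, Nat.card_fin,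
      ← Nat.card_congr (LinearMap.GeneralLinearGroup.generalLinearEquiv F (Fin 2 → F)).toEquiv,
      ← Nat.card_congr (Matrix.GeneralLinearGroup.toLin (n := Fin 2) (R := F)).toEquiv, Matrix.card_GL_field,
      Nat.card_eq_fintype_card, hF4]
    simp [Fin.prod_univ_two]
  haveI : Finite ((Fin 2 → F) ≃ᵃ[F] (Fin 2 → F)) := Nat.finite_of_card_ne_zero (by omega)
  refine ⟨MulEquiv.ofBijective hom ((Nat.bijective_iff_injective_and_card _).mpr ⟨hinj, ?_⟩)⟩
  rw [hcardA, h.card_group, hn, hu]

end CfsgLib.TwoPointStab
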